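import Mathlib

set_option autoImplicit false

namespace Cfsg.Agent.Lib.Helper45.Hig

/-- `Deg d G`: all `(d+1)`-fold finite differences of `G` vanish. -/
def Deg {a : ℕ} : ℕ → ((Fin a → ZMod 2) → ZMod 2) → Prop
  | 0, G => ∃ c, ∀ x, G x = c
  | d + 1, G => ∀ h, Deg d (fun x => G (x + h) + G x)

theorem deg_zero {a : ℕ} (G : (Fin a → ZMod 2) → ZMod 2) :
    Deg 0 G ↔ ∃ c, ∀ x, G x = c := Iff.rfl

theorem deg_succ {a : ℕ} (d : ℕ) (G : (Fin a → ZMod 2) → ZMod 2) :
    Deg (d + 1) G ↔ ∀ h, Deg d (fun x => G (x + h) + G x) := Iff.rfl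

theorem zmod2_add_self (c : ZMod 2) : c + c = 0 := by
  revert c; decide

theorem zmod2_cases (c : ZMod 2) : c = 0 ∨ c = 1 := by
  revert c; decide

theorem Deg.succ {a : ℕ} : ∀ (d : ℕ) (G : (Fin a → ZMod 2) → ZMod 2), Deg d G → Deg (d + 1) G := by
  intro d
  induction d with
  | zero =>
    intro G hG
    obtain ⟨c, hc⟩ := (deg_zero G).1 hG
    rw [deg_succ]
    intro h
    rw [deg_zero]
    exact ⟨0, fun x => by rw [hc, hc]; exact zmod2_add_self c⟩
  | succ d ih =>
    intro G hG
    rw [deg_succ] at hG ⊢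
    intro h
    exact ih _ (hG h)

theorem Deg.mono {a : ℕ} {d e : ℕ} (hde : d ≤ e) (G : (Fin a → ZMod 2) → ZMod 2)
    (hG : Deg d G) : Deg e G := by
  induction hde with
  | refl => exact hG
  | step _ ih => exact Deg.succ _ G ih

theorem Deg.const {a : ℕ} (d : ℕ) (c : ZMod 2) : Deg d (fun _ : Fin a → ZMod 2 => c) :=
  Deg.mono (Nat.zero_le d) _ ((deg_zero _).2 ⟨c, fun _ => rfl⟩)

theorem Deg.add {a : ℕ} : ∀ (d : ℕ) (G G' : (Fin a → ZMod 2) → ZMod 2), Deg d G → Deg d G' →
    Deg d (fun x => G x + G' x) := by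
  intro d
  induction d with
  | zero =>
    intro G G' hG hG'
    obtain ⟨c, hc⟩ := (deg_zero G).1 hG
    obtain ⟨c', hc'⟩ := (deg_zero G').1 hG'
    rw [deg_zero]
    exact ⟨c + c', fun x => by rw [hc, hc']⟩
  | succ d ih =>
    intro G G' hG hG'
    rw [deg_succ] at hG hG' ⊢
    intro h
    have h1 := ih _ _ (hG h) (hG' h)
    have e : (fun x => (G (x + h) + G' (x + h)) + (G x + G' x)) =
        fun x => (G (x + h) + G x) + (G' (x + h) + G' x) := by
      funext x; ring
    rw [e]
    exact h1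

theorem Deg.shift {a : ℕ} : ∀ (d : ℕ) (G : (Fin a → ZMod 2) → ZMod 2) (t : Fin a → ZMod 2),
    Deg d G → Deg d (fun x => G (x + t)) := by
  intro d
  induction d with
  | zero =>
    intro G t hG
    obtain ⟨c, hc⟩ := (deg_zero G).1 hG
    rw [deg_zero]
    exact ⟨c, fun x => hc _⟩
  | succ d ih =>
    intro G t hG
    rw [deg_succ] at hG ⊢
    intro h
    have h1 := ih _ t (hG h)
    have e : (fun x => G (x + h + t) + G (x + t)) = fun x => G (x + t + h) + G (x + t) := by
      funext x; rw [add_right_comm]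
    rw [e]
    exact h1

theorem Deg.const_mul {a : ℕ} (c : ZMod 2) : ∀ (d : ℕ) (G : (Fin a → ZMod 2) → ZMod 2),
    Deg d G → Deg d (fun x => c * G x) := by
  intro d
  induction d with
  | zero =>
    intro G hG
    obtain ⟨c', hc'⟩ := (deg_zero G).1 hG
    rw [deg_zero]
    exact ⟨c * c', fun x => by rw [hc']⟩
  | succ d ih =>
    intro G hG
    rw [deg_succ] at hG ⊢
    intro h
    have h1 := ih _ (hG h)
    have e : (fun x => c * G (x + h) + c * G x) = fun x => c * (G (x + h) + G x) := by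
      funext x; ring
    rw [e]
    exact h1

theorem Deg.mul {a : ℕ} : ∀ (n d e : ℕ) (G G' : (Fin a → ZMod 2) → ZMod 2), d + e ≤ n →
    Deg d G → Deg e G' → Deg n (fun x => G x * G' x) := by
  intro n
  induction n with
  | zero =>
    intro d e G G' hde hG hG'
    have hd : d = 0 := by omega
    have he : e = 0 := by omega
    subst hd; subst he
    obtain ⟨c, hc⟩ := (deg_zero G).1 hG
    obtain ⟨c', hc'⟩ := (deg_zero G').1 hG'
    rw [deg_zero]
    exact ⟨c * c', fun x => by rw [hc, hc']⟩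
  | succ n ih =>
    intro d e G G' hde hG hG'
    rcases Nat.eq_zero_or_pos d with hd | hd
    · subst hd
      obtain ⟨c, hc⟩ := (deg_zero G).1 hG
      have e1 : (fun x => G x * G' x) = fun x => c * G' x := by
        funext x; rw [hc]
      rw [e1]
      exact Deg.mono (by omega) _ (Deg.const_mul c e G' hG')
    rcases Nat.eq_zero_or_pos e with he | he
    · subst he
      obtain ⟨c, hc⟩ := (deg_zero G').1 hG'
      have e1 : (fun x => G x * G' x) = fun x => c * G x := by
        funext x; rw [hc, mul_comm]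
      rw [e1]
      exact Deg.mono (by omega) _ (Deg.const_mul c d G hG)
    obtain ⟨d', rfl⟩ : ∃ d', d = d' + 1 := ⟨d - 1, by omega⟩
    obtain ⟨e', rfl⟩ : ∃ e', e = e' + 1 := ⟨e - 1, by omega⟩
    rw [deg_succ]
    intro h
    have hG1 := (deg_succ d' G).1 hG h
    have hG'1 := (deg_succ e' G').1 hG' h
    have t1 := ih d' (e' + 1) _ _ (by omega) hG1 (Deg.shift _ G' h hG')
    have t2 := ih (d' + 1) e' _ _ (by omega) hG hG'1
    have t3 := Deg.add n _ _ t1 t2
    have e1 : (fun x => G (x + h) * G' (x + h) + G x * G' x) =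
        fun x => (G (x + h) + G x) * G' (x + h) + G x * (G' (x + h) + G' x) := by
      funext x
      have := zmod2_add_self (G x * G' (x + h))
      linear_combination -this
    rw [e1]
    exact t3

theorem cons_add {a : ℕ} (c c' : ZMod 2) (y y' : Fin a → ZMod 2) :
    (Fin.cons (c + c') (y + y') : Fin (a + 1) → ZMod 2) =
      (Fin.cons c y : Fin (a + 1) → ZMod 2) + (Fin.cons c' y' : Fin (a + 1) → ZMod 2) := by
  funext i
  refine Fin.cases ?_ (fun j => ?_) i
  · simp
  · simp

theorem Deg.comp_cons {a : ℕ} : ∀ (d : ℕ) (G : (Fin (a + 1) → ZMod 2) → ZMod 2), Deg d G →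
    Deg d (fun y : Fin a → ZMod 2 => G (Fin.cons 0 y)) := by
  intro d
  induction d with
  | zero =>
    intro G hG
    obtain ⟨c, hc⟩ := (deg_zero G).1 hG
    rw [deg_zero]
    exact ⟨c, fun x => hc _⟩
  | succ d ih =>
    intro G hG
    rw [deg_succ] at hG ⊢
    intro h
    have h1 := ih _ (hG (Fin.cons 0 h))
    have e : (fun y : Fin a → ZMod 2 => G (Fin.cons 0 (y + h)) + G (Fin.cons 0 y)) =
        fun y : Fin a → ZMod 2 => G (Fin.cons 0 y + Fin.cons 0 h) + G (Fin.cons 0 y) := by
      funext y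
      rw [← cons_add, add_zero]
    rw [e]
    exact h1

theorem sum_zmod2 {M : Type*} [AddCommMonoid M] (f : ZMod 2 → M) : ∑ c, f c = f 0 + f 1 := by
  have h : (Finset.univ : Finset (ZMod 2)) = {0, 1} := by decide
  rw [h, Finset.sum_pair (by decide)]

theorem sum_cons {a : ℕ} (G : (Fin (a + 1) → ZMod 2) → ZMod 2) :
    ∑ x, G x = ∑ y : Fin a → ZMod 2, (G (Fin.cons 0 y) + G (Fin.cons 1 y)) := by
  rw [← Fintype.sum_equiv (Fin.consEquiv (fun _ : Fin (a + 1) => ZMod 2))
    (fun p : ZMod 2 × (Fin a → ZMod 2) => G (Fin.cons p.1 p.2)) G (fun p => rfl)]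
  rw [Fintype.sum_prod_type, sum_zmod2, Finset.sum_add_distrib]

theorem Deg.sum_eq_zero : ∀ (a d : ℕ) (G : (Fin a → ZMod 2) → ZMod 2), Deg d G → d < a →
    ∑ x, G x = 0 := by
  intro a
  induction a with
  | zero => intro d G _ hd; omega
  | succ a ih =>
    intro d G hG hd
    rw [sum_cons]
    rcases Nat.eq_zero_or_pos d with hd0 | hd0
    · subst hd0
      obtain ⟨c, hc⟩ := (deg_zero G).1 hG
      apply Finset.sum_eq_zero
      intro y _
      rw [hc, hc]; exact zmod2_add_self c
    · obtain ⟨d', rfl⟩ : ∃ d', d = d' + 1 := ⟨d - 1, by omega⟩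
      have h1 := (deg_succ d' G).1 hG (Fin.cons 1 0)
      have h2 := Deg.comp_cons d' _ h1
      have h3 := ih d' _ h2 (by omega)
      refine Eq.trans ?_ h3
      apply Finset.sum_congr rfl
      intro y _
      have e : (Fin.cons 0 y : Fin (a + 1) → ZMod 2) + Fin.cons 1 0 = Fin.cons 1 y := by
        rw [← cons_add, zero_add, add_zero]
      rw [e, add_comm]

theorem deg_prod {a n : ℕ} (f : Fin n → (Fin a → ZMod 2) → ZMod 2) (hf : ∀ l, Deg 2 (f l)) :
    ∀ s : Finset (Fin n), Deg (2 * s.card) (fun x => ∏ l ∈ s, (1 + f l x)) := by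
  classical
  intro s
  induction s using Finset.induction_on with
  | empty =>
    simp only [Finset.prod_empty]
    exact Deg.const _ 1
  | insert l s hl ih =>
    have e : (fun x => ∏ l' ∈ insert l s, (1 + f l' x)) =
        fun x => (1 + f l x) * ∏ l' ∈ s, (1 + f l' x) := by
      funext x
      rw [Finset.prod_insert hl]
    rw [e, Finset.card_insert_of_notMem hl]
    exact Deg.mul _ 2 (2 * s.card) _ _ (by omega) (Deg.add 2 _ _ (Deg.const 2 1) (hf l)) ih

/-- Chevalley–Warning for quadratic maps over the field with two elements: an anisotropic system of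
`n` quadrics lives in at most `2n` variables. -/
theorem cw_quadratic {a n : ℕ} (f : Fin n → (Fin a → ZMod 2) → ZMod 2) (hf : ∀ l, Deg 2 (f l))
    (h0 : ∀ l, f l 0 = 0) (hzero : ∀ x, (∀ l, f l x = 0) → x = 0) : a ≤ 2 * n := by
  classical
  by_contra hcon
  have hlt : 2 * n < a := by omega
  have h1 := deg_prod f hf Finset.univ
  rw [Finset.card_univ, Fintype.card_fin] at h1
  have h2 := Deg.sum_eq_zero a (2 * n) _ h1 hlt
  rw [Finset.sum_eq_single (0 : Fin a → ZMod 2)] at h2
  · rw [Finset.prod_eq_one] at h2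
    · exact one_ne_zero h2
    · intro l _
      rw [h0, add_zero]
  · intro x _ hx
    have : ∃ l, f l x ≠ 0 := by
      by_contra hcon2
      simp only [not_exists, not_not] at hcon2
      exact hx (hzero x hcon2)
    obtain ⟨l, hl⟩ := this
    apply Finset.prod_eq_zero (Finset.mem_univ l)
    rcases zmod2_cases (f l x) with h3 | h3
    · exact absurd h3 hl
    · rw [h3]; decide
  · intro h3
    exact absurd (Finset.mem_univ _) h3

end Cfsg.Agent.Lib.Helper45.Hig
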