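import Mathlib
import Cfsg.Agent.Lib.Helper21.QuadForm

set_option autoImplicit false

namespace Cfsg.Agent.Lib.Helper45.Hig

open Cfsg.Agent.Lib.Helper21.QuadForm

section Diag

variable {F : Type*} [Field F] [Fintype F] [CharP F 2]

theorem no_swap_pair (α β : F ≃+* F) (hne : α ≠ β)
    (h : ∀ x y : F, α x * β y + α y * β x = 0) : False := by
  classical
  have hp : (α, β) ≠ (β, α) := fun e => hne (congrArg Prod.fst e)
  have := pair_indep ({(α, β), (β, α)} : Finset _) (fun _ => (1 : F)) (by
    intro x y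
    rw [Finset.sum_pair hp]
    simp only [one_mul]
    linear_combination h x y) (α, β) (by simp)
  exact one_ne_zero this

/-- If `α(m)β(m) = γ(m)δ(m)` for all `m` then `{α, β} = {γ, δ}`. -/
theorem diag (α β γ δ : F ≃+* F) (h : ∀ m : F, α m * β m = γ m * δ m) :
    (α = γ ∧ β = δ) ∨ (α = δ ∧ β = γ) := by
  classical
  have h2 : ∀ x : F, x + x = 0 := fun x => CharTwo.add_self_eq_zero x
  have hpol : ∀ x y : F, α x * β y + α y * β x + (γ x * δ y + γ y * δ x) = 0 := by
    intro x y
    have e1 := h (x + y)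
    have e2 := h x
    have e3 := h y
    simp only [map_add] at e1
    have : α x * β y + α y * β x + (γ x * δ y + γ y * δ x) =
        2 * (γ x * δ y + γ y * δ x) := by linear_combination e1 - e2 - e3
    rw [this, CharTwo.two_eq_zero, zero_mul]
  by_cases hab : α = β
  · have hgd : γ = δ := by
      by_contra hgd
      apply no_swap_pair γ δ hgd
      intro x y
      have := hpol x y
      rw [hab] at this
      have e : β x * β y + β y * β x = 0 := by rw [mul_comm (β y)]; exact h2 _
      rw [e, zero_add] at this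
      exact this
    have hag : α = γ := by
      apply RingEquiv.ext
      intro m
      have e := h m
      rw [hab, hgd] at e
      rw [hab, hgd]
      have e2 : (β m + δ m) * (β m + δ m) = 0 := by
        have : (β m + δ m) * (β m + δ m) = β m * β m + δ m * δ m + 2 * (β m * δ m) := by ring
        rw [this, e, CharTwo.two_eq_zero, zero_mul, add_zero]; exact h2 _
      have e3 := mul_self_eq_zero.mp e2
      exact CharTwo.add_eq_zero.mp e3
    left
    exact ⟨hag, by rw [← hab, hag, hgd]⟩
  · have hgd : γ ≠ δ := by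
      intro hgd
      apply no_swap_pair α β hab
      intro x y
      have := hpol x y
      rw [hgd] at this
      have e : δ x * δ y + δ y * δ x = 0 := by rw [mul_comm (δ y)]; exact h2 _
      rw [e, add_zero] at this
      exact this
    by_cases h1 : (α, β) = (γ, δ)
    · left; exact ⟨congrArg Prod.fst h1, congrArg Prod.snd h1⟩
    by_cases h2' : (α, β) = (δ, γ)
    · right; exact ⟨congrArg Prod.fst h2', congrArg Prod.snd h2'⟩
    exfalso
    have d12 : (α, β) ≠ (β, α) := fun e => hab (congrArg Prod.fst e)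
    have d23 : (β, α) ≠ (γ, δ) :=
      fun e => h2' (Prod.ext (congrArg Prod.snd e) (congrArg Prod.fst e))
    have d24 : (β, α) ≠ (δ, γ) :=
      fun e => h1 (Prod.ext (congrArg Prod.snd e) (congrArg Prod.fst e))
    have d34 : (γ, δ) ≠ (δ, γ) := fun e => hgd (congrArg Prod.fst e)
    have hn1 : (α, β) ∉ ({(β, α), (γ, δ), (δ, γ)} : Finset _) := by
      rw [Finset.mem_insert, Finset.mem_insert, Finset.mem_singleton]
      rintro (e | e | e)
      exacts [d12 e, h1 e, h2' e]
    have hn2 : (β, α) ∉ ({(γ, δ), (δ, γ)} : Finset _) := by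
      rw [Finset.mem_insert, Finset.mem_singleton]
      rintro (e | e)
      exacts [d23 e, d24 e]
    have := pair_indep ({(α, β), (β, α), (γ, δ), (δ, γ)} : Finset _) (fun _ => (1 : F)) (by
      intro x y
      rw [Finset.sum_insert hn1, Finset.sum_insert hn2, Finset.sum_pair d34]
      simp only [one_mul]
      linear_combination hpol x y) (α, β) (by simp)
    exact one_ne_zero this

end Diag

section Core

variable {F : Type*} [Field F] [Fintype F] [CharP F 2]

/-- The field-theoretic core: an irreducible module of additive maps which is equivariant for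
the multiplicative group consists of multiples of a single field automorphism. -/
theorem field_core {G 𝒦 : Type*} [Group G]
    (T : G → F → F) (hTmul : ∀ g g' x, T (g * g') x = T g x + T g' x)
    (hTadd : ∀ g x x', T g (x + x') = T g x + T g x')
    (a : 𝒦 → G → G) (m : 𝒦 → F) (hm0 : ∀ k, m k ≠ 0) (hmsurj : ∀ r : F, r ≠ 0 → ∃ k, m k = r)
    (hequi : ∀ k g x, T (a k g) (m k * x) = m k * T g x)
    (hmin : ∀ H : Subgroup G, (∀ g, (∀ x, T g x = 0) → g ∈ H) → (∀ k, ∀ g ∈ H, a k g ∈ H) →
      (∀ g ∈ H, ∀ x, T g x = 0) ∨ H = ⊤)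
    (hfreeq : ∀ k k' g, (¬ ∀ x, T g x = 0) → (∀ x, T (a k g * (a k' g)⁻¹) x = 0) → m k = m k')
    (g₀ : G) (hg₀ : ¬ ∀ x, T g₀ x = 0) (r₁ : F) (hr₁0 : r₁ ≠ 0) (hr₁1 : r₁ ≠ 1) :
    ∃ (σ₀ : F ≃+* F) (t : G → F), (∀ g x, T g x = t g * σ₀ x) ∧
      (∀ g g', t (g * g') = t g + t g') ∧ (∀ r : F, ∃ g, t g = r) := by
  classical
  haveI : Finite (F ≃+* F) := DFunLike.finite _
  letI : Fintype (F ≃+* F) := Fintype.ofFinite _
  have hLI := (Cfsg.Agent.S1140.result (F := F)).1
  have h0 : ∀ c : (F ≃+* F) → F, (∀ x, ∑ σ, c σ * σ x = 0) → ∀ σ, c σ = 0 := by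
    intro c hc
    apply Fintype.linearIndependent_iff.1 hLI
    funext x
    simp only [Finset.sum_apply, Pi.smul_apply, smul_eq_mul, Pi.zero_apply]
    exact hc x
  have hrep : ∀ g, ∃ c : (F ≃+* F) → F, ∀ x, T g x = ∑ σ, c σ * σ x := by
    intro g
    obtain ⟨s, c, hc⟩ := (Cfsg.Agent.S1140.result (F := F)).2.1 (AddMonoidHom.mk' (T g) (hTadd g))
    refine ⟨fun σ => if σ ∈ s then c σ else 0, fun x => ?_⟩
    have e : T g x = ∑ σ ∈ s, c σ * σ x := hc x
    rw [e]
    simp only [ite_mul, zero_mul]
    rw [Finset.sum_ite_mem, Finset.univ_inter]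
  choose coef hcoef using hrep
  have hσne : ∀ (σ : F ≃+* F) (x : F), x ≠ 0 → σ x ≠ 0 := by
    intro σ x hx hh
    exact hx ((map_eq_zero_iff σ σ.injective).mp hh)
  have hc_mul : ∀ g g' σ, coef (g * g') σ = coef g σ + coef g' σ := by
    intro g g'
    have := h0 (fun σ => coef (g * g') σ - coef g σ - coef g' σ) (fun x => by
      have e := hTmul g g' x
      rw [hcoef, hcoef, hcoef] at e
      simp only [sub_mul, Finset.sum_sub_distrib]
      rw [e]; ring)
    intro σ
    linear_combination this σ
  have hc_equi : ∀ k g σ, coef (a k g) σ * σ (m k) = m k * coef g σ := by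
    intro k g
    have := h0 (fun σ => coef (a k g) σ * σ (m k) - m k * coef g σ) (fun x => by
      have e := hequi k g x
      rw [hcoef, hcoef, Finset.mul_sum] at e
      simp only [sub_mul, Finset.sum_sub_distrib]
      rw [sub_eq_zero]
      have e1 : ∑ σ, coef (a k g) σ * σ (m k) * σ x = ∑ σ, coef (a k g) σ * σ (m k * x) := by
        apply Finset.sum_congr rfl
        intro σ _
        rw [map_mul]; ring
      have e2 : ∑ σ, m k * coef g σ * σ x = ∑ σ, m k * (coef g σ * σ x) := by
        apply Finset.sum_congr rfl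
        intro σ _
        ring
      rw [e1, e2, e])
    intro σ
    linear_combination this σ
  have hc_zero : ∀ g, (∀ x, T g x = 0) ↔ ∀ σ, coef g σ = 0 := by
    intro g
    constructor
    · intro hg
      exact h0 (coef g) (fun x => by rw [← hcoef]; exact hg x)
    · intro hσ x
      rw [hcoef]
      apply Finset.sum_eq_zero
      intro σ _
      rw [hσ, zero_mul]
  have hc_one : ∀ σ, coef 1 σ = 0 := by
    intro σ
    have := hc_mul 1 1 σ
    rw [mul_one] at this
    linear_combination -this
  have hc_inv : ∀ g σ, coef g⁻¹ σ = - coef g σ := by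
    intro g σ
    have := hc_mul g g⁻¹ σ
    rw [mul_inv_cancel, hc_one] at this
    linear_combination -this
  have hequiσ : ∀ σ k g, coef (a k g) σ = m k / σ (m k) * coef g σ := by
    intro σ k g
    have := hc_equi k g σ
    have hne := hσne σ (m k) (hm0 k)
    field_simp
    linear_combination this
  -- the subgroups `H_σ`
  have hHs : ∀ σ, (∀ g, coef g σ = 0 → ∀ x, T g x = 0) ∨ (∀ g, coef g σ = 0) := by
    intro σ
    let Hs : Subgroup G :=
      { carrier := {g | coef g σ = 0}
        one_mem' := hc_one σ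
        mul_mem' := fun {x y} hx hy => by
          have hx' : coef x σ = 0 := hx
          have hy' : coef y σ = 0 := hy
          show coef (x * y) σ = 0
          rw [hc_mul, hx', hy', add_zero]
        inv_mem' := fun {x} hx => by
          have hx' : coef x σ = 0 := hx
          show coef x⁻¹ σ = 0
          rw [hc_inv, hx', neg_zero] }
    have hHmem : ∀ g, g ∈ Hs ↔ coef g σ = 0 := fun g => Iff.rfl
    rcases hmin Hs (fun g hg => (hHmem g).2 ((hc_zero g).1 hg σ)) (fun k g hg => by
      rw [hHmem] at hg ⊢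
      rw [hequiσ, hg, mul_zero]) with hh | hh
    · left
      exact fun g hg => hh g ((hHmem g).2 hg)
    · right
      intro g
      have : g ∈ Hs := by rw [hh]; trivial
      exact (hHmem g).1 this
  obtain ⟨σ₀, hσ₀⟩ : ∃ σ₀, coef g₀ σ₀ ≠ 0 := by
    by_contra hcon
    apply hg₀
    rw [hc_zero]
    intro σ
    by_contra hσ
    exact hcon ⟨σ, hσ⟩
  have hker₀ : ∀ g, coef g σ₀ = 0 → ∀ x, T g x = 0 :=
    (hHs σ₀).resolve_right (fun hall => hσ₀ (hall g₀))
  have hνinj : ∀ r r' : F, r ≠ 0 → r' ≠ 0 → r / σ₀ r = r' / σ₀ r' → r = r' := by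
    intro r r' hr hr' heq
    obtain ⟨k, hk⟩ := hmsurj r hr
    obtain ⟨k', hk'⟩ := hmsurj r' hr'
    have e1 : coef (a k g₀ * (a k' g₀)⁻¹) σ₀ = 0 := by
      rw [hc_mul, hc_inv, hequiσ, hequiσ, hk, hk', heq]; ring
    have e2 := hker₀ _ e1
    have := hfreeq k k' g₀ hg₀ e2
    rw [← hk, ← hk']; exact this
  have hνsurj : ∀ s : F, s ≠ 0 → ∃ r : F, r ≠ 0 ∧ r / σ₀ r = s := by
    intro s hs
    let f : {r : F // r ≠ 0} → {r : F // r ≠ 0} :=
      fun r => ⟨r.1 / σ₀ r.1, div_ne_zero r.2 (hσne σ₀ r.1 r.2)⟩
    have hf : Function.Injective f := by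
      intro r r' hrr
      exact Subtype.ext (hνinj r.1 r'.1 r.2 r'.2 (congrArg Subtype.val hrr))
    obtain ⟨r, hr⟩ := (Finite.injective_iff_surjective.mp hf) ⟨s, hs⟩
    exact ⟨r.1, r.2, congrArg Subtype.val hr⟩
  have tsurj : ∀ s : F, ∃ g, coef g σ₀ = s := by
    intro s
    by_cases hs : s = 0
    · exact ⟨1, by rw [hc_one, hs]⟩
    · obtain ⟨r, hr, hrs⟩ := hνsurj (s / coef g₀ σ₀) (div_ne_zero hs hσ₀)
      obtain ⟨k, hk⟩ := hmsurj r hr
      refine ⟨a k g₀, ?_⟩
      rw [hequiσ, hk, hrs]
      field_simp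
  have hpure : ∀ σ, σ ≠ σ₀ → ∀ g, coef g σ = 0 := by
    intro σ hσ
    rcases hHs σ with hkerσ | hall
    swap
    · exact hall
    exfalso
    have hk1 : ∀ g, coef g σ = 0 → coef g σ₀ = 0 := fun g hg => (hc_zero g).1 (hkerσ g hg) σ₀
    have hk2 : ∀ g, coef g σ₀ = 0 → coef g σ = 0 := fun g hg => (hc_zero g).1 (hker₀ g hg) σ
    choose gsel hgsel using tsurj
    have hΘ : ∀ g, coef (gsel (coef g σ₀)) σ = coef g σ := by
      intro g
      have e : coef (gsel (coef g σ₀) * g⁻¹) σ₀ = 0 := by
        rw [hc_mul, hc_inv, hgsel]; ring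
      have e2 := hk2 _ e
      rw [hc_mul, hc_inv] at e2
      linear_combination e2
    have hΘadd : ∀ s s', coef (gsel (s + s')) σ = coef (gsel s) σ + coef (gsel s') σ := by
      intro s s'
      have e : s + s' = coef (gsel s * gsel s') σ₀ := by rw [hc_mul, hgsel, hgsel]
      rw [e, hΘ, hc_mul]
    have hΘequi : ∀ r s, r ≠ 0 →
        coef (gsel (r / σ₀ r * s)) σ = r / σ r * coef (gsel s) σ := by
      intro r s hr
      obtain ⟨k, hk⟩ := hmsurj r hr
      have e : r / σ₀ r * s = coef (a k (gsel s)) σ₀ := by rw [hequiσ, hk, hgsel]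
      rw [e, hΘ, hequiσ, hk]
    have hΘ0 : ∀ s, coef (gsel s) σ = 0 → s = 0 := by
      intro s hs
      have := hk1 (gsel s) hs
      rw [← hgsel s]; exact this
    have hΘzero : coef (gsel 0) σ = 0 := by
      have := hΘadd 0 0
      rw [add_zero] at this
      linear_combination -this
    have hc₁ : coef (gsel 1) σ ≠ 0 := fun hh => one_ne_zero (hΘ0 1 hh)
    have hτν : ∀ r : F, r ≠ 0 → coef (gsel (r / σ₀ r)) σ / coef (gsel 1) σ = r / σ r := by
      intro r hr
      have := hΘequi r 1 hr
      rw [mul_one] at this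
      rw [this]
      field_simp
    let τhom : F →+* F :=
      { toFun := fun s => coef (gsel s) σ / coef (gsel 1) σ
        map_one' := div_self hc₁
        map_mul' := by
          intro u s
          by_cases hu : u = 0
          · rw [hu, zero_mul, hΘzero, zero_div, zero_mul]
          · obtain ⟨r, hr, hru⟩ := hνsurj u hu
            have e1 := hΘequi r s hr
            have e2 := hτν r hr
            rw [hru] at e1 e2
            rw [e1, e2]
            ring
        map_zero' := by rw [hΘzero, zero_div]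
        map_add' := by
          intro s s'
          rw [hΘadd, add_div] }
    have hτapp : ∀ s, τhom s = coef (gsel s) σ / coef (gsel 1) σ := fun s => rfl
    have hτinj : Function.Injective τhom := RingHom.injective τhom
    have hτbij : Function.Bijective τhom := ⟨hτinj, Finite.injective_iff_surjective.mp hτinj⟩
    let τe : F ≃+* F := RingEquiv.ofBijective τhom hτbij
    have hτe : ∀ s, τe s = τhom s := fun s => rfl
    have hkey : ∀ m' : F, τe m' * σ m' = (RingEquiv.refl F) m' * (σ₀.trans τe) m' := by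
      intro m'
      rw [RingEquiv.refl_apply, RingEquiv.trans_apply]
      by_cases hm' : m' = 0
      · rw [hm', map_zero, map_zero, zero_mul, zero_mul]
      · have e := hτν m' hm'
        rw [← hτapp, ← hτe, map_div₀] at e
        have hne1 := hσne τe (σ₀ m') (hσne σ₀ m' hm')
        have hne2 := hσne σ m' hm'
        field_simp at e
        linear_combination e
    rcases diag τe σ (RingEquiv.refl F) (σ₀.trans τe) hkey with ⟨h1, h2⟩ | ⟨h1, h2⟩
    · apply hσ
      rw [h2, h1]
      apply RingEquiv.ext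
      intro x
      rfl
    · have hσ₀id : ∀ x, σ₀ x = x := by
        intro x
        have := DFunLike.congr_fun h1 x
        rw [RingEquiv.trans_apply] at this
        exact (τe.injective this).symm
      apply hr₁1
      apply hνinj r₁ 1 hr₁0 one_ne_zero
      rw [hσ₀id, hσ₀id, div_self hr₁0, div_self one_ne_zero]
  refine ⟨σ₀, fun g => coef g σ₀, ?_, fun g g' => hc_mul g g' σ₀, tsurj⟩
  intro g x
  rw [hcoef, Finset.sum_eq_single σ₀ (fun σ _ hσ => by rw [hpure σ hσ g, zero_mul])
    (fun hh => absurd (Finset.mem_univ _) hh)]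

end Core

end Cfsg.Agent.Lib.Helper45.Hig
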