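import Mathlib
import Cfsg.Agent.Lib.Helper21.Suz2

set_option autoImplicit false

namespace Cfsg.Agent.Lib.Helper45.Hig

open Cfsg.Agent.Lib.Helper21.Suz2

universe u

variable {P : Type u} [Group P]

/-- A nonabelian finite 2-group with more than one involution and an abelian group of
automorphisms acting regularly on the involutions. -/
structure SD (P : Type u) [Group P] (K : Subgroup (MulAut P)) : Prop where
  fin : Finite P
  h2 : IsPGroup 2 P
  hKab : ∀ a ∈ K, ∀ b ∈ K, a * b = b * a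
  hex : ∀ x y : P, x ≠ 1 → x * x = 1 → y ≠ 1 → y * y = 1 → ∃ k ∈ K, k x = y
  hfree : ∀ k ∈ K, ∀ x : P, x ≠ 1 → x * x = 1 → k x = x → k = 1
  htwo : ∃ x y : P, x ≠ y ∧ x ≠ 1 ∧ x * x = 1 ∧ y ≠ 1 ∧ y * y = 1
  hna : ∃ x y : P, x * y ≠ y * x

theorem cm_one_left (g : P) : cm (1 : P) g = 1 := by unfold cm; group

theorem cm_of_central {z : P} (hz : z ∈ Subgroup.center P) (g : P) : cm z g = 1 := by
  rw [cm_eq_one_iff]
  exact (Subgroup.mem_center_iff.mp hz g).symm

theorem cm_central_right {z : P} (hz : z ∈ Subgroup.center P) (g : P) : cm g z = 1 := by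
  rw [cm_eq_one_iff]
  exact Subgroup.mem_center_iff.mp hz g

/-- `(xy)² = x² y² [y,x]` when `[y,x]` is central. -/
theorem sq_mul (x y : P) (hc : cm y x ∈ Subgroup.center P) :
    (x * y) * (x * y) = (x * x) * (y * y) * cm y x := by
  have h1 := mul_eq_cm y x
  have hcen := Subgroup.mem_center_iff.mp hc
  calc x * y * (x * y) = x * (y * x) * y := by simp only [mul_assoc]
    _ = x * (x * y * cm y x) * y := by rw [← h1]
    _ = x * (x * y) * (cm y x * y) := by simp only [mul_assoc]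
    _ = x * (x * y) * (y * cm y x) := by rw [hcen y]
    _ = (x * x) * (y * y) * cm y x := by simp only [mul_assoc]

/-- The preimage of `Ω₁(Z(P/Z(P)))`. -/
def Vsub (P : Type u) [Group P] : Subgroup P where
  carrier := {v | v * v ∈ Subgroup.center P ∧ ∀ g, cm v g ∈ Subgroup.center P}
  one_mem' := ⟨by rw [mul_one]; exact one_mem _, fun g => by rw [cm_one_left]; exact one_mem _⟩
  mul_mem' := by
    rintro v w ⟨hv2, hvc⟩ ⟨hw2, hwc⟩
    refine ⟨?_, fun g => ?_⟩
    · rw [sq_mul v w (hwc v)]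
      exact mul_mem (mul_mem hv2 hw2) (hwc v)
    · rw [cm_mul_left v w g (hvc g)]
      exact mul_mem (hvc g) (hwc g)
  inv_mem' := by
    rintro v ⟨hv2, hvc⟩
    refine ⟨?_, fun g => ?_⟩
    · rw [← mul_inv_rev]; exact inv_mem hv2
    · have h1 := cm_mul_left v v⁻¹ g (hvc g)
      rw [mul_inv_cancel, cm_one_left] at h1
      have h2 : cm v⁻¹ g = (cm v g)⁻¹ := (eq_inv_of_mul_eq_one_right h1.symm)
      rw [h2]; exact inv_mem (hvc g)

theorem mem_Vsub (v : P) : v ∈ Vsub P ↔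
    v * v ∈ Subgroup.center P ∧ ∀ g, cm v g ∈ Subgroup.center P := Iff.rfl

theorem center_le_Vsub : Subgroup.center P ≤ Vsub P := by
  intro z hz
  refine ⟨mul_mem hz hz, fun g => ?_⟩
  rw [cm_of_central hz]; exact one_mem _

theorem Vsub_map (k : MulAut P) {v : P} (hv : v ∈ Vsub P) : k v ∈ Vsub P := by
  refine ⟨?_, fun g => ?_⟩
  · rw [← map_mul]; exact aut_center k hv.1
  · have h1 := cm_map k v (k⁻¹ g)
    rw [MulAut.apply_inv_self] at h1
    rw [← h1]
    exact aut_center k (hv.2 _)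

/-- If all squares lie in a normal subgroup, so do all commutators. -/
theorem cm_mem_of_sq_mem (N : Subgroup P) [N.Normal] (hsq : ∀ x : P, x * x ∈ N) (x y : P) :
    cm x y ∈ N := by
  have h1 : ∀ a : P ⧸ N, a * a = 1 := by
    intro a
    induction a using QuotientGroup.induction_on with
    | H x =>
      rw [← QuotientGroup.mk_mul]
      exact (QuotientGroup.eq_one_iff _).mpr (hsq x)
  have h2 : ∀ a b : P ⧸ N, a * b = b * a := by
    intro a b
    calc a * b = a * ((a * b) * (a * b)) * b := by rw [h1 (a * b), mul_one]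
      _ = (a * a) * (b * a) * (b * b) := by group
      _ = b * a := by rw [h1 a, h1 b, one_mul, mul_one]
  have h3 := h2 (QuotientGroup.mk y) (QuotientGroup.mk x)
  rw [← QuotientGroup.mk_mul, ← QuotientGroup.mk_mul, QuotientGroup.eq] at h3
  exact h3

section SDfacts

variable {K : Subgroup (MulAut P)} (h : SD P K)
include h

theorem SD.hci (x : P) (hx : x * x = 1) : x ∈ Subgroup.center P := by
  haveI := h.fin
  exact involution_mem_center h.h2 K h.hex hx

theorem SD.hce (z : P) (hz : z ∈ Subgroup.center P) : z * z = 1 := by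
  haveI := h.fin
  by_contra hzz
  obtain ⟨x, y, hxy⟩ := h.hna
  exact hxy (main_aux _ P rfl h.h2 K h.hKab h.hex h.hfree ⟨z, hz, hzz⟩ x y)

theorem SD.cinv (z : P) (hz : z ∈ Subgroup.center P) : z⁻¹ = z :=
  inv_eq_of_mul_eq_one_left (h.hce z hz)

theorem SD.hfree' (k : MulAut P) (hk : k ∈ K) (x : P) (hx : x ≠ 1) (hkx : k x = x) : k = 1 := by
  obtain ⟨i, hi1, hi2⟩ := exists_pow_involution h.h2 hx
  exact h.hfree k hk (x ^ i) hi1 hi2 (by rw [map_pow, hkx])

theorem SD.exists_k_ne_one : ∃ k ∈ K, k ≠ 1 := by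
  obtain ⟨x, y, hxy, hx1, hx2, hy1, hy2⟩ := h.htwo
  obtain ⟨k, hk, hkx⟩ := h.hex x y hx1 hx2 hy1 hy2
  refine ⟨k, hk, ?_⟩
  rintro rfl
  exact hxy hkx

theorem SD.exists_V_not_center : ∃ v ∈ Vsub P, v ∉ Subgroup.center P := by
  haveI := h.fin
  obtain ⟨x, y, hxy⟩ := h.hna
  have hx : x ∉ Subgroup.center P := fun hx => hxy (Subgroup.mem_center_iff.mp hx y).symm
  obtain ⟨x', hx'1, hx'2, hx'3⟩ := exists_noncentral h.h2 ⟨x, hx⟩
  exact ⟨x', ⟨hx'2, hx'3⟩, hx'1⟩

/-- Elements of `V` commute with all squares. -/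
theorem SD.V_comm_sq {v : P} (hv : v ∈ Vsub P) (g : P) : v * (g * g) = (g * g) * v := by
  rw [← cm_eq_one_iff, cm_mul_right v g g (hv.2 g)]
  exact h.hce _ (hv.2 g)

/-- Every central element is the square of an element of `V`. -/
theorem SD.sq_surj (a : P) (ha : a ∈ Subgroup.center P) : ∃ v ∈ Vsub P, v * v = a := by
  by_cases ha1 : a = 1
  · exact ⟨1, one_mem _, by rw [ha1, mul_one]⟩
  obtain ⟨v₀, hv₀, hv₀c⟩ := h.exists_V_not_center
  have hb1 : v₀ * v₀ ≠ 1 := fun hb => hv₀c (h.hci _ hb)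
  obtain ⟨k, hk, hkb⟩ := h.hex _ _ hb1 (h.hce _ hv₀.1) ha1 (h.hce a ha)
  exact ⟨k v₀, Vsub_map k hv₀, by rw [← map_mul, hkb]⟩

/-- An element of order at most four centralizing `V` lies in `V`. -/
theorem SD.mem_V_of_comm (x : P) (hx : ∀ v ∈ Vsub P, v * x = x * v)
    (hx4 : (x * x) * (x * x) = 1) : x ∈ Vsub P := by
  have ha : x * x ∈ Subgroup.center P := h.hci _ hx4
  obtain ⟨v, hv, hva⟩ := h.sq_surj _ ha
  have hc : v⁻¹ * x = x * v⁻¹ := by
    have := hx v hv
    calc v⁻¹ * x = v⁻¹ * (x * v) * v⁻¹ := by group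
      _ = v⁻¹ * (v * x) * v⁻¹ := by rw [this]
      _ = x * v⁻¹ := by group
  have h1 : (x * v⁻¹) * (x * v⁻¹) = 1 := by
    calc (x * v⁻¹) * (x * v⁻¹) = x * (v⁻¹ * x) * v⁻¹ := by group
      _ = x * (x * v⁻¹) * v⁻¹ := by rw [hc]
      _ = (x * x) * (v * v)⁻¹ := by group
      _ = 1 := by rw [hva, mul_inv_cancel]
  have h2 : x * v⁻¹ ∈ Vsub P := center_le_Vsub (h.hci _ h1)
  have h3 : x = (x * v⁻¹) * v := by group
  rw [h3]
  exact mul_mem h2 hv

/-- If `V` is nonabelian then `Z(V) = Z(P)`. -/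
theorem SD.center_V (hVna : ∃ v ∈ Vsub P, ∃ w ∈ Vsub P, v * w ≠ w * v) (u : P)
    (hu : u ∈ Vsub P) (huc : ∀ w ∈ Vsub P, u * w = w * u) : u ∈ Subgroup.center P := by
  by_contra hu1
  have ha1 : u * u ≠ 1 := fun ha => hu1 (h.hci _ ha)
  obtain ⟨v, hv, w, hw, hvw⟩ := hVna
  apply hvw
  by_cases hvc : v ∈ Subgroup.center P
  · exact (Subgroup.mem_center_iff.mp hvc w).symm
  have hb1 : v * v ≠ 1 := fun hb => hvc (h.hci _ hb)
  obtain ⟨k, hk, hkb⟩ := h.hex _ _ ha1 (h.hce _ hu.1) hb1 (h.hce _ hv.1)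
  have hu' : ∀ w' ∈ Vsub P, k u * w' = w' * k u := by
    intro w' hw'
    have e : w' = k (k⁻¹ w') := by rw [MulAut.apply_inv_self]
    have h1 := huc (k⁻¹ w') (Vsub_map k⁻¹ hw')
    rw [e, ← map_mul, h1, map_mul]
  have hsq : k u * k u = v * v := by rw [← map_mul, hkb]
  have hc : (k u)⁻¹ * v = v * (k u)⁻¹ := by
    have := hu' v hv
    calc (k u)⁻¹ * v = (k u)⁻¹ * (v * k u) * (k u)⁻¹ := by group
      _ = (k u)⁻¹ * (k u * v) * (k u)⁻¹ := by rw [this]
      _ = v * (k u)⁻¹ := by group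
  have h1 : (v * (k u)⁻¹) * (v * (k u)⁻¹) = 1 := by
    calc (v * (k u)⁻¹) * (v * (k u)⁻¹) = v * ((k u)⁻¹ * v) * (k u)⁻¹ := by group
      _ = v * (v * (k u)⁻¹) * (k u)⁻¹ := by rw [hc]
      _ = (v * v) * (k u * k u)⁻¹ := by group
      _ = 1 := by rw [hsq, mul_inv_cancel]
  have hz := Subgroup.mem_center_iff.mp (h.hci _ h1)
  have e : v = (v * (k u)⁻¹) * k u := by group
  rw [e]
  calc v * (k u)⁻¹ * k u * w = v * (k u)⁻¹ * (k u * w) := by group
    _ = v * (k u)⁻¹ * (w * k u) := by rw [hu' w hw]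
    _ = (v * (k u)⁻¹ * w) * k u := by group
    _ = (w * (v * (k u)⁻¹)) * k u := by rw [hz w]
    _ = w * (v * (k u)⁻¹ * k u) := by group

/-- If `V` is nonabelian, the group has exponent four. -/
theorem SD.exp4_of_V_nonabelian (hVna : ∃ v ∈ Vsub P, ∃ w ∈ Vsub P, v * w ≠ w * v) (x : P) :
    (x * x) * (x * x) = 1 := by
  have key : ∀ c : P, (∀ v ∈ Vsub P, v * c = c * v) → (c * c) * (c * c) = 1 → c * c = 1 := by
    intro c hc hc4
    have hcV := h.mem_V_of_comm c hc hc4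
    exact h.hce c (h.center_V hVna c hcV (fun w hw => (hc w hw).symm))
  have hQ : ∀ N : ℕ, ∀ c : P, (∀ v ∈ Vsub P, v * c = c * v) → c ^ (2 ^ N) = 1 → c * c = 1 := by
    intro N
    induction N with
    | zero =>
      intro c _ hc
      rw [pow_zero, pow_one] at hc
      rw [hc, mul_one]
    | succ N ih =>
      intro c hc hcN
      have hcc : ∀ v ∈ Vsub P, v * (c * c) = (c * c) * v := fun v hv => h.V_comm_sq hv c
      have h1 : (c * c) ^ (2 ^ N) = 1 := by
        rw [← pow_two, ← pow_mul, ← pow_succ']; exact hcN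
      exact key c hc (ih (c * c) hcc h1)
  obtain ⟨N, hN⟩ := h.h2 (x * x)
  exact hQ N (x * x) (fun v hv => h.V_comm_sq hv x) hN

end SDfacts

end Cfsg.Agent.Lib.Helper45.Hig
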