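import Mathlib
import Cfsg.Agent.Lib.Helper45.HigBasic

set_option autoImplicit false

namespace Cfsg.Agent.Lib.Helper45.Hig

open Cfsg.Agent.Lib.Helper21.Suz2

universe u

variable {P : Type u} [Group P]

/-- A group acting freely on a set has order dividing the cardinality of the set. -/
theorem card_dvd_of_free {G X : Type*} [Group G] [MulAction G X]
    (hfree : ∀ (a : G) (x : X), a • x = x → a = 1) : Nat.card G ∣ Nat.card X := by
  have h : ∀ b : X, MulAction.stabilizer G b = ⊥ := by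
    intro b
    rw [Subgroup.eq_bot_iff_forall]
    intro a ha
    exact hfree a b (MulAction.mem_stabilizer_iff.mp ha)
  rw [Nat.card_congr (MulAction.selfEquivOrbitsQuotientProd h), Nat.card_prod]
  exact Dvd.intro_left _ rfl

section SDfree

variable {K : Subgroup (MulAut P)} (h : SD P K)
include h

/-- `K` has no involutions. -/
theorem SD.hnoinv (c : MulAut P) (hc : c ∈ K) (hcc : c * c = 1) : c = 1 := by
  obtain ⟨e₀, -, -, he1, he2, -, -⟩ := h.htwo
  by_contra hc1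
  have hce : c e₀ ≠ e₀ := fun hh => hc1 (h.hfree c hc e₀ he1 he2 hh)
  have hce2 : c e₀ * c e₀ = 1 := by rw [← map_mul, he2, map_one]
  have hcomm : c e₀ * e₀ = e₀ * c e₀ := Subgroup.mem_center_iff.mp (h.hci _ he2) _
  have hne : e₀ * c e₀ ≠ 1 := by
    intro hh
    apply hce
    have h1 := eq_inv_of_mul_eq_one_right hh
    rw [h1, inv_eq_of_mul_eq_one_left he2]
  have hsq : (e₀ * c e₀) * (e₀ * c e₀) = 1 := by
    calc (e₀ * c e₀) * (e₀ * c e₀) = e₀ * (c e₀ * e₀) * c e₀ := by group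
      _ = e₀ * (e₀ * c e₀) * c e₀ := by rw [hcomm]
      _ = (e₀ * e₀) * (c e₀ * c e₀) := by group
      _ = 1 := by rw [he2, hce2, one_mul]
  have hfix : c (e₀ * c e₀) = e₀ * c e₀ := by
    rw [map_mul]
    have : c (c e₀) = e₀ := by
      calc c (c e₀) = (c * c) e₀ := rfl
        _ = e₀ := by rw [hcc]; rfl
    rw [this, hcomm]
  exact hc1 (h.hfree c hc _ hne hsq hfix)

/-- `K` acts freely on the nontrivial cosets of a `K`-invariant subgroup. -/
theorem SD.free_quot (H : Subgroup P) (hHK : ∀ k ∈ K, ∀ x ∈ H, k x ∈ H)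
    (k : MulAut P) (hk : k ∈ K) (g : P) (hg : g ∉ H) (hkg : g⁻¹ * k g ∈ H) : k = 1 := by
  classical
  haveI := h.fin
  haveI : Finite (MulAut P) :=
    Finite.of_injective (fun k : MulAut P => (k : P → P)) DFunLike.coe_injective
  let A : Subgroup (MulAut P) :=
    { carrier := {a | a ∈ K ∧ g⁻¹ * a g ∈ H}
      one_mem' := ⟨K.one_mem, by
        show g⁻¹ * g ∈ H
        rw [inv_mul_cancel]; exact H.one_mem⟩
      mul_mem' := by
        rintro a b ⟨ha, hag⟩ ⟨hb, hbg⟩
        refine ⟨K.mul_mem ha hb, ?_⟩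
        have e : g⁻¹ * (a * b) g = (g⁻¹ * a g) * a (g⁻¹ * b g) := by
          show g⁻¹ * a (b g) = _
          rw [map_mul, map_inv]; group
        rw [e]
        exact H.mul_mem hag (hHK a ha _ hbg)
      inv_mem' := by
        rintro a ⟨ha, hag⟩
        refine ⟨K.inv_mem ha, ?_⟩
        have e : g⁻¹ * a⁻¹ g = (a⁻¹ (g⁻¹ * a g))⁻¹ := by
          rw [map_mul, map_inv, MulAut.inv_apply_self]; group
        rw [e]
        exact H.inv_mem (hHK a⁻¹ (K.inv_mem ha) _ hag) }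
  have hAmem : ∀ a : MulAut P, a ∈ A ↔ a ∈ K ∧ g⁻¹ * a g ∈ H := fun a => Iff.rfl
  letI act : MulAction A {x : P // g⁻¹ * x ∈ H} :=
    { smul := fun a x => ⟨a.1 x.1, by
        have e : g⁻¹ * a.1 x.1 = (g⁻¹ * a.1 g) * a.1 (g⁻¹ * x.1) := by
          rw [map_mul, map_inv]; group
        rw [e]
        exact H.mul_mem a.2.2 (hHK a.1 a.2.1 _ x.2)⟩
      one_smul := fun x => Subtype.ext rfl
      mul_smul := fun a b x => Subtype.ext rfl }
  have hsmul : ∀ (a : A) (x : {x : P // g⁻¹ * x ∈ H}), ((a • x : {x : P // g⁻¹ * x ∈ H}) : P)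
      = a.1 x.1 := fun a x => rfl
  have hfreeA : ∀ (a : A) (x : {x : P // g⁻¹ * x ∈ H}), a • x = x → a = 1 := by
    intro a x hax
    have h1 : a.1 x.1 = x.1 := by rw [← hsmul]; exact congrArg Subtype.val hax
    have hx1 : x.1 ≠ 1 := by
      intro hx
      have h2 := x.2
      rw [hx, mul_one] at h2
      exact hg (inv_inv g ▸ H.inv_mem h2)
    exact Subtype.ext (h.hfree' a.1 a.2.1 x.1 hx1 h1)
  have hdvd : Nat.card A ∣ Nat.card H := by
    have h1 := card_dvd_of_free hfreeA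
    have e : {x : P // g⁻¹ * x ∈ H} ≃ H :=
      { toFun := fun x => ⟨g⁻¹ * x.1, x.2⟩
        invFun := fun y => ⟨g * y.1, by rw [inv_mul_cancel_left]; exact y.2⟩
        left_inv := fun x => Subtype.ext (by simp)
        right_inv := fun y => Subtype.ext (by simp) }
    rw [Nat.card_congr e] at h1
    exact h1
  obtain ⟨n, hn⟩ := IsPGroup.iff_card.mp (h.h2.to_subgroup H)
  rw [hn] at hdvd
  obtain ⟨j, -, hj⟩ := (Nat.dvd_prime_pow Nat.prime_two).mp hdvd
  have hA1 : Nat.card A = 1 := by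
    rcases Nat.eq_zero_or_pos j with hj0 | hjpos
    · rw [hj, hj0, pow_zero]
    · exfalso
      have h2dvd : 2 ∣ Nat.card A := by rw [hj]; exact dvd_pow_self 2 (by omega)
      haveI : Fact (Nat.Prime 2) := ⟨Nat.prime_two⟩
      obtain ⟨x, hx⟩ := exists_prime_orderOf_dvd_card' 2 h2dvd
      have hx2 : x * x = 1 := by
        rw [← pow_two, ← hx]; exact pow_orderOf_eq_one x
      have hx1 : (x : MulAut P) = 1 :=
        h.hnoinv x.1 x.2.1 (by
          have := congrArg Subtype.val hx2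
          exact this)
      have : x = 1 := Subtype.ext hx1
      rw [this, orderOf_one] at hx
      omega
  have hAbot : A = ⊥ := Subgroup.card_eq_one.mp hA1
  have hkA : k ∈ A := ⟨hk, hkg⟩
  rw [hAbot, Subgroup.mem_bot] at hkA
  exact hkA

end SDfree

/-- Restriction of an automorphism to an invariant subgroup. -/
def resAut (H : Subgroup P) (k : MulAut P) (hk : ∀ x ∈ H, k x ∈ H) (hk' : ∀ x ∈ H, k⁻¹ x ∈ H) :
    MulAut H :=
  { toFun := fun x => ⟨k x, hk x x.2⟩
    invFun := fun x => ⟨k⁻¹ x, hk' x x.2⟩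
    left_inv := fun x => Subtype.ext (by simp)
    right_inv := fun x => Subtype.ext (by simp)
    map_mul' := fun x y => Subtype.ext (by simp) }

theorem resAut_apply (H : Subgroup P) (k : MulAut P) (hk : ∀ x ∈ H, k x ∈ H)
    (hk' : ∀ x ∈ H, k⁻¹ x ∈ H) (x : H) : ((resAut H k hk hk' x : H) : P) = k x := rfl

/-- The automorphisms of an invariant subgroup induced from `K`. -/
def resK (K : Subgroup (MulAut P)) (H : Subgroup P) : Subgroup (MulAut H) where
  carrier := {φ | ∃ k ∈ K, ∀ x : H, ((φ x : H) : P) = k x}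
  one_mem' := ⟨1, K.one_mem, fun x => rfl⟩
  mul_mem' := by
    rintro φ ψ ⟨k, hk, hφ⟩ ⟨l, hl, hψ⟩
    exact ⟨k * l, K.mul_mem hk hl, fun x => by
      rw [MulAut.mul_apply, hφ, hψ, MulAut.mul_apply]⟩
  inv_mem' := by
    rintro φ ⟨k, hk, hφ⟩
    refine ⟨k⁻¹, K.inv_mem hk, fun x => ?_⟩
    have h1 : ((φ (φ⁻¹ x) : H) : P) = k ((φ⁻¹ x : H) : P) := hφ _
    rw [MulAut.apply_inv_self] at h1
    rw [h1, MulAut.inv_apply_self]

/-- The data restrict to invariant nonabelian subgroups containing the centre. -/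
theorem SD.res {K : Subgroup (MulAut P)} (h : SD P K) (H : Subgroup P)
    (hHK : ∀ k ∈ K, ∀ x ∈ H, k x ∈ H) (hZH : Subgroup.center P ≤ H)
    (hna : ∃ x ∈ H, ∃ y ∈ H, x * y ≠ y * x) : SD H (resK K H) := by
  haveI := h.fin
  refine ⟨inferInstance, h.h2.to_subgroup H, ?_, ?_, ?_, ?_, ?_⟩
  · rintro φ ⟨k, hk, hφ⟩ ψ ⟨l, hl, hψ⟩
    apply MulEquiv.ext
    intro x
    apply Subtype.ext
    show ((φ (ψ x) : H) : P) = ((ψ (φ x) : H) : P)
    rw [hφ, hψ, hψ, hφ]
    exact DFunLike.congr_fun (h.hKab k hk l hl) (x : P)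
  · intro x y hx1 hx2 hy1 hy2
    have hx1' : (x : P) ≠ 1 := fun e => hx1 (Subtype.ext e)
    have hy1' : (y : P) ≠ 1 := fun e => hy1 (Subtype.ext e)
    have hx2' : (x : P) * x = 1 := congrArg Subtype.val hx2
    have hy2' : (y : P) * y = 1 := congrArg Subtype.val hy2
    obtain ⟨k, hk, hkx⟩ := h.hex _ _ hx1' hx2' hy1' hy2'
    refine ⟨resAut H k (hHK k hk) (hHK k⁻¹ (K.inv_mem hk)), ⟨k, hk, fun _ => rfl⟩, ?_⟩
    exact Subtype.ext hkx
  · rintro φ ⟨k, hk, hφ⟩ x hx1 hx2 hφx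
    have hx1' : (x : P) ≠ 1 := fun e => hx1 (Subtype.ext e)
    have hx2' : (x : P) * x = 1 := congrArg Subtype.val hx2
    have hkx : k x = x := by rw [← hφ, hφx]
    have hk1 := h.hfree k hk _ hx1' hx2' hkx
    apply MulEquiv.ext
    intro y
    apply Subtype.ext
    rw [hφ, hk1]; rfl
  · obtain ⟨x, y, hxy, hx1, hx2, hy1, hy2⟩ := h.htwo
    refine ⟨⟨x, hZH (h.hci x hx2)⟩, ⟨y, hZH (h.hci y hy2)⟩, ?_, ?_, ?_, ?_, ?_⟩
    · exact fun e => hxy (congrArg Subtype.val e)
    · exact fun e => hx1 (congrArg Subtype.val e)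
    · exact Subtype.ext hx2
    · exact fun e => hy1 (congrArg Subtype.val e)
    · exact Subtype.ext hy2
  · obtain ⟨x, hx, y, hy, hxy⟩ := hna
    exact ⟨⟨x, hx⟩, ⟨y, hy⟩, fun e => hxy (congrArg Subtype.val e)⟩

/-- An invariant subgroup containing the centre whose centre has an element of order four is
abelian. -/
theorem SD.abelian_of_central4 {K : Subgroup (MulAut P)} (h : SD P K) (H : Subgroup P)
    (hHK : ∀ k ∈ K, ∀ x ∈ H, k x ∈ H) (hZH : Subgroup.center P ≤ H)
    (z : P) (hz : z ∈ H) (hzc : ∀ x ∈ H, x * z = z * x) (hz2 : z * z ≠ 1) :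
    ∀ x ∈ H, ∀ y ∈ H, x * y = y * x := by
  by_contra hna
  have hna' : ∃ x ∈ H, ∃ y ∈ H, x * y ≠ y * x := by
    by_contra hcon
    apply hna
    intro x hx y hy
    by_contra hxy
    exact hcon ⟨x, hx, y, hy, hxy⟩
  have hH := h.res H hHK hZH hna'
  have hzc' : (⟨z, hz⟩ : H) ∈ Subgroup.center H := by
    rw [Subgroup.mem_center_iff]
    intro g
    exact Subtype.ext (hzc g g.2)
  have := hH.hce _ hzc'
  exact hz2 (congrArg Subtype.val this)

end Cfsg.Agent.Lib.Helper45.Hig
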