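import Mathlib
import Cfsg.Agent.Lib.Helper45.HigFree
import Cfsg.Agent.Lib.Helper45.HigField
import Cfsg.Agent.Lib.Helper21.RegField

set_option autoImplicit false

namespace Cfsg.Agent.Lib.Helper45.Hig

open Cfsg.Agent.Lib.Helper21.Suz2 Cfsg.Agent.Lib.Helper21.RegField
open scoped IsMulCommutative

universe u

variable {P : Type u} [Group P]

instance Vsub_normal : (Vsub P).Normal where
  conj_mem := by
    intro v hv g
    have e : g * v * g⁻¹ = v * cm v g⁻¹ := by unfold cm; group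
    rw [e]
    exact mul_mem hv (center_le_Vsub (hv.2 _))

/-- The centralizer of `V`. -/
abbrev Csub (P : Type u) [Group P] : Subgroup P := Subgroup.centralizer (Vsub P : Set P)

theorem mem_Csub (c : P) : c ∈ Csub P ↔ ∀ v ∈ Vsub P, v * c = c * v :=
  Subgroup.mem_centralizer_iff

theorem mem_Csub_iff_cm (c : P) : c ∈ Csub P ↔ ∀ v ∈ Vsub P, cm v c = 1 := by
  rw [mem_Csub]
  constructor
  · intro hc v hv
    rw [cm_eq_one_iff]; exact hc v hv
  · intro hc v hv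
    rw [← cm_eq_one_iff]; exact hc v hv

theorem Csub_map (k : MulAut P) {c : P} (hc : c ∈ Csub P) : k c ∈ Csub P := by
  rw [mem_Csub] at hc ⊢
  intro v hv
  have e : v = k (k⁻¹ v) := by rw [MulAut.apply_inv_self]
  have h1 := hc (k⁻¹ v) (Vsub_map k⁻¹ hv)
  rw [e, ← map_mul, h1, map_mul]

theorem cm_V_mul_left {v w : P} (hv : v ∈ Vsub P) (g : P) : cm (v * w) g = cm v g * cm w g :=
  cm_mul_left v w g (hv.2 g)

theorem cm_V_mul_right {v : P} (hv : v ∈ Vsub P) (g g' : P) : cm v (g * g') = cm v g * cm v g' :=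
  cm_mul_right v g g' (hv.2 g)

theorem cm_V_inv_right {v : P} (hv : v ∈ Vsub P) (g : P) : cm v g⁻¹ = (cm v g)⁻¹ := by
  have h1 := cm_V_mul_right hv g g⁻¹
  rw [mul_inv_cancel] at h1
  have h2 : cm v (1 : P) = 1 := by unfold cm; group
  rw [h2] at h1
  exact eq_inv_of_mul_eq_one_right h1.symm

theorem cm_V_inv_left {v : P} (hv : v ∈ Vsub P) (g : P) : cm v⁻¹ g = (cm v g)⁻¹ := by
  have h1 := cm_V_mul_left (w := v⁻¹) hv g
  rw [mul_inv_cancel, cm_one_left] at h1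
  exact eq_inv_of_mul_eq_one_right h1.symm

section Ab

variable {K : Subgroup (MulAut P)} (h : SD P K)
  (hVab : ∀ v ∈ Vsub P, ∀ w ∈ Vsub P, v * w = w * v)
include h hVab

theorem SD.V_le_C : Vsub P ≤ Csub P := by
  intro v hv
  rw [mem_Csub]
  intro w hw
  exact hVab w hw v hv

theorem SD.sq_mem_C (g : P) : g * g ∈ Csub P := by
  rw [mem_Csub]
  intro v hv
  exact h.V_comm_sq hv g

/-- On `V`, squaring is a homomorphism. -/
theorem SD.V_sq_mul {v w : P} (hv : v ∈ Vsub P) (hw : w ∈ Vsub P) :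
    (v * w) * (v * w) = (v * v) * (w * w) := by
  rw [sq_mul v w (hw.2 v), (cm_eq_one_iff w v).mpr (hVab w hw v hv), mul_one]

/-- The commutator `[v, g]` for `v ∈ V` only depends on `v²`. -/
theorem SD.cm_of_sq_eq {v w : P} (hv : v ∈ Vsub P) (hw : w ∈ Vsub P) (hvw : v * v = w * w)
    (g : P) : cm v g = cm w g := by
  have hw' : w⁻¹ ∈ Vsub P := inv_mem hw
  have h1 : (v * w⁻¹) * (v * w⁻¹) = 1 := by
    rw [h.V_sq_mul hVab hv hw', hvw]; group
  have hz := h.hci _ h1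
  have e : v = (v * w⁻¹) * w := by group
  rw [e, cm_mul_left _ _ _ (by rw [cm_of_central hz]; exact one_mem _), cm_of_central hz, one_mul]

theorem SD.regact : RegAct (M := ↥(Subgroup.center P)) (𝒢 := ↥K)
    (fun k z => ⟨k.1 z.1, aut_center k.1 z.2⟩) where
  act_mul := fun g g' x => Subtype.ext rfl
  act_one := fun x => Subtype.ext rfl
  act_hom := fun g x y => Subtype.ext (map_mul g.1 _ _)
  comm := fun g g' x => Subtype.ext (DFunLike.congr_fun (h.hKab g.1 g.2 g'.1 g'.2) x.1)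
  reg := by
    intro x y hx hy
    have hx1 : x.1 ≠ 1 := fun e => hx (Subtype.ext e)
    have hy1 : y.1 ≠ 1 := fun e => hy (Subtype.ext e)
    obtain ⟨k, hk, hkx⟩ := h.hex _ _ hx1 (h.hce _ x.2) hy1 (h.hce _ y.2)
    refine ⟨⟨k, hk⟩, Subtype.ext hkx, ?_⟩
    intro k' hk'
    have hk'x : k'.1 x.1 = y.1 := congrArg Subtype.val hk'
    have h1 : (k⁻¹ * k'.1) x.1 = x.1 := by
      show k⁻¹ (k'.1 x.1) = x.1
      rw [hk'x, ← hkx, MulAut.inv_apply_self]
    have h2 := h.hfree _ (K.mul_mem (K.inv_mem hk) k'.2) _ hx1 (h.hce _ x.2) h1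
    exact Subtype.ext (inv_mul_eq_one.mp h2).symm
  exp := fun x => Subtype.ext (h.hce _ x.2)

/-- Coordinates: a minimal `K`-invariant subgroup over `C_P(V)` acts on `V` by multiples of one
field automorphism. -/
theorem SD.field_out_aux (Y : Subgroup P)
    (hYK : ∀ k ∈ K, ∀ y ∈ Y, k y ∈ Y) (hCY : Csub P ≤ Y) (hYne : ∃ y ∈ Y, y ∉ Csub P)
    (hYmin : ∀ H : Subgroup P, (∀ k ∈ K, ∀ x ∈ H, k x ∈ H) → Csub P ≤ H → H ≤ Y →
      H = Csub P ∨ H = Y)
    {F : Type u} [Field F] [Fintype F] (ev : F → ↥(Subgroup.center P)) (em : ↥K → F)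
    (hbij : Function.Bijective ev) (hadd : ∀ r s, ev (r + s) = ev r * ev s)
    (hem0 : ∀ g, em g ≠ 0)
    (hact : ∀ (g : ↥K) (r : F), ev (em g * r) = ⟨g.1 (ev r).1, aut_center g.1 (ev r).2⟩)
    (hemsurj : ∀ r, r ≠ 0 → ∃ g, em g = r) :
    (∀ y ∈ Y, y ∉ Csub P → ∀ v ∈ Vsub P, v * y = y * v → v ∈ Subgroup.center P) ∧
      Nat.card Y = Nat.card (Csub P) * Nat.card (Subgroup.center P) := by
  classical
  haveI := h.fin
  have hev0 : ev 0 = 1 := by
    have := hadd 0 0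
    rw [add_zero] at this
    exact (mul_eq_left.mp this.symm)
  have h11 : (1 : F) + 1 = 0 := by
    apply hbij.1
    rw [hadd, hev0]
    exact Subtype.ext (h.hce _ (ev 1).2)
  haveI : CharP F 2 :=
    CharTwo.of_one_ne_zero_of_two_eq_zero one_ne_zero (by rw [← one_add_one_eq_two]; exact h11)
  let E : F ≃ ↥(Subgroup.center P) := Equiv.ofBijective ev hbij
  have hE1 : ∀ r, E.symm (ev r) = r := fun r => E.symm_apply_apply r
  have hE2 : ∀ z, ev (E.symm z) = z := fun z => E.apply_symm_apply z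
  choose w hwV hwsq using fun x : F => h.sq_surj (ev x : P) (ev x).2
  let Tf : ↥Y → F → F := fun y x => E.symm ⟨cm (w x) y.1, (hwV x).2 y.1⟩
  have hTfspec : ∀ (y : Y) (x : F) (v : P), v ∈ Vsub P → v * v = (ev x : P) →
      (ev (Tf y x) : P) = cm v (y : P) := by
    intro y x v hv hvx
    show (ev (E.symm ⟨cm (w x) y.1, (hwV x).2 y.1⟩) : P) = _
    rw [hE2]
    exact h.cm_of_sq_eq hVab (hwV x) hv ((hwsq x).trans hvx.symm) _
  have hTf0 : ∀ (y : Y), (∀ x, Tf y x = 0) ↔ (y : P) ∈ Csub P := by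
    intro y
    rw [mem_Csub_iff_cm]
    constructor
    · intro hy v hv
      have e := hTfspec y (E.symm ⟨v * v, hv.1⟩) v hv (by rw [hE2])
      rw [hy, hev0] at e
      exact e.symm
    · intro hy x
      apply hbij.1
      apply Subtype.ext
      rw [hTfspec y x (w x) (hwV x) (hwsq x), hy _ (hwV x), hev0]; rfl
  have hTmul : ∀ g g' x, Tf (g * g') x = Tf g x + Tf g' x := by
    intro g g' x
    apply hbij.1
    apply Subtype.ext
    rw [hadd]
    show (ev (Tf (g * g') x) : P) = (ev (Tf g x) : P) * (ev (Tf g' x) : P)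
    rw [hTfspec _ x (w x) (hwV x) (hwsq x), hTfspec _ x (w x) (hwV x) (hwsq x),
      hTfspec _ x (w x) (hwV x) (hwsq x)]
    exact cm_V_mul_right (hwV x) _ _
  have hTadd : ∀ g x x', Tf g (x + x') = Tf g x + Tf g x' := by
    intro g x x'
    apply hbij.1
    apply Subtype.ext
    rw [hadd]
    show (ev (Tf g (x + x')) : P) = (ev (Tf g x) : P) * (ev (Tf g x') : P)
    have hv : w x * w x' ∈ Vsub P := mul_mem (hwV x) (hwV x')
    have hsq : (w x * w x') * (w x * w x') = (ev (x + x') : P) := by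
      rw [h.V_sq_mul hVab (hwV x) (hwV x'), hwsq, hwsq, hadd]; rfl
    rw [hTfspec g (x + x') _ hv hsq, hTfspec _ x (w x) (hwV x) (hwsq x),
      hTfspec _ x' (w x') (hwV x') (hwsq x')]
    exact cm_V_mul_left (hwV x) _
  let a : ↥K → ↥Y → ↥Y := fun k y => ⟨k.1 y.1, hYK k.1 k.2 y.1 y.2⟩
  have hequi : ∀ k g x, Tf (a k g) (em k * x) = em k * Tf g x := by
    intro k g x
    apply hbij.1
    apply Subtype.ext
    rw [hact]
    show (ev (Tf (a k g) (em k * x)) : P) = k.1 (ev (Tf g x) : P)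
    have hv : k.1 (w x) ∈ Vsub P := Vsub_map k.1 (hwV x)
    have hsq : k.1 (w x) * k.1 (w x) = (ev (em k * x) : P) := by
      rw [← map_mul, hwsq, hact]
    rw [hTfspec (a k g) (em k * x) _ hv hsq, hTfspec g x (w x) (hwV x) (hwsq x), cm_map]
  have hmin : ∀ H : Subgroup ↥Y, (∀ g, (∀ x, Tf g x = 0) → g ∈ H) →
      (∀ k, ∀ g ∈ H, a k g ∈ H) → (∀ g ∈ H, ∀ x, Tf g x = 0) ∨ H = ⊤ := by
    intro H hH1 hH2
    have hK' : ∀ k ∈ K, ∀ x ∈ H.map Y.subtype, k x ∈ H.map Y.subtype := by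
      rintro k hk _ ⟨g, hg, rfl⟩
      exact ⟨a ⟨k, hk⟩ g, hH2 ⟨k, hk⟩ g hg, rfl⟩
    have hC' : Csub P ≤ H.map Y.subtype := by
      intro c hc
      exact ⟨⟨c, hCY hc⟩, hH1 _ ((hTf0 _).2 hc), rfl⟩
    have hle : H.map Y.subtype ≤ Y := by
      rintro _ ⟨g, -, rfl⟩
      exact g.2
    rcases hYmin _ hK' hC' hle with hh | hh
    · left
      intro g hg
      rw [hTf0, ← hh]
      exact ⟨g, hg, rfl⟩
    · right
      rw [Subgroup.eq_top_iff']
      intro g
      have : (g : P) ∈ H.map Y.subtype := by rw [hh]; exact g.2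
      obtain ⟨g', hg', hgg'⟩ := this
      have : g' = g := Subtype.ext hgg'
      rw [← this]; exact hg'
  have hfreeq : ∀ k k' g, (¬ ∀ x, Tf g x = 0) → (∀ x, Tf (a k g * (a k' g)⁻¹) x = 0) →
      em k = em k' := by
    intro k k' g hg hkk
    rw [hTf0] at hg hkk
    have hkk' : k.1 g.1 * (k'.1 g.1)⁻¹ ∈ Csub P := hkk
    have hg' : k'.1 g.1 ∉ Csub P := by
      intro hh
      apply hg
      have := Csub_map k'.1⁻¹ hh
      rw [MulAut.inv_apply_self] at this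
      exact this
    have e1 : (k'.1 g.1)⁻¹ * (k.1 * k'.1⁻¹) (k'.1 g.1) ∈ Csub P := by
      have h3 : (k.1 * k'.1⁻¹) (k'.1 g.1) = k.1 g.1 := by
        show k.1 (k'.1⁻¹ (k'.1 g.1)) = _
        rw [MulAut.inv_apply_self]
      rw [h3]
      have h4 := (inferInstance : (Csub P).Normal).conj_mem _ hkk' (k'.1 g.1)⁻¹
      have e : (k'.1 g.1)⁻¹ * (k.1 g.1 * (k'.1 g.1)⁻¹) * (k'.1 g.1)⁻¹⁻¹ =
          (k'.1 g.1)⁻¹ * k.1 g.1 := by group
      rw [e] at h4
      exact h4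
    have h5 := h.free_quot (Csub P) (fun k _ x hx => Csub_map k hx) (k.1 * k'.1⁻¹)
      (K.mul_mem k.2 (K.inv_mem k'.2)) _ hg' e1
    have h6 : k = k' := Subtype.ext (mul_inv_eq_one.mp h5)
    rw [h6]
  obtain ⟨y₀, hy₀Y, hy₀C⟩ := hYne
  have hg₀ : ¬ ∀ x, Tf ⟨y₀, hy₀Y⟩ x = 0 := by
    rw [hTf0]; exact hy₀C
  obtain ⟨r₁, hr₁0, hr₁1⟩ : ∃ r₁ : F, r₁ ≠ 0 ∧ r₁ ≠ 1 := by
    obtain ⟨x, y, hxy, hx1, hx2, hy1, hy2⟩ := h.htwo
    have hx0 : E.symm ⟨x, h.hci x hx2⟩ ≠ 0 := by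
      intro hh
      have := hE2 ⟨x, h.hci x hx2⟩
      rw [hh, hev0] at this
      exact hx1 (congrArg Subtype.val this).symm
    have hy0 : E.symm ⟨y, h.hci y hy2⟩ ≠ 0 := by
      intro hh
      have := hE2 ⟨y, h.hci y hy2⟩
      rw [hh, hev0] at this
      exact hy1 (congrArg Subtype.val this).symm
    by_cases hx : E.symm ⟨x, h.hci x hx2⟩ = 1
    · refine ⟨E.symm ⟨y, h.hci y hy2⟩, hy0, ?_⟩
      intro hy
      apply hxy
      have := E.symm.injective (hx.trans hy.symm)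
      exact congrArg Subtype.val this
    · exact ⟨_, hx0, hx⟩
  obtain ⟨σ₀, t, hT, htadd, htsurj⟩ := field_core Tf hTmul hTadd a em hem0 hemsurj hequi hmin
    hfreeq ⟨y₀, hy₀Y⟩ hg₀ r₁ hr₁0 hr₁1
  have ht0 : ∀ y : Y, t y = 0 ↔ (y : P) ∈ Csub P := by
    intro y
    rw [← hTf0]
    constructor
    · intro hy x
      rw [hT, hy, zero_mul]
    · intro hy
      have := hy 1
      rw [hT, map_one, mul_one] at this
      exact this
  refine ⟨?_, ?_⟩
  · intro y hyY hyC v hv hvy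
    have e := hTfspec ⟨y, hyY⟩ (E.symm ⟨v * v, hv.1⟩) v hv (by rw [hE2])
    rw [(cm_eq_one_iff v y).mpr hvy] at e
    have e2 : Tf ⟨y, hyY⟩ (E.symm ⟨v * v, hv.1⟩) = 0 := by
      apply hbij.1
      apply Subtype.ext
      rw [e, hev0]; rfl
    rw [hT] at e2
    have hty : t ⟨y, hyY⟩ ≠ 0 := fun hh => hyC ((ht0 _).1 hh)
    have e3 : σ₀ (E.symm ⟨v * v, hv.1⟩) = 0 := (mul_eq_zero.mp e2).resolve_left hty
    have e4 : E.symm ⟨v * v, hv.1⟩ = 0 := (map_eq_zero_iff σ₀ σ₀.injective).mp e3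
    have e5 := hE2 ⟨v * v, hv.1⟩
    rw [e4, hev0] at e5
    exact h.hci v (congrArg Subtype.val e5).symm
  · have ht1 : t 1 = 0 := by
      have := htadd 1 1
      rw [mul_one] at this
      linear_combination -this
    let thom : ↥Y →* Multiplicative F :=
      { toFun := fun y => Multiplicative.ofAdd (t y)
        map_one' := by rw [ht1]; rfl
        map_mul' := fun y y' => by rw [htadd]; rfl }
    have hker : thom.ker = (Csub P).subgroupOf Y := by
      ext y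
      rw [MonoidHom.mem_ker, Subgroup.mem_subgroupOf, ← ht0]
      constructor
      · intro hh
        exact congrArg Multiplicative.toAdd hh
      · intro hh
        show Multiplicative.ofAdd (t y) = 1
        rw [hh]; rfl
    have hrange : thom.range = ⊤ := by
      rw [MonoidHom.range_eq_top]
      intro r
      obtain ⟨y, hy⟩ := htsurj (Multiplicative.toAdd r)
      exact ⟨y, by show Multiplicative.ofAdd (t y) = r; rw [hy]; rfl⟩
    have h1 := Subgroup.card_mul_index thom.ker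
    rw [Subgroup.index_ker, hrange, Subgroup.card_top, hker,
      Nat.card_congr (Subgroup.subgroupOfEquivOfLe hCY).toEquiv] at h1
    rw [← h1]
    congr 1
    exact (Nat.card_congr (Multiplicative.toAdd.trans E))

theorem SD.field_out (Y : Subgroup P)
    (hYK : ∀ k ∈ K, ∀ y ∈ Y, k y ∈ Y) (hCY : Csub P ≤ Y) (hYne : ∃ y ∈ Y, y ∉ Csub P)
    (hYmin : ∀ H : Subgroup P, (∀ k ∈ K, ∀ x ∈ H, k x ∈ H) → Csub P ≤ H → H ≤ Y →
      H = Csub P ∨ H = Y) :
    (∀ y ∈ Y, y ∉ Csub P → ∀ v ∈ Vsub P, v * y = y * v → v ∈ Subgroup.center P) ∧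
      Nat.card Y = Nat.card (Csub P) * Nat.card (Subgroup.center P) := by
  haveI := h.fin
  obtain ⟨x₀, -, -, hx1, hx2, -, -⟩ := h.htwo
  have hx₀ : (⟨x₀, h.hci x₀ hx2⟩ : ↥(Subgroup.center P)) ≠ 1 :=
    fun e => hx1 (congrArg Subtype.val e)
  obtain ⟨F, iF, iFT, ev, em, hbij, hadd, -, hem0, hact, hemsurj⟩ :=
    regfield (h.regact hVab) _ hx₀
  exact h.field_out_aux hVab Y hYK hCY hYne hYmin ev em hbij hadd hem0 hact hemsurj

end Ab

end Cfsg.Agent.Lib.Helper45.Hig
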