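import Mathlib
import Cfsg.Agent.Lib.Helper45.HigAb

set_option autoImplicit false

namespace Cfsg.Agent.Lib.Helper45.Hig

open Cfsg.Agent.Lib.Helper21.Suz2 Cfsg.Agent.Lib.Helper21.RegField

universe u

variable {P : Type u} [Group P]

theorem cm_mul_left_gen (y y' g : P) : cm (y * y') g = cm y g * cm (cm y g) y' * cm y' g := by
  unfold cm; group

theorem cm_mul_right_gen (x g g' : P) : cm x (g * g') = cm x g' * cm x g * cm (cm x g) g' := by
  unfold cm; group

theorem cm_inv_right_gen (y b : P) : cm y b⁻¹ = b * (cm y b)⁻¹ * b⁻¹ := by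
  unfold cm; group

/-- Elements whose commutators with `Y` are central. -/
def Bsub (Y : Subgroup P) : Subgroup P where
  carrier := {b | ∀ y ∈ Y, cm y b ∈ Subgroup.center P}
  one_mem' := fun y _ => by
    have e : cm y (1 : P) = 1 := by unfold cm; group
    rw [e]; exact one_mem _
  mul_mem' := by
    intro b b' hb hb' y hy
    rw [cm_mul_right_gen, cm_of_central (hb y hy), mul_one]
    exact mul_mem (hb' y hy) (hb y hy)
  inv_mem' := by
    intro b hb y hy
    rw [cm_inv_right_gen]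
    exact (inferInstance : (Subgroup.center P).Normal).conj_mem _ (inv_mem (hb y hy)) b

theorem mem_Bsub (Y : Subgroup P) (b : P) :
    b ∈ Bsub Y ↔ ∀ y ∈ Y, cm y b ∈ Subgroup.center P := Iff.rfl

theorem Bsub_map (Y : Subgroup P) (k : MulAut P) (hk : ∀ y ∈ Y, k⁻¹ y ∈ Y) {b : P}
    (hb : b ∈ Bsub Y) : k b ∈ Bsub Y := by
  intro y hy
  have h1 := cm_map k (k⁻¹ y) b
  rw [MulAut.apply_inv_self] at h1
  rw [← h1]
  exact aut_center k (hb _ (hk y hy))

section End

variable {K : Subgroup (MulAut P)} (h : SD P K)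
  (hVab : ∀ v ∈ Vsub P, ∀ w ∈ Vsub P, v * w = w * v)
include h hVab

theorem SD.C_abelian : ∀ x ∈ Csub P, ∀ y ∈ Csub P, x * y = y * x := by
  obtain ⟨v₀, hv₀, hv₀c⟩ := h.exists_V_not_center
  have hb1 : v₀ * v₀ ≠ 1 := fun hb => hv₀c (h.hci _ hb)
  exact h.abelian_of_central4 (Csub P) (fun k _ x hx => Csub_map k hx)
    (center_le_Vsub.trans (h.V_le_C hVab)) v₀ (h.V_le_C hVab hv₀)
    (fun x hx => ((mem_Csub x).1 hx v₀ hv₀).symm) hb1

theorem SD.caseTop
    (hI : ∀ g : P, g ∉ Csub P → ∀ v ∈ Vsub P, v * g = g * v → v ∈ Subgroup.center P) :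
    False := by
  have hVC := h.V_le_C hVab
  have hCab := h.C_abelian hVab
  have hsqC := h.sq_mem_C hVab
  obtain ⟨xa, ya, hxy⟩ := h.hna
  have hexg : ∃ g : P, g ∉ Csub P := by
    by_contra hcon
    simp only [not_exists, not_not] at hcon
    exact hxy (hCab xa (hcon xa) ya (hcon ya))
  by_cases hCV : ∀ c ∈ Csub P, c ∈ Vsub P
  · have hsq : ∀ g : P, g * g ∈ Subgroup.center P := by
      intro g
      by_cases hg : g ∈ Csub P
      · exact (hCV g hg).1
      · exact hI g hg (g * g) (hCV _ (hsqC g)) (mul_assoc g g g)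
    have hall : ∀ x : P, x ∈ Vsub P := fun x => ⟨hsq x, fun g => cm_mem_of_sq_mem _ hsq x g⟩
    exact hxy (hVab xa (hall xa) ya (hall ya))
  · simp only [not_forall] at hCV
    obtain ⟨c, hcC, hcV⟩ := hCV
    have hstep : ∀ N : ℕ, ∀ c ∈ Csub P, c ∉ Vsub P → c ^ (2 ^ N) = 1 →
        ∃ d ∈ Csub P, d * d ∈ Vsub P ∧ (d * d) * (d * d) ≠ 1 := by
      intro N
      induction N with
      | zero =>
        intro c _ hcV hc
        rw [pow_zero, pow_one] at hc
        exact absurd (hc ▸ one_mem _) hcV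
      | succ N ih =>
        intro c hcC hcV hcN
        have h4 : (c * c) * (c * c) ≠ 1 :=
          fun h4 => hcV (h.mem_V_of_comm c ((mem_Csub c).1 hcC) h4)
        by_cases hccV : c * c ∈ Vsub P
        · exact ⟨c, hcC, hccV, h4⟩
        · have h1 : (c * c) ^ (2 ^ N) = 1 := by
            rw [← pow_two, ← pow_mul, ← pow_succ']; exact hcN
          exact ih (c * c) (mul_mem hcC hcC) hccV h1
    obtain ⟨N, hN⟩ := h.h2 c
    obtain ⟨d, hdC, hw₀V, he⟩ := hstep N c hcC hcV hN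
    have hstep2 : ∀ g : P, g ∉ Csub P → cm (d * d) g = (d * d) * (d * d) := by
      intro g hg
      obtain ⟨u, hu⟩ : ∃ u, cm d g = u := ⟨_, rfl⟩
      have huC : u ∈ Csub P := by
        rw [← hu]
        have e : cm d g = d⁻¹ * (g⁻¹ * d * g⁻¹⁻¹) := by unfold cm; group
        rw [e]
        exact mul_mem (inv_mem hdC) ((inferInstance : (Csub P).Normal).conj_mem _ hdC g⁻¹)
      have h1 : cm (d * d) g = u * u := by
        rw [cm_mul_left_gen, hu, (cm_eq_one_iff u d).mpr (hCab u huC d hdC), mul_one]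
      have huu : u * u ∈ Subgroup.center P := by rw [← h1]; exact hw₀V.2 g
      have huV : u ∈ Vsub P := h.mem_V_of_comm u ((mem_Csub u).1 huC) (h.hce _ huu)
      have h2 : cm d (g * g) = 1 := (cm_eq_one_iff _ _).mpr (hCab d hdC _ (hsqC g))
      rw [cm_mul_right_gen, hu] at h2
      have h3 : cm u g = u * u := by
        have := eq_inv_of_mul_eq_one_right h2
        rw [this, h.cinv _ huu]
      have hw₀inv : (d * d)⁻¹ ∈ Vsub P := inv_mem hw₀V
      have h4 : cm (u * (d * d)⁻¹) g = 1 := by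
        rw [cm_V_mul_left huV, cm_V_inv_left hw₀V, h1, h3, mul_inv_cancel]
      have h5 : u * (d * d)⁻¹ ∈ Subgroup.center P :=
        hI g hg _ (mul_mem huV hw₀inv) ((cm_eq_one_iff _ _).mp h4)
      have h6 := h.hce _ h5
      rw [h.V_sq_mul hVab huV hw₀inv] at h6
      rw [h1]
      have : u * u = ((d * d)⁻¹ * (d * d)⁻¹)⁻¹ := eq_inv_of_mul_eq_one_left h6
      rw [this, mul_inv_rev, inv_inv]
    obtain ⟨k, hk, hk1⟩ := h.exists_k_ne_one
    obtain ⟨g, hg⟩ := hexg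
    have hg' : k g ∉ Csub P := by
      intro hh
      have := Csub_map k⁻¹ hh
      rw [MulAut.inv_apply_self] at this
      exact hg this
    have hez : (d * d) * (d * d) ∈ Subgroup.center P := hw₀V.1
    have h7 : cm (d * d) (g * k g) = 1 := by
      rw [cm_V_mul_right hw₀V, hstep2 g hg, hstep2 (k g) hg', h.hce _ hez]
    have hw₀Z : d * d ∉ Subgroup.center P := fun hh => he (h.hce _ hh)
    have h8 : g * k g ∈ Csub P := by
      by_contra hh
      exact hw₀Z (hI _ hh _ hw₀V ((cm_eq_one_iff _ _).mp h7))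
    have h9 : g⁻¹ * k g ∈ Csub P := by
      have e : g⁻¹ * k g = (g * g)⁻¹ * (g * k g) := by group
      rw [e]
      exact mul_mem (inv_mem (hsqC g)) h8
    exact hk1 (h.free_quot (Csub P) (fun k _ x hx => Csub_map k hx) k hk g hg h9)

theorem SD.caseProper (Y : Subgroup P) (hYK : ∀ k ∈ K, ∀ y ∈ Y, k y ∈ Y) (hCY : Csub P ≤ Y)
    (hYne : ∃ y ∈ Y, y ∉ Csub P)
    (hI : ∀ y ∈ Y, y ∉ Csub P → ∀ v ∈ Vsub P, v * y = y * v → v ∈ Subgroup.center P)
    (hidx : Nat.card Y = Nat.card (Csub P) * Nat.card (Subgroup.center P))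
    (hY4 : ∀ y ∈ Y, (y * y) * (y * y) = 1) : False := by
  haveI := h.fin
  have hVC := h.V_le_C hVab
  have hsqC := h.sq_mem_C hVab
  have hCV : ∀ c ∈ Csub P, c ∈ Vsub P := fun c hc =>
    h.mem_V_of_comm c ((mem_Csub c).1 hc) (hY4 c (hCY hc))
  have hYsq : ∀ y ∈ Y, y * y ∈ Subgroup.center P := fun y hy => h.hci _ (hY4 y hy)
  have hcmV : ∀ x y : P, cm x y ∈ Vsub P :=
    fun x y => hCV _ (cm_mem_of_sq_mem (Csub P) hsqC x y)
  have hYcm : ∀ y ∈ Y, ∀ y' ∈ Y, cm y y' ∈ Subgroup.center P := by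
    intro y hy y' hy'
    have e : cm y y' = (y * y)⁻¹ * ((y * y'⁻¹) * (y * y'⁻¹)) * (y' * y') := by unfold cm; group
    rw [e]
    exact mul_mem (mul_mem (inv_mem (hYsq y hy)) (hYsq _ (mul_mem hy (inv_mem hy'))))
      (hYsq y' hy')
  have hYB : Y ≤ Bsub Y := fun y' hy' y hy => hYcm y hy y' hy'
  have hBK : ∀ k ∈ K, ∀ b ∈ Bsub Y, k b ∈ Bsub Y := fun k hk b hb =>
    Bsub_map Y k (fun y hy => hYK k⁻¹ (K.inv_mem hk) y hy) hb
  -- (b)
  have hb : ∀ y ∈ Y, ∀ g : P, cm (cm y g) y = cm y g * cm y g := by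
    intro y hy g
    obtain ⟨u, hu⟩ : ∃ u, cm y g = u := ⟨_, rfl⟩
    have huV : u ∈ Vsub P := hu ▸ hcmV y g
    have h1 : cm (y * y) g = 1 := cm_of_central (hYsq y hy) g
    rw [cm_mul_left_gen, hu] at h1
    have hz := Subgroup.mem_center_iff.mp (huV.2 y)
    have h2 : (u * u) * cm u y = 1 := by
      calc (u * u) * cm u y = u * (u * cm u y) := by group
        _ = u * (cm u y * u) := by rw [hz u]
        _ = u * cm u y * u := by group
        _ = 1 := h1
    have := eq_inv_of_mul_eq_one_right h2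
    rw [hu, this, h.cinv _ huV.1]
  -- (c)
  have hc : ∀ y ∈ Y, ∀ y' ∈ Y, ∀ g : P, cm (cm y' g) y = cm (cm y g) y' := by
    intro y hy y' hy' g
    obtain ⟨u, hu⟩ : ∃ u, cm y g = u := ⟨_, rfl⟩
    obtain ⟨u', hu'⟩ : ∃ u', cm y' g = u' := ⟨_, rfl⟩
    have huV : u ∈ Vsub P := hu ▸ hcmV y g
    have hu'V : u' ∈ Vsub P := hu' ▸ hcmV y' g
    obtain ⟨z, hz⟩ : ∃ z, cm u y' = z := ⟨_, rfl⟩
    have hzZ : z ∈ Subgroup.center P := hz ▸ huV.2 y'
    have hzV : z ∈ Vsub P := center_le_Vsub hzZ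
    have hU : cm (y * y') g = u * z * u' := by rw [cm_mul_left_gen, hu, hu', hz]
    have h1 := hb (y * y') (mul_mem hy hy') g
    rw [hU] at h1
    have huz : u * z ∈ Vsub P := mul_mem huV hzV
    have e1 : cm u y = u * u := by rw [← hu]; exact hb y hy g
    have e2 : cm u' y' = u' * u' := by rw [← hu']; exact hb y' hy' g
    have hl : cm (u * z * u') (y * y') = (u * u) * z * (cm u' y * (u' * u')) := by
      rw [cm_V_mul_left huz, cm_V_mul_left huV, cm_of_central hzZ, mul_one,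
        cm_V_mul_right huV, cm_V_mul_right hu'V, e1, e2, hz]
    have hr : (u * z * u') * (u * z * u') = (u * u) * (u' * u') := by
      rw [h.V_sq_mul hVab huz hu'V, h.V_sq_mul hVab huV hzV, h.hce z hzZ, mul_one]
    rw [hl, hr] at h1
    have h2 : z * cm u' y = 1 := by
      have : (u * u) * (z * cm u' y) * (u' * u') = (u * u) * 1 * (u' * u') := by
        calc (u * u) * (z * cm u' y) * (u' * u')
            = (u * u) * z * (cm u' y * (u' * u')) := by group
          _ = (u * u) * (u' * u') := h1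
          _ = (u * u) * 1 * (u' * u') := by group
      exact mul_left_cancel (mul_right_cancel this)
    have h3 : cm u' y = z⁻¹ := eq_inv_of_mul_eq_one_right h2
    rw [hu', hu, hz, h3, h.cinv z hzZ]
  -- some element outside `B`
  obtain ⟨y₀, hy₀Y, hy₀C⟩ := hYne
  have hexB : ∃ g : P, g ∉ Bsub Y := by
    by_contra hcon
    simp only [not_exists, not_not] at hcon
    exact hy₀C (hVC ⟨hYsq y₀ hy₀Y, fun g => hcon g y₀ hy₀Y⟩)
  have hB8 : ∀ g : P, g ∉ Bsub Y → ∀ y ∈ Y, cm y g ∈ Subgroup.center P → y ∈ Csub P := by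
    intro g hg y hy hyg
    by_contra hyC
    apply hg
    intro y' hy'
    have h1 : cm (cm y' g) y = 1 := by
      rw [hc y hy y' hy' g]; exact cm_of_central hyg y'
    exact hI y hy hyC _ (hcmV y' g) ((cm_eq_one_iff _ _).mp h1)
  have hsurj : ∀ g : P, g ∉ Bsub Y → ∀ r ∈ Subgroup.center P,
      ∃ y ∈ Y, cm y g * cm y g = r := by
    intro g hg r hr
    let Φ : ↥Y →* ↥(Subgroup.center P) :=
      { toFun := fun y => ⟨cm (y : P) g * cm (y : P) g, (hcmV _ g).1⟩
        map_one' := by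
          apply Subtype.ext
          show cm ((1 : ↥Y) : P) g * cm ((1 : ↥Y) : P) g = 1
          rw [Subgroup.coe_one, cm_one_left, mul_one]
        map_mul' := by
          intro y y'
          apply Subtype.ext
          show cm ((y * y' : ↥Y) : P) g * cm ((y * y' : ↥Y) : P) g =
            (cm (y : P) g * cm (y : P) g) * (cm (y' : P) g * cm (y' : P) g)
          rw [Subgroup.coe_mul, cm_mul_left_gen]
          have hzZ : cm (cm (y : P) g) (y' : P) ∈ Subgroup.center P := (hcmV _ g).2 _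
          rw [h.V_sq_mul hVab (mul_mem (hcmV _ g) (center_le_Vsub hzZ)) (hcmV _ g),
            h.V_sq_mul hVab (hcmV _ g) (center_le_Vsub hzZ), h.hce _ hzZ, mul_one] }
    have hΦ : ∀ y : ↥Y, ((Φ y : ↥(Subgroup.center P)) : P) = cm (y : P) g * cm (y : P) g :=
      fun y => rfl
    have hker : Φ.ker = (Csub P).subgroupOf Y := by
      ext y
      rw [MonoidHom.mem_ker, Subgroup.mem_subgroupOf]
      constructor
      · intro hy
        have h1 : cm (y : P) g * cm (y : P) g = 1 := by rw [← hΦ, hy]; rfl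
        exact hB8 g hg y y.2 (h.hci _ h1)
      · intro hy
        apply Subtype.ext
        rw [hΦ]
        exact h.hce _ ((hCV _ hy).2 g)
    have h1 := Subgroup.card_mul_index Φ.ker
    rw [Subgroup.index_ker, hker, Nat.card_congr (Subgroup.subgroupOfEquivOfLe hCY).toEquiv,
      hidx] at h1
    have hCpos : 0 < Nat.card (Csub P) := Nat.card_pos
    have h2 : Nat.card Φ.range = Nat.card (Subgroup.center P) :=
      Nat.eq_of_mul_eq_mul_left hCpos h1
    have h3 : Φ.range = ⊤ := Subgroup.eq_top_of_card_eq _ h2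
    have h4 : (⟨r, hr⟩ : ↥(Subgroup.center P)) ∈ Φ.range := by rw [h3]; exact Subgroup.mem_top _
    obtain ⟨y, hy⟩ := h4
    exact ⟨y, y.2, by rw [← hΦ, hy]⟩
  have hB10 : ∀ g : P, g ∉ Bsub Y → ∃ y₁ ∈ Y, ∀ v ∈ Vsub P, cm v (g * y₁) = v * v := by
    intro g hg
    have hggV : g * g ∈ Vsub P := hCV _ (hsqC g)
    obtain ⟨y₁, hy₁, hy₁r⟩ := hsurj g hg _ hggV.1
    refine ⟨y₁, hy₁, ?_⟩
    intro v hv
    obtain ⟨y, hy, hyv⟩ := hsurj g hg _ hv.1
    obtain ⟨u, hu⟩ : ∃ u, cm y g = u := ⟨_, rfl⟩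
    obtain ⟨u₁, hu₁⟩ : ∃ u₁, cm y₁ g = u₁ := ⟨_, rfl⟩
    rw [hu] at hyv
    rw [hu₁] at hy₁r
    have huV : u ∈ Vsub P := hu ▸ hcmV y g
    have hu₁V : u₁ ∈ Vsub P := hu₁ ▸ hcmV y₁ g
    rw [← h.cm_of_sq_eq hVab huV hv hyv, ← hyv]
    have e1 : cm u y₁ = cm u₁ y := by
      rw [← hu, ← hu₁]; exact hc y₁ hy₁ y hy g
    have e2 : cm u₁ y = cm (g * g) y := h.cm_of_sq_eq hVab hu₁V hggV hy₁r y
    have e3 : cm (g * g) y = (u * u) * cm u g := by
      rw [cm_mul_left_gen, cm_symm y g, hu, cm_V_inv_left huV]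
      have hz := Subgroup.mem_center_iff.mp (inv_mem (huV.2 g))
      calc u⁻¹ * (cm u g)⁻¹ * u⁻¹ = u⁻¹ * ((cm u g)⁻¹ * u⁻¹) := by group
        _ = u⁻¹ * (u⁻¹ * (cm u g)⁻¹) := by rw [← hz u⁻¹]
        _ = (u * u)⁻¹ * (cm u g)⁻¹ := by group
        _ = (u * u) * cm u g := by rw [h.cinv _ huV.1, h.cinv _ (huV.2 g)]
    rw [cm_V_mul_right huV, e1, e2, e3]
    have hz := Subgroup.mem_center_iff.mp (huV.2 g)
    calc cm u g * (u * u * cm u g) = (cm u g * (u * u)) * cm u g := by group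
      _ = ((u * u) * cm u g) * cm u g := by rw [← hz (u * u)]
      _ = (u * u) * (cm u g * cm u g) := by group
      _ = u * u := by rw [h.hce _ (huV.2 g), mul_one]
  obtain ⟨k, hk, hk1⟩ := h.exists_k_ne_one
  obtain ⟨g, hg⟩ := hexB
  have hg' : k g ∉ Bsub Y := by
    intro hh
    have := hBK k⁻¹ (K.inv_mem hk) _ hh
    rw [MulAut.inv_apply_self] at this
    exact hg this
  obtain ⟨y₁, hy₁, h1⟩ := hB10 g hg
  obtain ⟨y₂, hy₂, h2⟩ := hB10 (k g) hg'
  have h3 : (g * y₁) * (k g * y₂) ∈ Csub P := by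
    rw [mem_Csub_iff_cm]
    intro v hv
    rw [cm_V_mul_right hv, h1 v hv, h2 v hv]
    exact h.hce _ hv.1
  have hCB : Csub P ≤ Bsub Y := hCY.trans hYB
  have h4 : g⁻¹ * k g ∈ Bsub Y := by
    have e : g⁻¹ * k g =
        (g * g)⁻¹ * ((g * y₁) * (k g * y₂)) * y₂⁻¹ * (cm y₁ (k g))⁻¹ * y₁⁻¹ := by
      unfold cm; group
    rw [e]
    exact mul_mem (mul_mem (mul_mem (mul_mem (inv_mem (hCB (hsqC g))) (hCB h3))
      (inv_mem (hYB hy₂))) (inv_mem (hCB (hVC (hcmV _ _))))) (inv_mem (hYB hy₁))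
  exact hk1 (h.free_quot (Bsub Y) hBK k hk g hg h4)

theorem SD.endgame
    (IH : ∀ (Q : Type u) [Group Q], Nat.card Q < Nat.card P →
      ∀ K' : Subgroup (MulAut Q), SD Q K' → ∀ x : Q, (x * x) * (x * x) = 1) : False := by
  classical
  haveI := h.fin
  have hVC := h.V_le_C hVab
  have hCab := h.C_abelian hVab
  obtain ⟨xa, ya, hxy⟩ := h.hna
  have hexg : ∃ g : P, g ∉ Csub P := by
    by_contra hcon
    simp only [not_exists, not_not] at hcon
    exact hxy (hCab xa (hcon xa) ya (hcon ya))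
  let S : Set (Subgroup P) :=
    {Y | (∀ k ∈ K, ∀ y ∈ Y, k y ∈ Y) ∧ Csub P ≤ Y ∧ ∃ y ∈ Y, y ∉ Csub P}
  have hSne : S.Nonempty := by
    obtain ⟨g, hg⟩ := hexg
    exact ⟨⊤, fun _ _ _ _ => Subgroup.mem_top _, le_top, g, Subgroup.mem_top _, hg⟩
  obtain ⟨Y, hYS, hYmin⟩ :=
    WellFounded.has_min (measure (fun Y : Subgroup P => Nat.card Y)).wf S hSne
  obtain ⟨hYK, hCY, hYne⟩ := hYS
  have hYmin' : ∀ H : Subgroup P, (∀ k ∈ K, ∀ x ∈ H, k x ∈ H) → Csub P ≤ H → H ≤ Y →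
      H = Csub P ∨ H = Y := by
    intro H hHK hCH hHY
    by_cases hHC : H = Csub P
    · exact Or.inl hHC
    · right
      have hne : ∃ y ∈ H, y ∉ Csub P := by
        by_contra hcon
        simp only [not_exists, not_and, not_not] at hcon
        exact hHC (le_antisymm (fun y hy => hcon y hy) hCH)
      have h1 : ¬ (Nat.card H < Nat.card Y) := hYmin H ⟨hHK, hCH, hne⟩
      exact Subgroup.eq_of_le_of_card_ge hHY (not_lt.mp h1)
  obtain ⟨hI, hidx⟩ := h.field_out hVab Y hYK hCY hYne hYmin'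
  by_cases hYtop : Y = ⊤
  · apply h.caseTop hVab
    intro g hg v hv hvg
    exact hI g (hYtop ▸ Subgroup.mem_top g) hg v hv hvg
  · obtain ⟨y₀, hy₀Y, hy₀C⟩ := hYne
    have hnaY : ∃ x ∈ Y, ∃ y ∈ Y, x * y ≠ y * x := by
      have : ∃ v ∈ Vsub P, v * y₀ ≠ y₀ * v := by
        by_contra hcon
        simp only [not_exists, not_and, not_not] at hcon
        exact hy₀C ((mem_Csub y₀).2 hcon)
      obtain ⟨v, hv, hvy⟩ := this
      exact ⟨v, hCY (hVC hv), y₀, hy₀Y, hvy⟩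
    have hSDY := h.res Y hYK (center_le_Vsub.trans (hVC.trans hCY)) hnaY
    have hlt : Nat.card Y < Nat.card P :=
      lt_of_le_of_ne (Subgroup.card_le_card_group Y)
        (fun e => hYtop (Subgroup.eq_top_of_card_eq Y e))
    have hY4 : ∀ y ∈ Y, (y * y) * (y * y) = 1 := by
      intro y hy
      have := IH ↥Y hlt _ hSDY ⟨y, hy⟩
      exact congrArg Subtype.val this
    exact h.caseProper hVab Y hYK hCY ⟨y₀, hy₀Y, hy₀C⟩ hI hidx hY4

end End

/-- Higman: the fourth power of every element is trivial. -/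
theorem exp4_aux : ∀ n : ℕ, ∀ (P : Type u) [Group P], Nat.card P = n →
    ∀ K : Subgroup (MulAut P), SD P K → ∀ x : P, (x * x) * (x * x) = 1 := by
  intro n
  induction n using Nat.strong_induction_on with
  | _ n ih =>
    intro P _ hn K h x
    by_cases hVna : ∃ v ∈ Vsub P, ∃ w ∈ Vsub P, v * w ≠ w * v
    · exact h.exp4_of_V_nonabelian hVna x
    · exfalso
      have hVab : ∀ v ∈ Vsub P, ∀ w ∈ Vsub P, v * w = w * v := by
        intro v hv w hw
        by_contra hvw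
        exact hVna ⟨v, hv, w, hw, hvw⟩
      exact h.endgame hVab (fun Q _ hQ K' h' y => ih (Nat.card Q) (hn ▸ hQ) Q rfl K' h' y)

theorem SD.exp4 {K : Subgroup (MulAut P)} (h : SD P K) (x : P) : (x * x) * (x * x) = 1 :=
  exp4_aux _ P rfl K h x

theorem SD.sq_central {K : Subgroup (MulAut P)} (h : SD P K) (x : P) :
    x * x ∈ Subgroup.center P := h.hci _ (h.exp4 x)

theorem SD.cm_central {K : Subgroup (MulAut P)} (h : SD P K) (x y : P) :
    cm x y ∈ Subgroup.center P := cm_mem_of_sq_mem _ h.sq_central x y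

/-- The hypotheses of a Suzuki 2-group give the working data. -/
theorem suzuki_SD (hP : Cfsg.IsSuzukiTwoGroup P) : ∃ K : Subgroup (MulAut P), SD P K := by
  obtain ⟨hfin, h2, hna, htwo, K, hKcyc, hK⟩ := hP
  refine ⟨K, hfin, h2, ?_, ?_, ?_, htwo, hna⟩
  · intro a ha b hb
    haveI := hKcyc
    obtain ⟨g, hg⟩ := IsCyclic.exists_generator (α := K)
    obtain ⟨i, hi⟩ := Subgroup.mem_zpowers_iff.mp (hg ⟨a, ha⟩)
    obtain ⟨j, hj⟩ := Subgroup.mem_zpowers_iff.mp (hg ⟨b, hb⟩)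
    have h1 : (⟨a, ha⟩ : K) * ⟨b, hb⟩ = ⟨b, hb⟩ * ⟨a, ha⟩ := by
      rw [← hi, ← hj]; exact (Commute.zpow_zpow_self g i j)
    exact congrArg Subtype.val h1
  · intro x y hx1 hx2 hy1 hy2
    obtain ⟨k, hk, _⟩ := hK x y hx1 hx2 hy1 hy2
    exact ⟨k, k.2, hk⟩
  · intro k hk x hx1 hx2 hkx
    obtain ⟨l, hl, huniq⟩ := hK x x hx1 hx2 hx1 hx2
    have h1 := huniq ⟨k, hk⟩ hkx
    have h2' := huniq 1 rfl
    have := h1.trans h2'.symm
    exact congrArg Subtype.val this

end Cfsg.Agent.Lib.Helper45.Hig
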