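import Mathlib
import Cfsg.Agent.Lib.Helper45.HigMain
import Cfsg.Agent.Lib.Helper45.HigCW

set_option autoImplicit false

namespace Cfsg.Agent.Lib.Helper45.Hig

open Cfsg.Agent.Lib.Helper21.Suz2

universe u

/-- Coordinates on a finite elementary abelian 2-group. -/
theorem exists_coords_comm (G : Type u) [CommGroup G] [Finite G] (h2 : ∀ x : G, x * x = 1) :
    ∃ (d : ℕ) (e : G → (Fin d → ZMod 2)), Function.Bijective e ∧
      ∀ x y, e (x * y) = e x + e y := by
  have h2' : ∀ x : Additive G, 2 • x = 0 := by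
    intro x
    rw [two_nsmul]
    exact h2 (Additive.toMul x)
  letI : Module (ZMod 2) (Additive G) := AddCommGroup.zmodModule h2'
  haveI : Finite (Additive G) := inferInstanceAs (Finite G)
  let b := Module.finBasis (ZMod 2) (Additive G)
  refine ⟨Module.finrank (ZMod 2) (Additive G), fun x => b.equivFun (Additive.ofMul x), ?_, ?_⟩
  · exact b.equivFun.bijective.comp Additive.ofMul.bijective
  · intro x y
    show b.equivFun (Additive.ofMul (x * y)) = _
    rw [ofMul_mul, map_add]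

theorem exists_coords (G : Type u) [inst : Group G] [Finite G] (h2 : ∀ x : G, x * x = 1) :
    ∃ (d : ℕ) (e : G → (Fin d → ZMod 2)), Function.Bijective e ∧
      ∀ x y, e (x * y) = e x + e y := by
  have hcomm : ∀ a b : G, a * b = b * a := by
    intro a b
    calc a * b = a * ((a * b) * (a * b)) * b := by rw [h2 (a * b), mul_one]
      _ = (a * a) * (b * a) * (b * b) := by group
      _ = b * a := by rw [h2 a, h2 b, one_mul, mul_one]
  exact @exists_coords_comm G { inst with mul_comm := hcomm } _ h2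

theorem card_ne_one_add (G : Type*) [Group G] [Finite G] :
    Nat.card {x : G // x ≠ 1} + 1 = Nat.card G := by
  classical
  have h1 := Nat.card_congr (Equiv.sumCompl (fun x : G => x = 1))
  rw [Nat.card_sum] at h1
  have h2 : Nat.card {x : G // x = 1} = 1 :=
    Nat.card_eq_one_iff_unique.mpr ⟨⟨fun a b => Subtype.ext (a.2.trans b.2.symm)⟩, ⟨⟨1, rfl⟩⟩⟩
  rw [h2] at h1
  rw [← h1, add_comm]

theorem card_fun_zmod2 (d : ℕ) : Nat.card (Fin d → ZMod 2) = 2 ^ d := by
  rw [Nat.card_eq_fintype_card, Fintype.card_fun, ZMod.card, Fintype.card_fin]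

section Order

variable {P : Type u} [Group P] {K : Subgroup (MulAut P)} (h : SD P K)
include h

theorem SD.sq_coset (p p' : P) (hpp : p⁻¹ * p' ∈ Subgroup.center P) : p' * p' = p * p := by
  obtain ⟨z, hz⟩ : ∃ z, p⁻¹ * p' = z := ⟨_, rfl⟩
  rw [hz] at hpp
  have e : p' = p * z := by rw [← hz]; group
  have hzc := Subgroup.mem_center_iff.mp hpp
  rw [e]
  calc p * z * (p * z) = p * (z * p) * z := by group
    _ = p * (p * z) * z := by rw [← hzc p]
    _ = (p * p) * (z * z) := by group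
    _ = p * p := by rw [h.hce z hpp, mul_one]

theorem SD.card_K_add_one : Nat.card ↥K + 1 = Nat.card (Subgroup.center P) := by
  haveI := h.fin
  obtain ⟨x₀, -, -, hx1, hx2, -, -⟩ := h.htwo
  rw [← card_ne_one_add (↥(Subgroup.center P))]
  congr 1
  apply Nat.card_congr
  have hne : ∀ k : ↥K, (⟨k.1 x₀, aut_center k.1 (h.hci x₀ hx2)⟩ : ↥(Subgroup.center P)) ≠ 1 := by
    intro k e
    apply hx1
    have e' : k.1 x₀ = 1 := congrArg Subtype.val e
    exact (map_eq_one_iff k.1 k.1.injective).mp e'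
  refine Equiv.ofBijective (fun k : ↥K =>
    (⟨⟨k.1 x₀, aut_center k.1 (h.hci x₀ hx2)⟩, hne k⟩ : {z : ↥(Subgroup.center P) // z ≠ 1}))
    ⟨?_, ?_⟩
  · intro k k' hkk
    have e : k.1 x₀ = k'.1 x₀ :=
      congrArg (fun z : {z : ↥(Subgroup.center P) // z ≠ 1} => (z.1 : P)) hkk
    have h1 : (k.1⁻¹ * k'.1) x₀ = x₀ := by
      show k.1⁻¹ (k'.1 x₀) = x₀
      rw [← e, MulAut.inv_apply_self]
    have h2 := h.hfree _ (K.mul_mem (K.inv_mem k.2) k'.2) x₀ hx1 hx2 h1
    exact Subtype.ext (inv_mul_eq_one.mp h2)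
  · rintro ⟨⟨z, hz⟩, hz1⟩
    have hz1' : z ≠ 1 := fun e => hz1 (Subtype.ext e)
    obtain ⟨k, hk, hkz⟩ := h.hex x₀ z hx1 hx2 hz1' (h.hce z hz)
    exact ⟨⟨k, hk⟩, Subtype.ext (Subtype.ext hkz)⟩

theorem SD.card_K_dvd : Nat.card ↥K ∣ Nat.card {x : P // x ≠ 1} := by
  letI : MulAction ↥K {x : P // x ≠ 1} :=
    { smul := fun k x => ⟨k.1 x.1, fun e => x.2 ((map_eq_one_iff k.1 k.1.injective).mp e)⟩
      one_smul := fun x => Subtype.ext rfl
      mul_smul := fun k k' x => Subtype.ext rfl }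
  apply card_dvd_of_free
  intro k x hkx
  have h1 : k.1 x.1 = x.1 := congrArg Subtype.val hkx
  exact Subtype.ext (h.hfree' k.1 k.2 x.1 x.2 h1)

theorem SD.card_cases : Nat.card P = Nat.card (Subgroup.center P) ^ 2 ∨
    Nat.card P = Nat.card (Subgroup.center P) ^ 3 := by
  classical
  haveI := h.fin
  obtain ⟨n, eZ, heZbij, heZmul⟩ := exists_coords ↥(Subgroup.center P)
    (fun z => Subtype.ext (h.hce z z.2))
  obtain ⟨a, eU, heUbij, heUmul⟩ := exists_coords (P ⧸ Subgroup.center P) (by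
    intro q
    induction q using QuotientGroup.induction_on with
    | H x =>
      rw [← QuotientGroup.mk_mul]
      exact (QuotientGroup.eq_one_iff _).mpr (h.sq_central x))
  have hcardZ : Nat.card (Subgroup.center P) = 2 ^ n := by
    rw [Nat.card_congr (Equiv.ofBijective eZ heZbij), card_fun_zmod2]
  have hcardQ : Nat.card (P ⧸ Subgroup.center P) = 2 ^ a := by
    rw [Nat.card_congr (Equiv.ofBijective eU heUbij), card_fun_zmod2]
  have hcardP : Nat.card P = 2 ^ a * 2 ^ n := by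
    rw [Subgroup.card_eq_card_quotient_mul_card_subgroup (Subgroup.center P), hcardQ, hcardZ]
  have heZ1 : eZ 1 = 0 := by
    have := heZmul 1 1
    rw [mul_one] at this
    exact add_eq_left.mp this.symm
  have heU1 : eU 1 = 0 := by
    have := heUmul 1 1
    rw [mul_one] at this
    exact add_eq_left.mp this.symm
  have hmk : ∀ p p' : P, eU (QuotientGroup.mk (p * p')) =
      eU (QuotientGroup.mk p) + eU (QuotientGroup.mk p') := by
    intro p p'
    rw [QuotientGroup.mk_mul, heUmul]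
  obtain ⟨g, hg⟩ : ∃ g : (Fin a → ZMod 2) → P, ∀ x, eU (QuotientGroup.mk (g x)) = x := by
    have : ∀ x, ∃ p : P, eU (QuotientGroup.mk p) = x := by
      intro x
      obtain ⟨q, hq⟩ := heUbij.2 x
      induction q using QuotientGroup.induction_on with
      | H p => exact ⟨p, hq⟩
    exact ⟨fun x => (this x).choose, fun x => (this x).choose_spec⟩
  have hrep : ∀ (p : P) (x : Fin a → ZMod 2), eU (QuotientGroup.mk p) = x →
      g x * g x = p * p := by
    intro p x hp
    have h1 : (QuotientGroup.mk (g x) : P ⧸ Subgroup.center P) = QuotientGroup.mk p :=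
      heUbij.1 ((hg x).trans hp.symm)
    exact h.sq_coset p (g x) (QuotientGroup.eq.mp h1.symm)
  obtain ⟨sqZ, hsqZ⟩ : ∃ sqZ : P → ↥(Subgroup.center P), ∀ p, (sqZ p : P) = p * p :=
    ⟨fun p => ⟨p * p, h.sq_central p⟩, fun p => rfl⟩
  obtain ⟨cmZ, hcmZ⟩ : ∃ cmZ : P → P → ↥(Subgroup.center P), ∀ x y, (cmZ x y : P) = cm x y :=
    ⟨fun x y => ⟨cm x y, h.cm_central x y⟩, fun x y => rfl⟩
  have hs1 : ∀ p t : P, sqZ (p * t) = sqZ p * sqZ t * cmZ t p := by
    intro p t
    apply Subtype.ext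
    rw [Subgroup.coe_mul, Subgroup.coe_mul, hsqZ, hsqZ, hsqZ, hcmZ]
    exact sq_mul p t (h.cm_central t p)
  have hs2 : ∀ t p r : P, cmZ t (p * r) = cmZ t p * cmZ t r := by
    intro t p r
    apply Subtype.ext
    rw [Subgroup.coe_mul, hcmZ, hcmZ, hcmZ]
    exact cm_mul_right t p r (h.cm_central t p)
  have hrep' : ∀ (p : P) (x : Fin a → ZMod 2), eU (QuotientGroup.mk p) = x →
      sqZ (g x) = sqZ p := by
    intro p x hp
    apply Subtype.ext
    rw [hsqZ, hsqZ]
    exact hrep p x hp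
  have hcw : a ≤ 2 * n := by
    refine cw_quadratic (fun (l : Fin n) (x : Fin a → ZMod 2) => eZ (sqZ (g x)) l) ?_ ?_ ?_
    · intro l
      refine (deg_succ 1 _).2 fun h₁ => (deg_succ 0 _).2 fun h₂ => (deg_zero _).2
        ⟨eZ (cmZ (g h₁) (g h₂)) l, fun x => ?_⟩
      show eZ (sqZ (g (x + h₂ + h₁))) l + eZ (sqZ (g (x + h₂))) l +
        (eZ (sqZ (g (x + h₁))) l + eZ (sqZ (g x)) l) = _
      have e1 : sqZ (g (x + h₂ + h₁)) = sqZ (g x * g h₂ * g h₁) :=
        hrep' _ _ (by rw [hmk, hmk, hg, hg, hg])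
      have e2 : sqZ (g (x + h₂)) = sqZ (g x * g h₂) := hrep' _ _ (by rw [hmk, hg, hg])
      have e3 : sqZ (g (x + h₁)) = sqZ (g x * g h₁) := hrep' _ _ (by rw [hmk, hg, hg])
      rw [e1, e2, e3, hs1 (g x * g h₂) (g h₁), hs2, hs1 (g x) (g h₁)]
      simp only [heZmul, Pi.add_apply]
      linear_combination zmod2_add_self (eZ (sqZ (g x * g h₂)) l) +
        zmod2_add_self (eZ (sqZ (g h₁)) l) + zmod2_add_self (eZ (cmZ (g h₁) (g x)) l) +
        zmod2_add_self (eZ (sqZ (g x)) l)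
    · intro l
      show eZ (sqZ (g 0)) l = 0
      have h1 : sqZ (g 0) = sqZ 1 := hrep' 1 0 (by rw [QuotientGroup.mk_one, heU1])
      have h2 : sqZ (1 : P) = 1 := Subtype.ext (by rw [hsqZ, mul_one]; rfl)
      rw [h1, h2, heZ1]; rfl
    · intro x hx
      have h1 : eZ (sqZ (g x)) = 0 := funext hx
      have h2 : sqZ (g x) = 1 := heZbij.1 (h1.trans heZ1.symm)
      have h3 : g x ∈ Subgroup.center P := h.hci _ (by rw [← hsqZ, h2]; rfl)
      have h4 : (QuotientGroup.mk (g x) : P ⧸ Subgroup.center P) = 1 :=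
        (QuotientGroup.eq_one_iff _).mpr h3
      rw [← hg x, h4, heU1]
  -- arithmetic
  have hn1 : 1 ≤ n := by
    by_contra hn0
    have hn0' : n = 0 := by omega
    rw [hn0', pow_zero] at hcardZ
    obtain ⟨x₀, -, -, hx1, hx2, -, -⟩ := h.htwo
    have hsub := (Nat.card_eq_one_iff_unique.mp hcardZ).1
    have := hsub.elim (⟨x₀, h.hci x₀ hx2⟩ : ↥(Subgroup.center P)) 1
    exact hx1 (congrArg Subtype.val this)
  have ha1 : 1 ≤ a := by
    by_contra ha0
    have ha0' : a = 0 := by omega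
    rw [ha0', pow_zero] at hcardQ
    obtain ⟨x, y, hxy⟩ := h.hna
    have hsub := (Nat.card_eq_one_iff_unique.mp hcardQ).1
    have := hsub.elim (QuotientGroup.mk x : P ⧸ Subgroup.center P) 1
    have hx : x ∈ Subgroup.center P := (QuotientGroup.eq_one_iff _).mp this
    exact hxy (Subgroup.mem_center_iff.mp hx y).symm
  have hK1 := h.card_K_add_one
  have hK2 := h.card_K_dvd
  have hP1 := card_ne_one_add P
  rw [hcardZ] at hK1
  rw [hcardP, ← pow_add] at hP1
  have hd : 2 ^ n - 1 ∣ 2 ^ (a + n) - 1 := by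
    have e1 : Nat.card ↥K = 2 ^ n - 1 := by omega
    have e2 : Nat.card {x : P // x ≠ 1} = 2 ^ (a + n) - 1 := by omega
    rw [← e1, ← e2]; exact hK2
  have hgcd := Nat.pow_sub_one_gcd_pow_sub_one 2 n (a + n)
  rw [Nat.gcd_eq_left hd] at hgcd
  have hpow : 2 ^ n = 2 ^ Nat.gcd n (a + n) := by
    have p1 : 1 ≤ 2 ^ n := Nat.one_le_two_pow
    have p2 : 1 ≤ 2 ^ Nat.gcd n (a + n) := Nat.one_le_two_pow
    omega
  have hneq : n = Nat.gcd n (a + n) := Nat.pow_right_injective (le_refl 2) hpow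
  have hdvd : n ∣ a := by
    have h1 : Nat.gcd n (a + n) ∣ a + n := Nat.gcd_dvd_right _ _
    rw [← hneq] at h1
    exact (Nat.dvd_add_left (dvd_refl n)).mp h1
  obtain ⟨j, hj⟩ := hdvd
  have hj1 : 1 ≤ j := by
    rcases Nat.eq_zero_or_pos j with hj0 | hj0
    · rw [hj0, mul_zero] at hj; omega
    · exact hj0
  have hj2 : j ≤ 2 := by
    by_contra hcon
    have : 3 ≤ j := by omega
    have : n * 3 ≤ n * j := Nat.mul_le_mul_left n this
    omega
  rw [hcardP, hcardZ, hj]
  rcases (by omega : j = 1 ∨ j = 2) with rfl | rfl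
  · left; ring
  · right; ring

end Order

end Cfsg.Agent.Lib.Helper45.Hig
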