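import Mathlib
import Cfsg.Agent.Lib.Helper45.HigOrder

set_option autoImplicit false

namespace Cfsg.Agent.Lib.Helper45.Hig

open Cfsg.Agent.Lib.Helper21.Suz2

universe u

/-- Chevalley–Warning bound: a finite group with a central elementary abelian subgroup `Z`
containing all squares, all commutators and all involutions satisfies `|P/Z| ≤ |Z|²`. -/
theorem quad_bound {P : Type u} [Group P] [Finite P] (Z : Subgroup P)
    (hZc : ∀ z ∈ Z, z ∈ Subgroup.center P) (hZ2 : ∀ z ∈ Z, z * z = 1)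
    (hsq : ∀ x : P, x * x ∈ Z) (hcm : ∀ x y : P, cm x y ∈ Z)
    (hinv : ∀ x : P, x * x = 1 → x ∈ Z) :
    ∃ a n : ℕ, Nat.card Z = 2 ^ n ∧ Nat.card P = 2 ^ a * 2 ^ n ∧ a ≤ 2 * n := by
  classical
  haveI : Z.Normal := ⟨fun z hz g => by
    have h1 := Subgroup.mem_center_iff.mp (hZc z hz) g
    rw [h1, mul_inv_cancel_right]
    exact hz⟩
  obtain ⟨n, eZ, heZbij, heZmul⟩ := exists_coords ↥Z (fun z => Subtype.ext (hZ2 z z.2))
  obtain ⟨a, eU, heUbij, heUmul⟩ := exists_coords (P ⧸ Z) (by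
    intro q
    induction q using QuotientGroup.induction_on with
    | H x =>
      rw [← QuotientGroup.mk_mul]
      exact (QuotientGroup.eq_one_iff _).mpr (hsq x))
  have hcardZ : Nat.card Z = 2 ^ n := by
    rw [Nat.card_congr (Equiv.ofBijective eZ heZbij), card_fun_zmod2]
  have hcardQ : Nat.card (P ⧸ Z) = 2 ^ a := by
    rw [Nat.card_congr (Equiv.ofBijective eU heUbij), card_fun_zmod2]
  have hcardP : Nat.card P = 2 ^ a * 2 ^ n := by
    rw [Subgroup.card_eq_card_quotient_mul_card_subgroup Z, hcardQ, hcardZ]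
  refine ⟨a, n, hcardZ, hcardP, ?_⟩
  have heZ1 : eZ 1 = 0 := by
    have := heZmul 1 1
    rw [mul_one] at this
    exact add_eq_left.mp this.symm
  have heU1 : eU 1 = 0 := by
    have := heUmul 1 1
    rw [mul_one] at this
    exact add_eq_left.mp this.symm
  have hmk : ∀ p p' : P, eU (QuotientGroup.mk (p * p')) =
      eU (QuotientGroup.mk p) + eU (QuotientGroup.mk p') := by
    intro p p'
    rw [QuotientGroup.mk_mul, heUmul]
  obtain ⟨g, hg⟩ : ∃ g : (Fin a → ZMod 2) → P, ∀ x, eU (QuotientGroup.mk (g x)) = x := by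
    have : ∀ x, ∃ p : P, eU (QuotientGroup.mk p) = x := by
      intro x
      obtain ⟨q, hq⟩ := heUbij.2 x
      induction q using QuotientGroup.induction_on with
      | H p => exact ⟨p, hq⟩
    exact ⟨fun x => (this x).choose, fun x => (this x).choose_spec⟩
  have hcoset : ∀ p p' : P, p⁻¹ * p' ∈ Z → p' * p' = p * p := by
    intro p p' hpp
    obtain ⟨z, hz⟩ : ∃ z, p⁻¹ * p' = z := ⟨_, rfl⟩
    rw [hz] at hpp
    have e : p' = p * z := by rw [← hz]; group
    have hzc := Subgroup.mem_center_iff.mp (hZc z hpp)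
    rw [e]
    calc p * z * (p * z) = p * (z * p) * z := by group
      _ = p * (p * z) * z := by rw [← hzc p]
      _ = (p * p) * (z * z) := by group
      _ = p * p := by rw [hZ2 z hpp, mul_one]
  have hrep : ∀ (p : P) (x : Fin a → ZMod 2), eU (QuotientGroup.mk p) = x →
      g x * g x = p * p := by
    intro p x hp
    have h1 : (QuotientGroup.mk (g x) : P ⧸ Z) = QuotientGroup.mk p :=
      heUbij.1 ((hg x).trans hp.symm)
    exact hcoset p (g x) (QuotientGroup.eq.mp h1.symm)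
  obtain ⟨sqZ, hsqZ⟩ : ∃ sqZ : P → ↥Z, ∀ p, (sqZ p : P) = p * p :=
    ⟨fun p => ⟨p * p, hsq p⟩, fun p => rfl⟩
  obtain ⟨cmZ, hcmZ⟩ : ∃ cmZ : P → P → ↥Z, ∀ x y, (cmZ x y : P) = cm x y :=
    ⟨fun x y => ⟨cm x y, hcm x y⟩, fun x y => rfl⟩
  have hs1 : ∀ p t : P, sqZ (p * t) = sqZ p * sqZ t * cmZ t p := by
    intro p t
    apply Subtype.ext
    rw [Subgroup.coe_mul, Subgroup.coe_mul, hsqZ, hsqZ, hsqZ, hcmZ]
    exact sq_mul p t (hZc _ (hcm t p))
  have hs2 : ∀ t p r : P, cmZ t (p * r) = cmZ t p * cmZ t r := by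
    intro t p r
    apply Subtype.ext
    rw [Subgroup.coe_mul, hcmZ, hcmZ, hcmZ]
    exact cm_mul_right t p r (hZc _ (hcm t p))
  have hrep' : ∀ (p : P) (x : Fin a → ZMod 2), eU (QuotientGroup.mk p) = x →
      sqZ (g x) = sqZ p := by
    intro p x hp
    apply Subtype.ext
    rw [hsqZ, hsqZ]
    exact hrep p x hp
  refine cw_quadratic (fun (l : Fin n) (x : Fin a → ZMod 2) => eZ (sqZ (g x)) l) ?_ ?_ ?_
  · intro l
    refine (deg_succ 1 _).2 fun h₁ => (deg_succ 0 _).2 fun h₂ => (deg_zero _).2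
      ⟨eZ (cmZ (g h₁) (g h₂)) l, fun x => ?_⟩
    show eZ (sqZ (g (x + h₂ + h₁))) l + eZ (sqZ (g (x + h₂))) l +
      (eZ (sqZ (g (x + h₁))) l + eZ (sqZ (g x)) l) = _
    have e1 : sqZ (g (x + h₂ + h₁)) = sqZ (g x * g h₂ * g h₁) :=
      hrep' _ _ (by rw [hmk, hmk, hg, hg, hg])
    have e2 : sqZ (g (x + h₂)) = sqZ (g x * g h₂) := hrep' _ _ (by rw [hmk, hg, hg])
    have e3 : sqZ (g (x + h₁)) = sqZ (g x * g h₁) := hrep' _ _ (by rw [hmk, hg, hg])
    rw [e1, e2, e3, hs1 (g x * g h₂) (g h₁), hs2, hs1 (g x) (g h₁)]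
    simp only [heZmul, Pi.add_apply]
    linear_combination zmod2_add_self (eZ (sqZ (g x * g h₂)) l) +
      zmod2_add_self (eZ (sqZ (g h₁)) l) + zmod2_add_self (eZ (cmZ (g h₁) (g x)) l) +
      zmod2_add_self (eZ (sqZ (g x)) l)
  · intro l
    show eZ (sqZ (g 0)) l = 0
    have h1 : sqZ (g 0) = sqZ 1 := hrep' 1 0 (by rw [QuotientGroup.mk_one, heU1])
    have h2 : sqZ (1 : P) = 1 := Subtype.ext (by rw [hsqZ, mul_one]; rfl)
    rw [h1, h2, heZ1]; rfl
  · intro x hx
    have h1 : eZ (sqZ (g x)) = 0 := funext hx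
    have h2 : sqZ (g x) = 1 := heZbij.1 (h1.trans heZ1.symm)
    have h3 : g x ∈ Z := hinv _ (by rw [← hsqZ, h2]; rfl)
    have h4 : (QuotientGroup.mk (g x) : P ⧸ Z) = 1 :=
      (QuotientGroup.eq_one_iff _).mpr h3
    rw [← hg x, h4, heU1]

/-- A finite group of order `2^d`, `d ≤ 5`, has no automorphism of order nine. -/
theorem aut_nine {M : Type*} [Group M] [Finite M] {d : ℕ} (hM : Nat.card M = 2 ^ d)
    (hd : d ≤ 5) (g : MulAut M) (hg : g ^ 9 = 1) : g ^ 3 = 1 := by
  classical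
  by_contra hg3
  let F : Subgroup M :=
    { carrier := {a | (g ^ 3) a = a}
      one_mem' := map_one _
      mul_mem' := by
        intro a b ha hb
        show (g ^ 3) (a * b) = a * b
        rw [map_mul, ha, hb]
      inv_mem' := by
        intro a ha
        show (g ^ 3) a⁻¹ = a⁻¹
        rw [map_inv, ha] }
  have hFmem : ∀ a : M, a ∈ F ↔ (g ^ 3) a = a := fun a => Iff.rfl
  obtain ⟨c, hcd, hc⟩ := (Nat.dvd_prime_pow Nat.prime_two).mp (hM ▸ Subgroup.card_subgroup_dvd_card F)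
  -- the complement
  have hsum : Nat.card F + Nat.card {y : M // ¬ (g ^ 3) y = y} = Nat.card M := by
    have h1 := Nat.card_congr (Equiv.sumCompl (fun a : M => (g ^ 3) a = a))
    rw [Nat.card_sum] at h1
    exact h1
  have hord : orderOf g = 9 := by
    have h1 : orderOf g ∣ 3 ^ 2 := orderOf_dvd_of_pow_eq_one hg
    obtain ⟨e, he, hoe⟩ := (Nat.dvd_prime_pow Nat.prime_three).mp h1
    interval_cases e
    · exfalso; apply hg3
      have : g = 1 := orderOf_eq_one_iff.mp (by rw [hoe]; norm_num)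
      rw [this, one_pow]
    · exfalso; apply hg3
      have := pow_orderOf_eq_one g
      rw [hoe] at this
      simpa using this
    · rw [hoe]; norm_num
  have hcomm : ∀ k ∈ Subgroup.zpowers g, ∀ y : M, (g ^ 3) (k y) = k ((g ^ 3) y) := by
    intro k hk y
    obtain ⟨i, rfl⟩ := Subgroup.mem_zpowers_iff.mp hk
    have h1 : Commute (g ^ 3) (g ^ i) := ((Commute.refl g).pow_left 3).zpow_right i
    have h2 := DFunLike.congr_fun h1.eq y
    exact h2
  letI : MulAction ↥(Subgroup.zpowers g) {y : M // ¬ (g ^ 3) y = y} :=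
    { smul := fun k y => ⟨k.1 y.1, fun e => y.2 (by
        rw [hcomm k.1 k.2] at e
        exact k.1.injective e)⟩
      one_smul := fun y => Subtype.ext rfl
      mul_smul := fun k k' y => Subtype.ext rfl }
  have hfix : ∀ (f : MulAut M) (y : M), f y = y → ∀ t : ℕ, (f ^ t) y = y := by
    intro f y hf t
    induction t with
    | zero => rfl
    | succ t ih =>
      rw [pow_succ]
      show (f ^ t) (f y) = y
      rw [hf, ih]
  have hfree : ∀ (k : ↥(Subgroup.zpowers g)) (y : {y : M // ¬ (g ^ 3) y = y}),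
      k • y = y → k = 1 := by
    intro k y hky
    have hky' : k.1 y.1 = y.1 := congrArg Subtype.val hky
    obtain ⟨i, hi⟩ := Subgroup.mem_zpowers_iff.mp k.2
    have h9 : g ^ (9 : ℤ) = 1 := by
      have : g ^ ((9 : ℕ) : ℤ) = 1 := by rw [zpow_natCast]; exact hg
      exact this
    have h1 : g ^ i = g ^ (i % 9) := zpow_eq_zpow_emod i h9
    obtain ⟨j, hj⟩ : ∃ j : ℕ, (j : ℤ) = i % 9 := ⟨(i % 9).toNat, Int.toNat_of_nonneg (Int.emod_nonneg _ (by norm_num))⟩
    have hj9 : j < 9 := by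
      have := Int.emod_lt_of_pos i (by norm_num : (0 : ℤ) < 9)
      omega
    rw [← hj, zpow_natCast] at h1
    have hk : k.1 = g ^ j := by rw [← hi, h1]
    rw [hk] at hky'
    apply Subtype.ext
    show k.1 = 1
    rw [hk]
    have key : ∀ t s : ℕ, j * t = 3 + 9 * s → False := by
      intro t s hts
      apply y.2
      have h2 := hfix (g ^ j) y.1 hky' t
      rw [← pow_mul, hts, pow_add, pow_mul, hg, one_pow, mul_one] at h2
      exact h2
    interval_cases j
    · rw [pow_zero]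
    · exact (key 3 0 (by norm_num)).elim
    · exact (key 6 1 (by norm_num)).elim
    · exact (key 1 0 (by norm_num)).elim
    · exact (key 3 1 (by norm_num)).elim
    · exact (key 6 3 (by norm_num)).elim
    · exact (key 2 1 (by norm_num)).elim
    · exact (key 3 2 (by norm_num)).elim
    · exact (key 6 5 (by norm_num)).elim
  have hdvd := card_dvd_of_free hfree
  rw [Nat.card_zpowers, hord] at hdvd
  rw [hM, hc] at hsum
  have hY : Nat.card {y : M // ¬ (g ^ 3) y = y} = 2 ^ d - 2 ^ c := by omega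
  rw [hY] at hdvd
  rcases Nat.lt_or_ge c d with hlt | hge
  · interval_cases d <;> interval_cases c <;> omega
  · have hcd' : c = d := le_antisymm hcd hge
    apply hg3
    have hFtop : F = ⊤ := Subgroup.eq_top_of_card_eq F (by rw [hc, hcd', hM])
    apply MulEquiv.ext
    intro a
    have : a ∈ F := by rw [hFtop]; exact Subgroup.mem_top a
    exact (hFmem a).mp this

theorem aut_cube_eq_one {M : Type*} [Group M] [Finite M] {d : ℕ} (hM : Nat.card M = 2 ^ d)
    (hd : d ≤ 5) : ∀ (m : ℕ) (ψ : MulAut M), ψ ^ (3 ^ m) = 1 → ψ ^ 3 = 1 := by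
  intro m
  induction m using Nat.strong_induction_on with
  | _ m ih =>
    intro ψ hψ
    rcases Nat.lt_or_ge m 2 with hm | hm
    · interval_cases m
      · rw [pow_zero, pow_one] at hψ
        rw [hψ, one_pow]
      · rw [pow_one] at hψ
        exact hψ
    · obtain ⟨m', rfl⟩ : ∃ m', m = m' + 2 := ⟨m - 2, by omega⟩
      have h9 : (ψ ^ (3 ^ m')) ^ 9 = 1 := by
        rw [← pow_mul]
        have : 3 ^ m' * 9 = 3 ^ (m' + 2) := by ring
        rw [this]; exact hψ
      have h3 := aut_nine hM hd _ h9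
      rw [← pow_mul] at h3
      have : 3 ^ m' * 3 = 3 ^ (m' + 1) := by ring
      rw [this] at h3
      exact ih (m' + 1) (by omega) ψ h3

end Cfsg.Agent.Lib.Helper45.Hig
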