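import Mathlib
import Cfsg.Agent.Lib.Helper45.HigQuad

set_option autoImplicit false

namespace Cfsg.Agent.Lib.Helper45.Hig

open Cfsg.Agent.Lib.Helper21.Suz2

universe u

/-- Four distinct elements of a type with four elements exhaust it. -/
theorem four_exhaust {α : Type*} (hα : Nat.card α = 4) (a b c d : α) (hab : a ≠ b) (hac : a ≠ c)
    (had : a ≠ d) (hbc : b ≠ c) (hbd : b ≠ d) (hcd : c ≠ d) (e : α) :
    e = a ∨ e = b ∨ e = c ∨ e = d := by
  classical
  haveI : Finite α := Nat.finite_of_card_ne_zero (by omega)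
  letI := Fintype.ofFinite α
  have hs : ({a, b, c, d} : Finset α).card = 4 := by
    rw [Finset.card_insert_of_notMem, Finset.card_insert_of_notMem,
      Finset.card_insert_of_notMem, Finset.card_singleton]
    · simpa using hcd
    · simp [hbc, hbd]
    · simp [hab, hac, had]
  have h1 := Finset.eq_univ_of_card _ (by rw [hs, ← Nat.card_eq_fintype_card, hα])
  have he : e ∈ ({a, b, c, d} : Finset α) := by rw [h1]; exact Finset.mem_univ e
  simpa using he

/-- A finite 2-group with central involutions, exactly three of them, and an automorphism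
permuting them cyclically. -/
structure TD (T : Type u) [Group T] (ψ : MulAut T) : Prop where
  fin : Finite T
  h2 : IsPGroup 2 T
  hci : ∀ x : T, x * x = 1 → x ∈ Subgroup.center T
  hcard : Nat.card {x : T // x * x = 1} = 4
  hmove : ∀ x : T, x ≠ 1 → x * x = 1 → ψ x ≠ x
  hfix3 : ∀ x : T, x * x = 1 → ψ (ψ (ψ x)) = x

theorem pow3_apply {T : Type u} [Group T] (ψ : MulAut T) (x : T) :
    (ψ ^ 3) x = ψ (ψ (ψ x)) := rfl

/-- A nontrivial invariant subgroup contains all involutions. -/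
theorem TD.invol_mem {T : Type u} [Group T] {ψ : MulAut T} (h : TD T ψ) (R : Subgroup T)
    (hR : ∀ x ∈ R, ψ x ∈ R) (hR1 : R ≠ ⊥) (e : T) (he : e * e = 1) : e ∈ R := by
  obtain ⟨⟨r, hr⟩, hr1'⟩ := (Subgroup.ne_bot_iff_exists_ne_one).mp hR1
  have hr1 : r ≠ 1 := fun e => hr1' (Subtype.ext e)
  obtain ⟨i, hi1, hi2⟩ := exists_pow_involution h.h2 hr1
  obtain ⟨x, hx⟩ : ∃ x, r ^ i = x := ⟨_, rfl⟩
  rw [hx] at hi1 hi2
  have hxR : x ∈ R := hx ▸ pow_mem hr i
  have hψ1 : ∀ y : T, y ≠ 1 → ψ y ≠ 1 := fun y hy e => hy ((map_eq_one_iff ψ ψ.injective).mp e)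
  have hψ2 : ∀ y : T, y * y = 1 → ψ y * ψ y = 1 := fun y hy => by rw [← map_mul, hy, map_one]
  have h4 := four_exhaust h.hcard ⟨1, mul_one 1⟩ ⟨x, hi2⟩ ⟨ψ x, hψ2 x hi2⟩
    ⟨ψ (ψ x), hψ2 _ (hψ2 x hi2)⟩
    (fun e => hi1 (congrArg Subtype.val e).symm)
    (fun e => hψ1 x hi1 (congrArg Subtype.val e).symm)
    (fun e => hψ1 _ (hψ1 x hi1) (congrArg Subtype.val e).symm)
    (fun e => h.hmove x hi1 hi2 (congrArg Subtype.val e).symm)
    (fun e => by
      have e' : x = ψ (ψ x) := congrArg Subtype.val e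
      have h3 := h.hfix3 x hi2
      rw [← e'] at h3
      exact h.hmove x hi1 hi2 h3)
    (fun e => h.hmove (ψ x) (hψ1 x hi1) (hψ2 x hi2) (congrArg Subtype.val e).symm)
    ⟨e, he⟩
  rcases h4 with h4 | h4 | h4 | h4
  · have : e = 1 := congrArg Subtype.val h4
    rw [this]; exact one_mem _
  · have : e = x := congrArg Subtype.val h4
    rw [this]; exact hxR
  · have : e = ψ x := congrArg Subtype.val h4
    rw [this]; exact hR x hxR
  · have : e = ψ (ψ x) := congrArg Subtype.val h4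
    rw [this]; exact hR _ (hR x hxR)

theorem aut_pow_mem {T : Type u} [Group T] (ψ : MulAut T) (R : Subgroup T)
    (hR : ∀ x ∈ R, ψ x ∈ R) (j : ℕ) : ∀ x ∈ R, (ψ ^ j) x ∈ R := by
  induction j with
  | zero => intro x hx; rw [pow_zero]; exact hx
  | succ j ih =>
    intro x hx
    rw [pow_succ, MulAut.mul_apply]
    exact ih _ (hR x hx)

theorem aut_inv_mem {T : Type u} [Group T] (ψ : MulAut T) (N : ℕ) (hN : ψ ^ N = 1)
    (hN0 : 0 < N) (R : Subgroup T) (hR : ∀ x ∈ R, ψ x ∈ R) : ∀ x ∈ R, ψ⁻¹ x ∈ R := by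
  have e : ψ⁻¹ = ψ ^ (N - 1) := by
    apply inv_eq_of_mul_eq_one_left
    rw [← pow_succ, Nat.sub_add_cancel hN0, hN]
  rw [e]
  exact aut_pow_mem ψ R hR (N - 1)

theorem resAut_pow {T : Type u} [Group T] (R : Subgroup T) (ψ : MulAut T)
    (hk : ∀ x ∈ R, ψ x ∈ R) (hk' : ∀ x ∈ R, ψ⁻¹ x ∈ R) (j : ℕ) (x : R) :
    (((resAut R ψ hk hk') ^ j) x : T) = (ψ ^ j) (x : T) := by
  induction j generalizing x with
  | zero => rfl
  | succ j ih =>
    rw [pow_succ, pow_succ, MulAut.mul_apply, MulAut.mul_apply, ih]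
    rfl

theorem TD.res {T : Type u} [Group T] {ψ : MulAut T} (h : TD T ψ) (R : Subgroup T)
    (hR : ∀ x ∈ R, ψ x ∈ R) (hR' : ∀ x ∈ R, ψ⁻¹ x ∈ R) (hR1 : R ≠ ⊥) :
    TD R (resAut R ψ hR hR') := by
  haveI := h.fin
  refine ⟨inferInstance, h.h2.to_subgroup R, ?_, ?_, ?_, ?_⟩
  · intro x hx
    rw [Subgroup.mem_center_iff]
    intro g
    apply Subtype.ext
    exact Subgroup.mem_center_iff.mp (h.hci (x : T) (congrArg Subtype.val hx)) (g : T)
  · rw [← h.hcard]
    apply Nat.card_congr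
    exact
      { toFun := fun x => ⟨(x.1 : T), congrArg Subtype.val x.2⟩
        invFun := fun y => ⟨⟨y.1, h.invol_mem R hR hR1 y.1 y.2⟩, Subtype.ext y.2⟩
        left_inv := fun x => rfl
        right_inv := fun y => rfl }
  · intro x hx1 hx2 hfix
    exact h.hmove (x : T) (fun e => hx1 (Subtype.ext e)) (congrArg Subtype.val hx2)
      (congrArg Subtype.val hfix)
  · intro x hx2
    exact Subtype.ext (h.hfix3 (x : T) (congrArg Subtype.val hx2))

/-- An automorphism of 3-power order of a 2-group which fixes all `x⁻¹ γ(x)` is trivial. -/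
theorem unip {T : Type u} [Group T] (h2 : IsPGroup 2 T) (γ : MulAut T) (N : ℕ)
    (hN : γ ^ (3 ^ N) = 1) (hy : ∀ x, γ (x⁻¹ * γ x) = x⁻¹ * γ x) (x : T) : γ x = x := by
  obtain ⟨y, hyd⟩ : ∃ y, x⁻¹ * γ x = y := ⟨_, rfl⟩
  have hγy : γ y = y := by rw [← hyd]; exact hy x
  have hγx : γ x = x * y := by rw [← hyd]; group
  have hpow : ∀ j : ℕ, (γ ^ j) x = x * y ^ j := by
    intro j
    induction j with
    | zero => simp
    | succ j ih =>
      have e1 : (γ ^ (j + 1)) x = γ ((γ ^ j) x) := by rw [pow_succ']; rfl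
      rw [e1, ih, map_mul, map_pow, hγy, hγx, pow_succ' y j, mul_assoc]
  have h1 := hpow (3 ^ N)
  rw [hN, MulAut.one_apply] at h1
  have h3 : y ^ (3 ^ N) = 1 := by
    calc y ^ (3 ^ N) = x⁻¹ * (x * y ^ (3 ^ N)) := by group
      _ = x⁻¹ * x := by rw [← h1]
      _ = 1 := inv_mul_cancel x
  obtain ⟨k, hk⟩ := h2 y
  have h4 : y ^ (Nat.gcd (3 ^ N) (2 ^ k)) = 1 := pow_gcd_eq_one.mpr ⟨h3, hk⟩
  have h5 : Nat.gcd (3 ^ N) (2 ^ k) = 1 := Nat.Coprime.pow N k (by norm_num)
  rw [h5, pow_one] at h4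
  rw [hγx, h4, mul_one]

/-- The subgroup of fixed points. -/
def fixSub {T : Type u} [Group T] (γ : MulAut T) : Subgroup T where
  carrier := {x | γ x = x}
  one_mem' := map_one _
  mul_mem' := by
    intro a b ha hb
    have ha' : γ a = a := ha
    have hb' : γ b = b := hb
    show γ (a * b) = a * b
    rw [map_mul, ha', hb']
  inv_mem' := by
    intro a ha
    have ha' : γ a = a := ha
    show γ a⁻¹ = a⁻¹
    rw [map_inv, ha']

theorem mem_fixSub {T : Type u} [Group T] (γ : MulAut T) (x : T) :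
    x ∈ fixSub γ ↔ γ x = x := Iff.rfl

/-- The elements whose square lies in a central subgroup containing all commutators. -/
def sqSub {T : Type u} [Group T] (C : Subgroup T) (hC : ∀ c ∈ C, c ∈ Subgroup.center T)
    (hcm : ∀ x y : T, cm x y ∈ C) : Subgroup T where
  carrier := {x | x * x ∈ C}
  one_mem' := by
    show (1 : T) * 1 ∈ C
    rw [mul_one]; exact one_mem _
  mul_mem' := by
    intro a b ha hb
    have ha' : a * a ∈ C := ha
    have hb' : b * b ∈ C := hb
    show (a * b) * (a * b) ∈ C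
    rw [sq_mul a b (hC _ (hcm b a))]
    exact mul_mem (mul_mem ha' hb') (hcm b a)
  inv_mem' := by
    intro a ha
    have ha' : a * a ∈ C := ha
    show a⁻¹ * a⁻¹ ∈ C
    rw [← mul_inv_rev]; exact inv_mem ha'

theorem mem_sqSub {T : Type u} [Group T] (C : Subgroup T)
    (hC : ∀ c ∈ C, c ∈ Subgroup.center T) (hcm : ∀ x y : T, cm x y ∈ C) (x : T) :
    x ∈ sqSub C hC hcm ↔ x * x ∈ C := Iff.rfl

theorem TD.cube_aux (m : ℕ) : ∀ (n : ℕ) (T : Type u) [Group T] (ψ : MulAut T),
    Nat.card T = n → TD T ψ → ψ ^ (3 ^ m) = 1 → ∀ x : T, (ψ ^ 3) x = x := by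
  intro n
  induction n using Nat.strong_induction_on with
  | _ n ih =>
    intro T _ ψ hn h hm
    haveI := h.fin
    haveI : Fact (Nat.Prime 2) := ⟨Nat.prime_two⟩
    by_contra hcon
    push Not at hcon
    obtain ⟨x₀, hx₀⟩ := hcon
    have h3pos : 0 < 3 ^ m := by positivity
    have hinv : ∀ R : Subgroup T, (∀ x ∈ R, ψ x ∈ R) → ∀ x ∈ R, ψ⁻¹ x ∈ R :=
      fun R hR => aut_inv_mem ψ (3 ^ m) hm h3pos R hR
    have hγN : (ψ ^ 3) ^ (3 ^ m) = 1 := by rw [← pow_mul, mul_comm, pow_mul, hm, one_pow]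
    have hγψ : ∀ x, (ψ ^ 3) (ψ x) = ψ ((ψ ^ 3) x) := fun x => rfl
    -- proper invariant subgroups are fixed
    have hmax : ∀ R : Subgroup T, (∀ x ∈ R, ψ x ∈ R) → R ≠ ⊤ → ∀ x ∈ R, (ψ ^ 3) x = x := by
      intro R hR hRtop x hx
      by_cases hR1 : R = ⊥
      · rw [hR1, Subgroup.mem_bot] at hx
        rw [hx, map_one]
      have hlt : Nat.card R < n := by
        rw [← hn]
        have hle := Subgroup.card_le_card_group R
        rcases Nat.lt_or_ge (Nat.card R) (Nat.card T) with hlt | hge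
        · exact hlt
        · exact absurd (Subgroup.eq_top_of_card_eq R (le_antisymm hle hge)) hRtop
      have hres := h.res R hR (hinv R hR) hR1
      have hpow : (resAut R ψ hR (hinv R hR)) ^ (3 ^ m) = 1 := by
        apply MulEquiv.ext
        intro y
        apply Subtype.ext
        rw [resAut_pow, hm]
        rfl
      have h1 := ih (Nat.card R) hlt R (resAut R ψ hR (hinv R hR)) rfl hres hpow ⟨x, hx⟩
      have h2 := congrArg Subtype.val h1
      rw [resAut_pow] at h2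
      exact h2
    -- the fixed subgroup
    obtain ⟨C, hCdef⟩ : ∃ C : Subgroup T, fixSub (ψ ^ 3) = C := ⟨_, rfl⟩
    have hCmem : ∀ x, x ∈ C ↔ (ψ ^ 3) x = x := fun x => by rw [← hCdef]; exact Iff.rfl
    have hCψ : ∀ x ∈ C, ψ x ∈ C := by
      intro x hx
      rw [hCmem] at hx ⊢
      rw [hγψ, hx]
    have hmax' : ∀ R : Subgroup T, (∀ x ∈ R, ψ x ∈ R) → (∃ x ∈ R, x ∉ C) → R = ⊤ := by
      rintro R hR ⟨x, hx, hxC⟩
      by_contra hRtop
      exact hxC ((hCmem x).mpr (hmax R hR hRtop x hx))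
    have hx₀C : x₀ ∉ C := fun hc => hx₀ ((hCmem x₀).mp hc)
    have hCtop : C ≠ ⊤ := fun e => hx₀C (e ▸ Subgroup.mem_top x₀)
    have hCiff : ∀ x, ψ x ∈ C ↔ x ∈ C := fun x =>
      ⟨fun hx => by
        have := hinv C hCψ _ hx
        rwa [MulAut.inv_apply_self] at this, hCψ x⟩
    -- some `x⁻¹ γ(x)` is not fixed
    obtain ⟨x₁, hx₁⟩ : ∃ x, x⁻¹ * (ψ ^ 3) x ∉ C := by
      by_contra hcon
      push Not at hcon
      exact hx₀ (unip h.h2 (ψ ^ 3) m hγN (fun x => (hCmem _).mp (hcon x)) x₀)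
    -- `C` is normal
    have hnorm : ∀ g c : T, c ∈ C → g * c * g⁻¹ ∈ C := by
      have hNψ : ∀ g ∈ Subgroup.normalizer C, ψ g ∈ Subgroup.normalizer C := by
        intro g hg
        rw [Subgroup.mem_normalizer_iff] at hg ⊢
        intro c
        have e : ψ g * c * (ψ g)⁻¹ = ψ (g * ψ⁻¹ c * g⁻¹) := by
          rw [map_mul, map_mul, map_inv, MulAut.apply_inv_self]
        rw [e, hCiff, ← hg, ← hCiff (ψ⁻¹ c), MulAut.apply_inv_self]
      haveI : Group.IsNilpotent T := h.h2.isNilpotent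
      have hlt := Group.normalizerCondition_of_isNilpotent C (lt_top_iff_ne_top.mpr hCtop)
      obtain ⟨g₀, hg₀N, hg₀C⟩ := SetLike.exists_of_lt hlt
      have hNtop := hmax' _ hNψ ⟨g₀, hg₀N, hg₀C⟩
      intro g c hc
      have hg : g ∈ Subgroup.normalizer C := hNtop ▸ Subgroup.mem_top g
      exact (Subgroup.mem_normalizer_iff.mp hg c).mp hc
    -- `C` is central
    have hCcen : ∀ c ∈ C, c ∈ Subgroup.center T := by
      have hyZ : ∀ x : T, x⁻¹ * (ψ ^ 3) x ∈ Subgroup.centralizer (C : Set T) := by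
        intro x
        rw [Subgroup.mem_centralizer_iff]
        intro c hc
        have h1 : (ψ ^ 3) (x * c * x⁻¹) = x * c * x⁻¹ := (hCmem _).mp (hnorm x c hc)
        rw [map_mul, map_mul, map_inv, (hCmem c).mp hc] at h1
        calc c * (x⁻¹ * (ψ ^ 3) x) = x⁻¹ * (x * c * x⁻¹) * (ψ ^ 3) x := by group
          _ = x⁻¹ * ((ψ ^ 3) x * c * ((ψ ^ 3) x)⁻¹) * (ψ ^ 3) x := by rw [h1]
          _ = x⁻¹ * (ψ ^ 3) x * c := by group
      have hZψ : ∀ g ∈ Subgroup.centralizer (C : Set T), ψ g ∈ Subgroup.centralizer (C : Set T) := by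
        intro g hg
        rw [Subgroup.mem_centralizer_iff] at hg ⊢
        intro c hc
        have := congrArg ψ (hg (ψ⁻¹ c) (hinv C hCψ c hc))
        rw [map_mul, map_mul, MulAut.apply_inv_self] at this
        exact this
      have hZtop := hmax' _ hZψ ⟨_, hyZ x₁, hx₁⟩
      intro c hc
      rw [Subgroup.mem_center_iff]
      intro g
      have hg : g ∈ Subgroup.centralizer (C : Set T) := hZtop ▸ Subgroup.mem_top g
      exact (Subgroup.mem_centralizer_iff.mp hg c hc).symm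
    -- commutators lie in `C`
    have hcmC : ∀ x y : T, cm x y ∈ C := by
      by_cases hab : Subgroup.center T = ⊤
      · intro x y
        have hx : x ∈ Subgroup.center T := hab ▸ Subgroup.mem_top x
        rw [cm_of_central hx]; exact one_mem _
      · have hcenC : ∀ z ∈ Subgroup.center T, z ∈ C := fun z hz =>
          (hCmem z).mpr (hmax (Subgroup.center T) (fun x hx => aut_center ψ hx) hab z hz)
        obtain ⟨x', hx'1, hx'2, hx'3⟩ := exists_noncentral h.h2 (by
          by_contra hcon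
          push Not at hcon
          exact hab ((Subgroup.eq_top_iff' _).mpr hcon))
        have hVtop : Vsub T = ⊤ := hmax' (Vsub T) (fun x hx => Vsub_map ψ hx)
          ⟨x', ⟨hx'2, hx'3⟩, fun hc => hx'1 (hCcen x' hc)⟩
        intro x y
        have hx : x ∈ Vsub T := hVtop ▸ Subgroup.mem_top x
        exact hcenC _ (hx.2 y)
    have hcmcen : ∀ x y : T, cm x y ∈ Subgroup.center T := fun x y => hCcen _ (hcmC x y)
    -- squares lie in `C`
    have hsqC : ∀ x : T, x * x ∈ C := by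
      obtain ⟨k, hk⟩ := h.h2 x₀
      have hex : ∃ j, x₀ ^ (2 ^ j) ∈ C := ⟨k, by rw [hk]; exact one_mem _⟩
      classical
      obtain ⟨j, hj1, hjmin⟩ : ∃ j, x₀ ^ (2 ^ j) ∈ C ∧ ∀ i, x₀ ^ (2 ^ i) ∈ C → j ≤ i :=
        ⟨Nat.find hex, Nat.find_spec hex, fun i hi => Nat.find_min' hex hi⟩
      have hj0 : j ≠ 0 := by
        rintro rfl
        rw [pow_zero, pow_one] at hj1
        exact hx₀C hj1
      obtain ⟨i, rfl⟩ : ∃ i, j = i + 1 := ⟨j - 1, by omega⟩
      have hw1 : x₀ ^ (2 ^ i) ∉ C := fun hc => by have := hjmin i hc; omega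
      have hw2 : x₀ ^ (2 ^ i) * x₀ ^ (2 ^ i) ∈ C := by
        rw [← pow_add, ← two_mul, ← pow_succ']; exact hj1
      have hXtop : sqSub C hCcen hcmC = ⊤ := hmax' _ (fun x hx => by
          rw [mem_sqSub] at hx ⊢
          rw [← map_mul]; exact hCψ _ hx) ⟨_, hw2, hw1⟩
      intro x
      have : x ∈ sqSub C hCcen hcmC := hXtop ▸ Subgroup.mem_top x
      exact this
    have hcm2 : ∀ x y : T, cm x y * cm x y = 1 := by
      intro x y
      rw [← cm_mul_left x x y (hcmcen x y)]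
      exact cm_of_central (hCcen _ (hsqC x)) y
    -- the involutions
    have hEcen : ∀ e ∈ invSub h.hci, e ∈ Subgroup.center T := fun e he => h.hci e he
    have hcmE : ∀ x y : T, cm x y ∈ invSub h.hci := fun x y => hcm2 x y
    have hEC : ∀ e ∈ invSub h.hci, e ∈ C := fun e he =>
      (hCmem e).mpr ((pow3_apply ψ e).trans (h.hfix3 e he))
    have hyW : ∀ x : T, x⁻¹ * (ψ ^ 3) x ∈ sqSub (invSub h.hci) hEcen hcmE := by
      intro x
      rw [mem_sqSub, sq_mul x⁻¹ ((ψ ^ 3) x) (hcmcen _ _)]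
      have h1 : (ψ ^ 3) x * (ψ ^ 3) x = x * x := by
        rw [← map_mul]; exact (hCmem _).mp (hsqC x)
      rw [h1]
      have h2 : x⁻¹ * x⁻¹ * (x * x) = 1 := by group
      rw [h2, one_mul]
      exact hcmE _ _
    have hWψ : ∀ x ∈ sqSub (invSub h.hci) hEcen hcmE,
        ψ x ∈ sqSub (invSub h.hci) hEcen hcmE := by
      intro x hx
      have hx' : (x * x) * (x * x) = 1 := hx
      show (ψ x * ψ x) * (ψ x * ψ x) = 1
      rw [← map_mul, ← map_mul, hx', map_one]
    have hWtop : sqSub (invSub h.hci) hEcen hcmE = ⊤ := hmax' _ hWψ ⟨_, hyW x₁, hx₁⟩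
    have hsqE : ∀ x : T, x * x ∈ invSub h.hci := fun x => by
      have : x ∈ sqSub (invSub h.hci) hEcen hcmE := hWtop ▸ Subgroup.mem_top x
      exact this
    obtain ⟨a, n', hEcard, hTcard, han⟩ := quad_bound (invSub h.hci) hEcen (fun z hz => hz)
      hsqE hcmE (fun x hx => hx)
    have hE4 : Nat.card (invSub h.hci) = 4 := h.hcard
    have hn2 : n' = 2 := by
      rw [hE4] at hEcard
      have : (2 : ℕ) ^ 2 = 2 ^ n' := by rw [← hEcard]; norm_num
      exact (Nat.pow_right_injective (le_refl 2) this).symm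
    have ha4 : a ≤ 4 := by omega
    haveI hEn : (invSub h.hci).Normal := ⟨fun z hz g => by
      have hzc := Subgroup.mem_center_iff.mp (hEcen z hz) g
      have : g * z * g⁻¹ = z := by rw [hzc]; group
      rw [this]; exact hz⟩
    have hTq : Nat.card (T ⧸ invSub h.hci) = 2 ^ a := by
      have h1 := Subgroup.card_eq_card_quotient_mul_card_subgroup (invSub h.hci)
      rw [hTcard, hEcard] at h1
      exact (Nat.eq_of_mul_eq_mul_right (by positivity) h1).symm
    have hEmap : (invSub h.hci).map (ψ : T →* T) = invSub h.hci := by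
      ext x
      rw [Subgroup.mem_map]
      constructor
      · rintro ⟨y, hy, rfl⟩
        have hy' : y * y = 1 := hy
        show ψ y * ψ y = 1
        rw [← map_mul, hy', map_one]
      · intro hx
        have hx' : x * x = 1 := hx
        refine ⟨ψ⁻¹ x, ?_, by simp⟩
        show ψ⁻¹ x * ψ⁻¹ x = 1
        rw [← map_mul, hx', map_one]
    obtain ⟨ψq, hψq⟩ : ∃ ψq : MulAut (T ⧸ invSub h.hci), ∀ x : T,
        ψq (QuotientGroup.mk x) = QuotientGroup.mk (ψ x) :=
      ⟨QuotientGroup.congr _ _ ψ hEmap, fun x => rfl⟩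
    have hψqpow : ∀ (j : ℕ) (x : T),
        (ψq ^ j) (QuotientGroup.mk x) = QuotientGroup.mk ((ψ ^ j) x) := by
      intro j
      induction j with
      | zero => intro x; rfl
      | succ j ih =>
        intro x
        rw [pow_succ, pow_succ, MulAut.mul_apply, MulAut.mul_apply, hψq, ih]
    have hψqN : ψq ^ (3 ^ m) = 1 := by
      apply MulEquiv.ext
      intro q
      induction q using QuotientGroup.induction_on with
      | H x => rw [hψqpow, hm]; rfl
    have hψq3 := aut_cube_eq_one hTq (by omega) m ψq hψqN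
    have hyE : ∀ x : T, x⁻¹ * (ψ ^ 3) x ∈ invSub h.hci := by
      intro x
      have h1 := hψqpow 3 x
      rw [hψq3, MulAut.one_apply] at h1
      exact QuotientGroup.eq.mp h1
    exact hx₁ (hEC _ (hyE x₁))

/-- **Regularity**: an automorphism of 3-power order permuting the three involutions cyclically
has order three. -/
theorem TD.cube {T : Type u} [Group T] {ψ : MulAut T} (h : TD T ψ) (m : ℕ)
    (hm : ψ ^ (3 ^ m) = 1) : ψ ^ 3 = 1 := by
  apply MulEquiv.ext
  intro x
  exact TD.cube_aux m (Nat.card T) T ψ rfl h hm x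

end Cfsg.Agent.Lib.Helper45.Hig
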