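import Mathlib
import Cfsg.Agent.Lib.Helper45.HigReg

set_option autoImplicit false

namespace Cfsg.Agent.Lib.Helper45.Hig

open Cfsg.Agent.Lib.Helper21.Suz2
open scoped IsMulCommutative

universe u v

section Chain

variable {G : Type*} [Group G]

/-- `H ∪ aH` for an element `a` normalising `H` with `a² ∈ H`. -/
def stepSub (H : Subgroup G) (a : G) (ha2 : a * a ∈ H) (hn : ∀ h ∈ H, a⁻¹ * h * a ∈ H) :
    Subgroup G where
  carrier := {x | x ∈ H ∨ a⁻¹ * x ∈ H}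
  one_mem' := Or.inl H.one_mem
  mul_mem' := by
    rintro x y (hx | hx) (hy | hy)
    · exact Or.inl (H.mul_mem hx hy)
    · right
      have e : a⁻¹ * (x * y) = (a⁻¹ * x * a) * (a⁻¹ * y) := by group
      rw [e]; exact H.mul_mem (hn x hx) hy
    · right
      have e : a⁻¹ * (x * y) = (a⁻¹ * x) * y := by group
      rw [e]; exact H.mul_mem hx hy
    · left
      have e : x * y = (a * a) * (a⁻¹ * (a⁻¹ * x) * a) * (a⁻¹ * y) := by group
      rw [e]; exact H.mul_mem (H.mul_mem ha2 (hn _ hx)) hy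
  inv_mem' := by
    rintro x (hx | hx)
    · exact Or.inl (H.inv_mem hx)
    · right
      have e : a⁻¹ * x⁻¹ = (a⁻¹ * (a⁻¹ * x)⁻¹ * a) * (a * a)⁻¹ := by group
      rw [e]; exact H.mul_mem (hn _ (H.inv_mem hx)) (H.inv_mem ha2)

theorem card_stepSub [Finite G] (H : Subgroup G) (a : G) (ha2 : a * a ∈ H)
    (hn : ∀ h ∈ H, a⁻¹ * h * a ∈ H) : Nat.card (stepSub H a ha2 hn) ≤ 2 * Nat.card H := by
  let f : H ⊕ H → stepSub H a ha2 hn :=
    Sum.elim (fun h => ⟨h.1, Or.inl h.2⟩)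
      (fun h => ⟨a * h.1, Or.inr (by rw [inv_mul_cancel_left]; exact h.2)⟩)
  have hf : Function.Surjective f := by
    rintro ⟨x, hx | hx⟩
    · exact ⟨Sum.inl ⟨x, hx⟩, rfl⟩
    · exact ⟨Sum.inr ⟨a⁻¹ * x, hx⟩, Subtype.ext (mul_inv_cancel_left a x)⟩
  have h1 := Nat.card_le_card_of_surjective f hf
  rw [Nat.card_sum] at h1
  omega

theorem chain_step [Finite G] (N H : Subgroup G) (hN : N ≤ Subgroup.center G) (hNH : N ≤ H)
    (S : Set G) (hH : ∀ x ∈ H, ∀ d ∈ S, cm x d ∈ N) (a : G) (haS : a ∈ S) (ha2 : a * a ∈ N)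
    (haS' : ∀ d ∈ S, cm a d ∈ N) :
    ∃ H' : Subgroup G, H ≤ H' ∧ a ∈ H' ∧ Nat.card H' ≤ 2 * Nat.card H ∧
      ∀ x ∈ H', ∀ d ∈ S, cm x d ∈ N := by
  have hn : ∀ h ∈ H, a⁻¹ * h * a ∈ H := by
    intro h hh
    have e : a⁻¹ * h * a = h * cm h a := by unfold cm; group
    rw [e]; exact H.mul_mem hh (hNH (hH h hh a haS))
  refine ⟨stepSub H a (hNH ha2) hn, fun x hx => Or.inl hx,
    Or.inr (by rw [inv_mul_cancel]; exact H.one_mem), card_stepSub H a _ hn, ?_⟩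
  rintro x (hx | hx) d hd
  · exact hH x hx d hd
  · have e : x = a * (a⁻¹ * x) := by group
    rw [e, cm_mul_left a (a⁻¹ * x) d (hN (haS' d hd))]
    exact N.mul_mem (haS' d hd) (hH _ hx d hd)

theorem card_closure_pair [Finite G] (ζ₁ ζ₂ : G) (h₂ : ζ₂ ∈ Subgroup.center G)
    (h₁2 : ζ₁ * ζ₁ = 1) (h₂2 : ζ₂ * ζ₂ = 1) :
    Nat.card (Subgroup.closure ({ζ₁, ζ₂} : Set G)) ≤ 4 := by
  have hp₁ : ζ₁ * ζ₁ ∈ (⊥ : Subgroup G) := by rw [h₁2]; exact one_mem _
  have hn₁ : ∀ h ∈ (⊥ : Subgroup G), ζ₁⁻¹ * h * ζ₁ ∈ (⊥ : Subgroup G) := by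
    intro h hh
    rw [Subgroup.mem_bot] at hh ⊢
    rw [hh]; group
  have hc₁ := card_stepSub ⊥ ζ₁ hp₁ hn₁
  have hp₂ : ζ₂ * ζ₂ ∈ stepSub ⊥ ζ₁ hp₁ hn₁ := by rw [h₂2]; exact one_mem _
  have hn₂ : ∀ h ∈ stepSub ⊥ ζ₁ hp₁ hn₁, ζ₂⁻¹ * h * ζ₂ ∈ stepSub ⊥ ζ₁ hp₁ hn₁ := by
    intro h hh
    have e : ζ₂⁻¹ * h * ζ₂ = h := by
      have := Subgroup.mem_center_iff.mp h₂ h
      rw [mul_assoc, this]; group
    rw [e]; exact hh
  have hc₂ := card_stepSub (stepSub ⊥ ζ₁ hp₁ hn₁) ζ₂ hp₂ hn₂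
  have hle : Subgroup.closure ({ζ₁, ζ₂} : Set G) ≤ stepSub (stepSub ⊥ ζ₁ hp₁ hn₁) ζ₂ hp₂ hn₂ := by
    rw [Subgroup.closure_le]
    rintro x (rfl | rfl)
    · exact Or.inl (Or.inr (by rw [inv_mul_cancel]; exact one_mem _))
    · exact Or.inr (by rw [inv_mul_cancel]; exact one_mem _)
  have h3 := Subgroup.card_le_of_le hle
  rw [Subgroup.card_bot] at hc₁
  omega

theorem chain_bound [Finite G] (N : Subgroup G) (hNc : N ≤ Subgroup.center G)
    (hN4 : Nat.card N ≤ 4) (d₁ d₂ d₃ d₄ : G)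
    (hsq : ∀ d ∈ ({d₁, d₂, d₃, d₄} : Set G), d * d ∈ N)
    (hcm : ∀ d ∈ ({d₁, d₂, d₃, d₄} : Set G), ∀ d' ∈ ({d₁, d₂, d₃, d₄} : Set G), cm d d' ∈ N) :
    ∃ H : Subgroup G, N ≤ H ∧ d₁ ∈ H ∧ d₂ ∈ H ∧ d₃ ∈ H ∧ d₄ ∈ H ∧ Nat.card H ≤ 64 := by
  obtain ⟨S, hS⟩ : ∃ S : Set G, ({d₁, d₂, d₃, d₄} : Set G) = S := ⟨_, rfl⟩
  rw [hS] at hsq hcm
  have m₁ : d₁ ∈ S := by rw [← hS]; simp
  have m₂ : d₂ ∈ S := by rw [← hS]; simp
  have m₃ : d₃ ∈ S := by rw [← hS]; simp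
  have m₄ : d₄ ∈ S := by rw [← hS]; simp
  have h0 : ∀ x ∈ N, ∀ d ∈ S, cm x d ∈ N := fun x hx d _ => by
    rw [cm_of_central (hNc hx)]; exact one_mem _
  obtain ⟨H₁, l₁, a₁, c₁, i₁⟩ := chain_step N N hNc le_rfl S h0 d₁ m₁ (hsq d₁ m₁) (hcm d₁ m₁)
  obtain ⟨H₂, l₂, a₂, c₂, i₂⟩ := chain_step N H₁ hNc l₁ S i₁ d₂ m₂ (hsq d₂ m₂) (hcm d₂ m₂)
  obtain ⟨H₃, l₃, a₃, c₃, i₃⟩ :=
    chain_step N H₂ hNc (l₁.trans l₂) S i₂ d₃ m₃ (hsq d₃ m₃) (hcm d₃ m₃)
  obtain ⟨H₄, l₄, a₄, c₄, i₄⟩ :=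
    chain_step N H₃ hNc ((l₁.trans l₂).trans l₃) S i₃ d₄ m₄ (hsq d₄ m₄) (hcm d₄ m₄)
  exact ⟨H₄, ((l₁.trans l₂).trans l₃).trans l₄, l₄ (l₃ (l₂ a₁)), l₄ (l₃ a₂), l₄ a₃, a₄, by omega⟩

theorem closure_comm (S : Set G) (hS : ∀ x ∈ S, ∀ y ∈ S, x * y = y * x) :
    ∀ x ∈ Subgroup.closure S, ∀ y ∈ Subgroup.closure S, x * y = y * x := by
  have h1 : Subgroup.closure S ≤ Subgroup.centralizer S := by
    rw [Subgroup.closure_le]
    intro x hx
    rw [SetLike.mem_coe, Subgroup.mem_centralizer_iff]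
    intro y hy
    exact hS y hy x hx
  have h2 : Subgroup.closure S ≤ Subgroup.centralizer (Subgroup.closure S : Set G) := by
    rw [Subgroup.closure_le]
    intro x hx
    rw [SetLike.mem_coe, Subgroup.mem_centralizer_iff]
    intro y hy
    exact (Subgroup.mem_centralizer_iff.mp (h1 hy) x hx).symm
  intro x hx y hy
  exact (Subgroup.mem_centralizer_iff.mp (h2 hx) y hy).symm

theorem closure_aut_inv (k : MulAut G) (S : Set G)
    (hS : ∀ s ∈ S, k s ∈ Subgroup.closure S) :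
    ∀ x ∈ Subgroup.closure S, k x ∈ Subgroup.closure S := by
  have h1 : Subgroup.closure S ≤ (Subgroup.closure S).comap (k : G →* G) := by
    rw [Subgroup.closure_le]
    intro s hs
    exact hS s hs
  intro x hx
  exact h1 hx

end Chain

/-- Generators and relations for the Suzuki 2-group of order 64. -/
structure PD (T : Type u) [Group T] (g₁ g₂ g₃ g₄ z₁ z₂ : T) : Prop where
  hz₁ : z₁ ∈ Subgroup.center T
  hz₂ : z₂ ∈ Subgroup.center T
  hz₁2 : z₁ * z₁ = 1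
  hz₂2 : z₂ * z₂ = 1
  s₁ : g₁ * g₁ = z₁
  s₂ : g₂ * g₂ = z₂
  s₃ : g₃ * g₃ = z₁
  s₄ : g₄ * g₄ = z₂
  c₁₂ : cm g₁ g₂ = 1
  c₃₄ : cm g₃ g₄ = 1
  c₁₃ : cm g₁ g₃ = z₂
  c₁₄ : cm g₁ g₄ = z₁
  c₂₃ : cm g₂ g₃ = z₁
  c₂₄ : cm g₂ g₄ = z₁ * z₂
  gen : Subgroup.closure ({g₁, g₂, g₃, g₄, z₁, z₂} : Set T) = ⊤
  card : Nat.card T = 64

/-- Two groups with the same presentation data are isomorphic. -/
theorem PD.iso {T₁ : Type u} {T₂ : Type v} [Group T₁] [Group T₂] {g₁ g₂ g₃ g₄ z₁ z₂ : T₁}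
    {g₁' g₂' g₃' g₄' z₁' z₂' : T₂} (p : PD T₁ g₁ g₂ g₃ g₄ z₁ z₂)
    (p' : PD T₂ g₁' g₂' g₃' g₄' z₁' z₂') : Nonempty (T₁ ≃* T₂) := by
  haveI : Finite T₁ := Nat.finite_of_card_ne_zero (by rw [p.card]; norm_num)
  haveI : Finite T₂ := Nat.finite_of_card_ne_zero (by rw [p'.card]; norm_num)
  have hc : ∀ (a : T₁) (b : T₂), a ∈ Subgroup.center T₁ → b ∈ Subgroup.center T₂ →
      ((a, b) : T₁ × T₂) ∈ Subgroup.center (T₁ × T₂) := by
    intro a b ha hb
    rw [Subgroup.mem_center_iff]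
    rintro ⟨x, y⟩
    exact Prod.ext (Subgroup.mem_center_iff.mp ha x) (Subgroup.mem_center_iff.mp hb y)
  obtain ⟨ζ₁, hζ₁⟩ : ∃ ζ₁ : T₁ × T₂, ζ₁ = (z₁, z₁') := ⟨_, rfl⟩
  obtain ⟨ζ₂, hζ₂⟩ : ∃ ζ₂ : T₁ × T₂, ζ₂ = (z₂, z₂') := ⟨_, rfl⟩
  obtain ⟨d₁, hd₁⟩ : ∃ d₁ : T₁ × T₂, d₁ = (g₁, g₁') := ⟨_, rfl⟩
  obtain ⟨d₂, hd₂⟩ : ∃ d₂ : T₁ × T₂, d₂ = (g₂, g₂') := ⟨_, rfl⟩
  obtain ⟨d₃, hd₃⟩ : ∃ d₃ : T₁ × T₂, d₃ = (g₃, g₃') := ⟨_, rfl⟩
  obtain ⟨d₄, hd₄⟩ : ∃ d₄ : T₁ × T₂, d₄ = (g₄, g₄') := ⟨_, rfl⟩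
  have hζ₂c : ζ₂ ∈ Subgroup.center (T₁ × T₂) := by rw [hζ₂]; exact hc _ _ p.hz₂ p'.hz₂
  have hζ₁c : ζ₁ ∈ Subgroup.center (T₁ × T₂) := by rw [hζ₁]; exact hc _ _ p.hz₁ p'.hz₁
  have hζ₁2 : ζ₁ * ζ₁ = 1 := by rw [hζ₁]; exact Prod.ext p.hz₁2 p'.hz₁2
  have hζ₂2 : ζ₂ * ζ₂ = 1 := by rw [hζ₂]; exact Prod.ext p.hz₂2 p'.hz₂2
  obtain ⟨N, hN⟩ : ∃ N, Subgroup.closure ({ζ₁, ζ₂} : Set (T₁ × T₂)) = N := ⟨_, rfl⟩
  have hN4 : Nat.card N ≤ 4 := by
    rw [← hN]; exact card_closure_pair ζ₁ ζ₂ hζ₂c hζ₁2 hζ₂2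
  have hNc : N ≤ Subgroup.center (T₁ × T₂) := by
    rw [← hN, Subgroup.closure_le]
    rintro x (rfl | rfl)
    · exact hζ₁c
    · exact hζ₂c
  have m₁ : ζ₁ ∈ N := by rw [← hN]; exact Subgroup.subset_closure (by simp)
  have m₂ : ζ₂ ∈ N := by rw [← hN]; exact Subgroup.subset_closure (by simp)
  have s₁ : d₁ * d₁ = ζ₁ := by rw [hd₁, hζ₁]; exact Prod.ext p.s₁ p'.s₁
  have s₂ : d₂ * d₂ = ζ₂ := by rw [hd₂, hζ₂]; exact Prod.ext p.s₂ p'.s₂
  have s₃ : d₃ * d₃ = ζ₁ := by rw [hd₃, hζ₁]; exact Prod.ext p.s₃ p'.s₃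
  have s₄ : d₄ * d₄ = ζ₂ := by rw [hd₄, hζ₂]; exact Prod.ext p.s₄ p'.s₄
  have c₁₂ : cm d₁ d₂ = 1 := by rw [hd₁, hd₂]; exact Prod.ext p.c₁₂ p'.c₁₂
  have c₃₄ : cm d₃ d₄ = 1 := by rw [hd₃, hd₄]; exact Prod.ext p.c₃₄ p'.c₃₄
  have c₁₃ : cm d₁ d₃ = ζ₂ := by rw [hd₁, hd₃, hζ₂]; exact Prod.ext p.c₁₃ p'.c₁₃
  have c₁₄ : cm d₁ d₄ = ζ₁ := by rw [hd₁, hd₄, hζ₁]; exact Prod.ext p.c₁₄ p'.c₁₄
  have c₂₃ : cm d₂ d₃ = ζ₁ := by rw [hd₂, hd₃, hζ₁]; exact Prod.ext p.c₂₃ p'.c₂₃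
  have c₂₄ : cm d₂ d₄ = ζ₁ * ζ₂ := by
    rw [hd₂, hd₄, hζ₁, hζ₂]; exact Prod.ext p.c₂₄ p'.c₂₄
  have sym : ∀ x y : T₁ × T₂, cm x y ∈ N → cm y x ∈ N := fun x y h => by
    rw [cm_symm x y]; exact N.inv_mem h
  have diag : ∀ x : T₁ × T₂, cm x x ∈ N := fun x => by rw [cm_self]; exact one_mem _
  have n₁₂ : cm d₁ d₂ ∈ N := by rw [c₁₂]; exact one_mem _
  have n₃₄ : cm d₃ d₄ ∈ N := by rw [c₃₄]; exact one_mem _
  have n₁₃ : cm d₁ d₃ ∈ N := by rw [c₁₃]; exact m₂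
  have n₁₄ : cm d₁ d₄ ∈ N := by rw [c₁₄]; exact m₁
  have n₂₃ : cm d₂ d₃ ∈ N := by rw [c₂₃]; exact m₁
  have n₂₄ : cm d₂ d₄ ∈ N := by rw [c₂₄]; exact N.mul_mem m₁ m₂
  have hsq : ∀ d ∈ ({d₁, d₂, d₃, d₄} : Set (T₁ × T₂)), d * d ∈ N := by
    intro d hd
    rcases hd with h | h | h | h
    · rw [h, s₁]; exact m₁
    · rw [h, s₂]; exact m₂
    · rw [h, s₃]; exact m₁
    · rw [h, s₄]; exact m₂
  have hcm : ∀ d ∈ ({d₁, d₂, d₃, d₄} : Set (T₁ × T₂)),
      ∀ d' ∈ ({d₁, d₂, d₃, d₄} : Set (T₁ × T₂)), cm d d' ∈ N := by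
    intro d hd d' hd'
    rcases hd with h | h | h | h <;> rcases hd' with h' | h' | h' | h' <;> rw [h, h']
    all_goals first
      | exact diag _ | exact n₁₂ | exact n₃₄ | exact n₁₃ | exact n₁₄ | exact n₂₃ | exact n₂₄
      | exact sym _ _ n₁₂ | exact sym _ _ n₃₄ | exact sym _ _ n₁₃ | exact sym _ _ n₁₄
      | exact sym _ _ n₂₃ | exact sym _ _ n₂₄
  obtain ⟨H, hNH, a₁, a₂, a₃, a₄, hH64⟩ := chain_bound N hNc hN4 d₁ d₂ d₃ d₄ hsq hcm
  have b₁ : ζ₁ ∈ H := hNH m₁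
  have b₂ : ζ₂ ∈ H := hNH m₂
  have hs₁ : Function.Surjective ((MonoidHom.fst T₁ T₂).comp H.subtype) := by
    rw [← MonoidHom.range_eq_top, eq_top_iff, ← p.gen, Subgroup.closure_le]
    intro x hx
    rcases hx with h | h | h | h | h | h
    · exact ⟨⟨d₁, a₁⟩, by rw [h]; show d₁.1 = g₁; rw [hd₁]⟩
    · exact ⟨⟨d₂, a₂⟩, by rw [h]; show d₂.1 = g₂; rw [hd₂]⟩
    · exact ⟨⟨d₃, a₃⟩, by rw [h]; show d₃.1 = g₃; rw [hd₃]⟩
    · exact ⟨⟨d₄, a₄⟩, by rw [h]; show d₄.1 = g₄; rw [hd₄]⟩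
    · exact ⟨⟨ζ₁, b₁⟩, by rw [h]; show ζ₁.1 = z₁; rw [hζ₁]⟩
    · exact ⟨⟨ζ₂, b₂⟩, by rw [h]; show ζ₂.1 = z₂; rw [hζ₂]⟩
  have hs₂ : Function.Surjective ((MonoidHom.snd T₁ T₂).comp H.subtype) := by
    rw [← MonoidHom.range_eq_top, eq_top_iff, ← p'.gen, Subgroup.closure_le]
    intro x hx
    rcases hx with h | h | h | h | h | h
    · exact ⟨⟨d₁, a₁⟩, by rw [h]; show d₁.2 = g₁'; rw [hd₁]⟩
    · exact ⟨⟨d₂, a₂⟩, by rw [h]; show d₂.2 = g₂'; rw [hd₂]⟩
    · exact ⟨⟨d₃, a₃⟩, by rw [h]; show d₃.2 = g₃'; rw [hd₃]⟩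
    · exact ⟨⟨d₄, a₄⟩, by rw [h]; show d₄.2 = g₄'; rw [hd₄]⟩
    · exact ⟨⟨ζ₁, b₁⟩, by rw [h]; show ζ₁.2 = z₁'; rw [hζ₁]⟩
    · exact ⟨⟨ζ₂, b₂⟩, by rw [h]; show ζ₂.2 = z₂'; rw [hζ₂]⟩
  have hb₁ := hs₁.bijective_of_nat_card_le (by rw [p.card]; exact hH64)
  have hb₂ := hs₂.bijective_of_nat_card_le (by rw [p'.card]; exact hH64)
  exact ⟨(MulEquiv.ofBijective _ hb₁).symm.trans (MulEquiv.ofBijective _ hb₂)⟩

/-- Three distinct elements of a type with three elements exhaust it. -/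
theorem three_exhaust {α : Type*} (hα : Nat.card α = 3) (a b c : α) (hab : a ≠ b) (hac : a ≠ c)
    (hbc : b ≠ c) (e : α) : e = a ∨ e = b ∨ e = c := by
  classical
  haveI : Finite α := Nat.finite_of_card_ne_zero (by omega)
  letI := Fintype.ofFinite α
  have hs : ({a, b, c} : Finset α).card = 3 := by
    rw [Finset.card_insert_of_notMem, Finset.card_insert_of_notMem, Finset.card_singleton]
    · simpa using hbc
    · simp [hab, hac]
  have h1 := Finset.eq_univ_of_card _ (by rw [hs, ← Nat.card_eq_fintype_card, hα])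
  have he : e ∈ ({a, b, c} : Finset α) := by rw [h1]; exact Finset.mem_univ e
  simpa using he

/-- Linear algebra over the field with four elements, multiplicatively. -/
theorem f4_lemma {M : Type*} [CommGroup M] (h2 : ∀ x : M, x * x = 1) (κ : M →* M)
    (hκ : ∀ x, x * κ x * κ (κ x) = 1) (a b c : M) (h1 : a * (b * c) = 1)
    (h3 : a * (κ c * κ (κ b)) = 1) : b = κ (κ a) := by
  have hinv : ∀ x : M, x⁻¹ = x := fun x => inv_eq_of_mul_eq_one_left (h2 x)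
  have hc : c = a * b := by
    have : c = (a * b)⁻¹ := eq_inv_of_mul_eq_one_right (by rw [mul_assoc]; exact h1)
    rw [this, hinv]
  have hb : κ (κ b) = b * κ b := by
    have : κ (κ b) = (b * κ b)⁻¹ := eq_inv_of_mul_eq_one_right (hκ b)
    rw [this, hinv]
  have ha : κ (κ a) = a * κ a := by
    have : κ (κ a) = (a * κ a)⁻¹ := eq_inv_of_mul_eq_one_right (hκ a)
    rw [this, hinv]
  rw [hc, map_mul, hb] at h3
  have e : a * (κ a * κ b * (b * κ b)) = (a * κ a) * b * (κ b * κ b) := by ac_rfl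
  rw [e, h2, mul_one] at h3
  rw [ha]
  have : b = (a * κ a)⁻¹ := eq_inv_of_mul_eq_one_right h3
  rw [this, hinv]

/-- The working data with a chosen generator of `K` when the centre has order four. -/
structure GK (T : Type u) [Group T] (K : Subgroup (MulAut T)) (k : MulAut T) : Prop where
  sd : SD T K
  hZ : Nat.card (Subgroup.center T) = 4
  hk : k ∈ K
  hk1 : k ≠ 1

section GKfacts

variable {T : Type u} [Group T] {K : Subgroup (MulAut T)} {k : MulAut T} (g : GK T K k)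
include g

theorem GK.cardK : Nat.card K = 3 := by
  have := g.sd.card_K_add_one
  rw [g.hZ] at this; omega

theorem GK.k3 : k ^ 3 = 1 := by
  have h1 : (⟨k, g.hk⟩ : K) ^ 3 = 1 := by
    rw [← g.cardK]; exact pow_card_eq_one'
  have h2 := congrArg Subtype.val h1
  simpa using h2

theorem GK.k3' (x : T) : k (k (k x)) = x := by
  rw [← pow3_apply, g.k3]; rfl

theorem GK.kk_ne : k * k ≠ 1 := by
  intro h
  apply g.hk1
  have h3 := g.k3
  rw [pow_succ, pow_two, h, one_mul] at h3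
  exact h3

theorem GK.sq : GK T K (k * k) := ⟨g.sd, g.hZ, K.mul_mem g.hk g.hk, g.kk_ne⟩

theorem GK.Kmem (l : MulAut T) (hl : l ∈ K) : l = 1 ∨ l = k ∨ l = k * k := by
  have h3 := three_exhaust g.cardK (1 : K) ⟨k, g.hk⟩ ⟨k * k, K.mul_mem g.hk g.hk⟩
    (fun e => g.hk1 (congrArg Subtype.val e).symm)
    (fun e => g.kk_ne (congrArg Subtype.val e).symm)
    (fun e => by
      have e' : k = k * k := congrArg Subtype.val e
      apply g.hk1
      calc k = k⁻¹ * (k * k) := by group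
        _ = k⁻¹ * k := by rw [← e']
        _ = 1 := inv_mul_cancel k)
    ⟨l, hl⟩
  rcases h3 with h | h | h
  · exact Or.inl (congrArg Subtype.val h)
  · exact Or.inr (Or.inl (congrArg Subtype.val h))
  · exact Or.inr (Or.inr (congrArg Subtype.val h))

theorem GK.inv_all (R : Subgroup T) (hR : ∀ x ∈ R, k x ∈ R) : ∀ l ∈ K, ∀ x ∈ R, l x ∈ R := by
  intro l hl x hx
  rcases g.Kmem l hl with h | h | h
  · rw [h]; exact hx
  · rw [h]; exact hR x hx
  · rw [h]; exact hR _ (hR x hx)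

theorem GK.Zk (x : T) (hx : x ∈ Subgroup.center T) : x * k x * k (k x) = 1 := by
  by_contra hne
  apply g.hk1
  refine g.sd.hfree' k g.hk _ hne ?_
  rw [map_mul, map_mul, g.k3']
  have := Subgroup.mem_center_iff.mp hx (k x * k (k x))
  rw [this, mul_assoc]

theorem GK.P1 (p : T) : p * (k p * k (k p)) ∈ Subgroup.center T := by
  by_contra hne
  apply g.hk1
  refine g.sd.free_quot (Subgroup.center T) (fun l _ x hx => aut_center l hx) k g.hk _ hne ?_
  have e : (p * (k p * k (k p)))⁻¹ * k (p * (k p * k (k p))) = cm (k p * k (k p)) p := by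
    rw [map_mul, map_mul, g.k3']
    unfold cm
    rw [mul_assoc (k p)]
  rw [e]
  exact g.sd.cm_central _ _

theorem GK.P2 (p : T) : cm p (k p) = 1 := by
  by_contra hne
  apply g.hk1
  have hc := g.sd.cm_central
  refine g.sd.hfree' k g.hk _ hne ?_
  rw [cm_map]
  have h1 : cm (k p) (p * (k p * k (k p))) = 1 := cm_central_right (g.P1 p) _
  rw [cm_mul_right _ _ _ (hc _ _), cm_mul_right _ _ _ (hc _ _), cm_self, one_mul] at h1
  have h2 : cm (k p) (k (k p)) = (cm (k p) p)⁻¹ := eq_inv_of_mul_eq_one_right h1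
  rw [h2, cm_symm p (k p), inv_inv]

theorem GK.X (u v : T) : cm (k u) v = k (k (cm u v)) := by
  have hc := g.sd.cm_central
  let κ : Subgroup.center T →* Subgroup.center T :=
    { toFun := fun x => ⟨k x.1, aut_center k x.2⟩
      map_one' := Subtype.ext (map_one k)
      map_mul' := fun x y => Subtype.ext (map_mul k x.1 y.1) }
  have h2 : ∀ x : Subgroup.center T, x * x = 1 := fun x => Subtype.ext (g.sd.hce x.1 x.2)
  have hκ3 : ∀ x : Subgroup.center T, x * κ x * κ (κ x) = 1 :=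
    fun x => Subtype.ext (g.Zk x.1 x.2)
  have hi : cm u v * (cm (k u) v * cm (k (k u)) v) = 1 := by
    have h1 : cm (u * (k u * k (k u))) v = 1 := cm_of_central (g.P1 u) v
    rw [cm_mul_left _ _ _ (hc _ _), cm_mul_left _ _ _ (hc _ _)] at h1
    exact h1
  have hii : cm u v * (k (cm (k (k u)) v) * k (k (cm (k u) v))) = 1 := by
    have h1 : cm u (v * (k v * k (k v))) = 1 := cm_central_right (g.P1 v) u
    rw [cm_mul_right _ _ _ (hc _ _), cm_mul_right _ _ _ (hc _ _)] at h1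
    have e1 : k (cm (k (k u)) v) = cm u (k v) := by rw [cm_map, g.k3']
    have e2 : k (k (cm (k u) v)) = cm u (k (k v)) := by rw [cm_map, cm_map, g.k3']
    rw [e1, e2]; exact h1
  have key := f4_lemma h2 κ hκ3 ⟨cm u v, hc _ _⟩ ⟨cm (k u) v, hc _ _⟩
    ⟨cm (k (k u)) v, hc _ _⟩ (Subtype.ext hi) (Subtype.ext hii)
  exact congrArg Subtype.val key

theorem GK.X' (u v : T) : cm u (k v) = k (k (cm u v)) := by
  have h1 := g.X v u
  rw [cm_symm u (k v), cm_symm u v, map_inv, map_inv, inv_inj] at h1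
  exact h1

theorem GK.cardT : Nat.card T = 16 ∨ Nat.card T = 64 := by
  rcases g.sd.card_cases with h | h
  · left; rw [h, g.hZ]; norm_num
  · right; rw [h, g.hZ]; norm_num

theorem GK.cardR (R : Subgroup T) (hR : ∀ x ∈ R, k x ∈ R) :
    Nat.card R = 1 ∨ Nat.card R = 4 ∨ Nat.card R = 16 ∨ Nat.card R = 64 := by
  haveI := g.sd.fin
  have hRK := g.inv_all R hR
  have hdvd : Nat.card K ∣ Nat.card {x : R // x ≠ 1} := by
    letI : MulAction ↥K {x : R // x ≠ 1} :=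
      { smul := fun l x => ⟨⟨l.1 x.1.1, hRK l.1 l.2 _ x.1.2⟩, fun e => x.2 (Subtype.ext
          ((map_eq_one_iff l.1 l.1.injective).mp (congrArg Subtype.val e)))⟩
        one_smul := fun x => Subtype.ext (Subtype.ext rfl)
        mul_smul := fun l l' x => Subtype.ext (Subtype.ext rfl) }
    apply card_dvd_of_free
    intro l x hlx
    have h1 : l.1 x.1.1 = x.1.1 := congrArg (fun y : {x : R // x ≠ 1} => (y.1.1 : T)) hlx
    exact Subtype.ext (g.sd.hfree' l.1 l.2 x.1.1 (fun e => x.2 (Subtype.ext e)) h1)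
  rw [g.cardK] at hdvd
  have h1 := card_ne_one_add R
  obtain ⟨c, hc⟩ : ∃ c, Nat.card {x : R // x ≠ 1} = c := ⟨_, rfl⟩
  rw [hc] at hdvd h1
  have h64 : Nat.card R ∣ 2 ^ 6 := by
    have := Subgroup.card_subgroup_dvd_card R
    rcases g.cardT with h | h
    · rw [h] at this; exact this.trans (by norm_num)
    · rw [h] at this; exact this.trans (by norm_num)
  obtain ⟨i, hi, hRi⟩ := (Nat.dvd_prime_pow Nat.prime_two).mp h64
  rw [hRi] at h1 ⊢
  interval_cases i <;> norm_num at h1 ⊢ <;> omega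

theorem GK.center_cases (z : T) (hz1 : z ≠ 1) (hz2 : z * z = 1) (c : T)
    (hc : c ∈ Subgroup.center T) : c = 1 ∨ c = z ∨ c = k z ∨ c = z * k z := by
  have hzc := g.sd.hci z hz2
  have hkz1 : k z ≠ 1 := fun e => hz1 ((map_eq_one_iff k k.injective).mp e)
  have hkz : k z ≠ z := fun e => g.hk1 (g.sd.hfree k g.hk z hz1 hz2 e)
  have h4 := four_exhaust g.hZ (1 : Subgroup.center T) ⟨z, hzc⟩ ⟨k z, aut_center k hzc⟩
    ⟨z * k z, mul_mem hzc (aut_center k hzc)⟩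
    (fun e => hz1 (congrArg Subtype.val e).symm)
    (fun e => hkz1 (congrArg Subtype.val e).symm)
    (fun e => by
      have e' : (1 : T) = z * k z := congrArg Subtype.val e
      apply hkz
      have : k z = z⁻¹ := eq_inv_of_mul_eq_one_right e'.symm
      rw [this]; exact inv_eq_of_mul_eq_one_left hz2)
    (fun e => hkz (congrArg Subtype.val e).symm)
    (fun e => by
      have e' : z = z * k z := congrArg Subtype.val e
      apply hkz1
      calc k z = z⁻¹ * (z * k z) := by group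
        _ = z⁻¹ * z := by rw [← e']
        _ = 1 := inv_mul_cancel z)
    (fun e => by
      have e' : k z = z * k z := congrArg Subtype.val e
      apply hz1
      calc z = (z * k z) * (k z)⁻¹ := by group
        _ = k z * (k z)⁻¹ := by rw [← e']
        _ = 1 := mul_inv_cancel (k z))
    ⟨c, hc⟩
  rcases h4 with h | h | h | h
  · exact Or.inl (congrArg Subtype.val h)
  · exact Or.inr (Or.inl (congrArg Subtype.val h))
  · exact Or.inr (Or.inr (Or.inl (congrArg Subtype.val h)))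
  · exact Or.inr (Or.inr (Or.inr (congrArg Subtype.val h)))

theorem GK.kk_mem (S : Subgroup T) (hcen : Subgroup.center T ≤ S) (p : T) (hp : p ∈ S)
    (hkp : k p ∈ S) : k (k p) ∈ S := by
  have h1 := hcen (g.P1 p)
  have e : k (k p) = (k p)⁻¹ * (p⁻¹ * (p * (k p * k (k p)))) := by group
  rw [e]
  exact S.mul_mem (S.inv_mem hkp) (S.mul_mem (S.inv_mem hp) h1)

theorem GK.center_le (z : T) (hz1 : z ≠ 1) (hz2 : z * z = 1) (S : Subgroup T)
    (hzS : z ∈ S) (hkzS : k z ∈ S) : Subgroup.center T ≤ S := by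
  intro c hc
  rcases g.center_cases z hz1 hz2 c hc with h | h | h | h
  · rw [h]; exact one_mem _
  · rw [h]; exact hzS
  · rw [h]; exact hkzS
  · rw [h]; exact S.mul_mem hzS hkzS

theorem GK.A_facts (z : T) (hz1 : z ≠ 1) (hz2 : z * z = 1) (u : T) (hu : u * u = z) :
    (∀ x ∈ Subgroup.closure ({u, k u, z, k z} : Set T),
      k x ∈ Subgroup.closure ({u, k u, z, k z} : Set T)) ∧
    Subgroup.center T ≤ Subgroup.closure ({u, k u, z, k z} : Set T) ∧
    Nat.card (Subgroup.closure ({u, k u, z, k z} : Set T)) = 16 ∧ Nat.card T = 64 := by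
  haveI := g.sd.fin
  have huA : u ∈ Subgroup.closure ({u, k u, z, k z} : Set T) :=
    Subgroup.subset_closure (by simp)
  have hkuA : k u ∈ Subgroup.closure ({u, k u, z, k z} : Set T) :=
    Subgroup.subset_closure (by simp)
  have hzA : z ∈ Subgroup.closure ({u, k u, z, k z} : Set T) :=
    Subgroup.subset_closure (by simp)
  have hkzA : k z ∈ Subgroup.closure ({u, k u, z, k z} : Set T) :=
    Subgroup.subset_closure (by simp)
  have hAab : ∀ x ∈ Subgroup.closure ({u, k u, z, k z} : Set T),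
      ∀ y ∈ Subgroup.closure ({u, k u, z, k z} : Set T), x * y = y * x := by
    apply closure_comm
    have hzc := g.sd.hci z hz2
    have hkzc := aut_center k hzc
    have hP2 : u * k u = k u * u := (cm_eq_one_iff _ _).mp (g.P2 u)
    have c1 := fun y => (Subgroup.mem_center_iff.mp hzc y)
    have c2 := fun y => (Subgroup.mem_center_iff.mp hkzc y)
    intro x hx y hy
    rcases hx with h | h | h | h <;> rcases hy with h' | h' | h' | h' <;> rw [h, h']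
    all_goals first
      | exact hP2 | exact hP2.symm | exact c1 _ | exact (c1 _).symm | exact c2 _
      | exact (c2 _).symm
  obtain ⟨A, hA⟩ : ∃ A, Subgroup.closure ({u, k u, z, k z} : Set T) = A := ⟨_, rfl⟩
  have hmemS : ∀ s ∈ ({u, k u, z, k z} : Set T), s = u ∨ s = k u ∨ s = z ∨ s = k z :=
    fun s hs => hs
  rw [hA] at huA hkuA hzA hkzA hAab ⊢
  have hzc := g.sd.hci z hz2
  have hkzc := aut_center k hzc
  have hcenA : Subgroup.center T ≤ A := g.center_le z hz1 hz2 A hzA hkzA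
  have hAk : ∀ x ∈ A, k x ∈ A := by
    rw [← hA]
    apply closure_aut_inv
    rw [hA]
    intro s hs
    rcases hmemS s hs with h | h | h | h
    · rw [h]; exact hkuA
    · rw [h]; exact g.kk_mem A hcenA _ huA hkuA
    · rw [h]; exact hkzA
    · rw [h]; exact hcenA (aut_center k hkzc)
  have hAtop : A ≠ ⊤ := by
    intro e
    obtain ⟨x, y, hxy⟩ := g.sd.hna
    exact hxy (hAab x (e ▸ Subgroup.mem_top x) y (e ▸ Subgroup.mem_top y))
  have hunc : u ∉ Subgroup.center T := by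
    intro hc
    have := g.sd.hce u hc
    rw [hu] at this
    exact hz1 this
  have hcard := g.cardR A hAk
  have hZlt : 4 < Nat.card A := by
    by_contra hle
    push Not at hle
    have := Subgroup.eq_of_le_of_card_ge hcenA (by rw [g.hZ]; exact hle)
    exact hunc (by rw [this]; exact huA)
  have hAlt : Nat.card A < Nat.card T := by
    have hle := Subgroup.card_le_card_group A
    rcases Nat.lt_or_ge (Nat.card A) (Nat.card T) with hlt | hge
    · exact hlt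
    · exact absurd (Subgroup.eq_top_of_card_eq A (le_antisymm hle hge)) hAtop
  rcases g.cardT with hT | hT
  · exfalso
    rw [hT] at hAlt
    rcases hcard with h | h | h | h <;> omega
  · rw [hT] at hAlt
    refine ⟨hAk, hcenA, ?_, hT⟩
    rcases hcard with h | h | h | h <;> omega

theorem GK.core (z : T) (hz1 : z ≠ 1) (hz2 : z * z = 1) (u v : T) (hu : u * u = z)
    (hv : v * v = z) (hvA : v ∉ Subgroup.closure ({u, k u, z, k z} : Set T))
    (ha : cm u v = k z) : PD T u (k u) v (k v) z (k z) := by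
  haveI := g.sd.fin
  obtain ⟨hAk, hcenA, hA16, hT64⟩ := g.A_facts z hz1 hz2 u hu
  have hzc := g.sd.hci z hz2
  have hkzc := aut_center k hzc
  have hkk : k (k z) = z * k z := by
    have h1 : k (k z) = (z * k z)⁻¹ := eq_inv_of_mul_eq_one_right (g.Zk z hzc)
    rw [h1]; exact g.sd.cinv _ (mul_mem hzc hkzc)
  refine ⟨hzc, hkzc, hz2, by rw [← map_mul k z z, hz2, map_one], hu,
    by rw [← map_mul k u u, hu], hv, by rw [← map_mul k v v, hv], g.P2 u, g.P2 v, ha,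
    ?_, ?_, ?_, ?_, hT64⟩
  · rw [g.X', ha, g.k3']
  · rw [g.X, ha, g.k3']
  · rw [← cm_map, ha, hkk]
  · have huB : u ∈ Subgroup.closure ({u, k u, v, k v, z, k z} : Set T) :=
      Subgroup.subset_closure (by simp)
    have hkuB : k u ∈ Subgroup.closure ({u, k u, v, k v, z, k z} : Set T) :=
      Subgroup.subset_closure (by simp)
    have hvB : v ∈ Subgroup.closure ({u, k u, v, k v, z, k z} : Set T) :=
      Subgroup.subset_closure (by simp)
    have hkvB : k v ∈ Subgroup.closure ({u, k u, v, k v, z, k z} : Set T) :=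
      Subgroup.subset_closure (by simp)
    have hzB : z ∈ Subgroup.closure ({u, k u, v, k v, z, k z} : Set T) :=
      Subgroup.subset_closure (by simp)
    have hkzB : k z ∈ Subgroup.closure ({u, k u, v, k v, z, k z} : Set T) :=
      Subgroup.subset_closure (by simp)
    have hmemS : ∀ s ∈ ({u, k u, v, k v, z, k z} : Set T),
        s = u ∨ s = k u ∨ s = v ∨ s = k v ∨ s = z ∨ s = k z := fun s hs => hs
    obtain ⟨B, hB⟩ : ∃ B, Subgroup.closure ({u, k u, v, k v, z, k z} : Set T) = B := ⟨_, rfl⟩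
    rw [hB] at huB hkuB hvB hkvB hzB hkzB ⊢
    have hcenB : Subgroup.center T ≤ B := g.center_le z hz1 hz2 B hzB hkzB
    have hBk : ∀ x ∈ B, k x ∈ B := by
      rw [← hB]
      apply closure_aut_inv
      rw [hB]
      intro s hs
      rcases hmemS s hs with h | h | h | h | h | h
      · rw [h]; exact hkuB
      · rw [h]; exact g.kk_mem B hcenB _ huB hkuB
      · rw [h]; exact hkvB
      · rw [h]; exact g.kk_mem B hcenB _ hvB hkvB
      · rw [h]; exact hkzB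
      · rw [h]; exact hcenB (aut_center k hkzc)
    have hAB : Subgroup.closure ({u, k u, z, k z} : Set T) ≤ B := by
      rw [Subgroup.closure_le]
      intro s hs
      rcases hs with h | h | h | h
      · rw [h]; exact huB
      · rw [h]; exact hkuB
      · rw [h]; exact hzB
      · rw [h]; exact hkzB
    have hcard := g.cardR B hBk
    have hlt : 16 < Nat.card B := by
      by_contra hle
      push Not at hle
      have := Subgroup.eq_of_le_of_card_ge hAB (by rw [hA16]; exact hle)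
      exact hvA (by rw [this]; exact hvB)
    apply Subgroup.eq_top_of_card_eq
    rw [hT64]
    have hle := Subgroup.card_le_card_group B
    rw [hT64] at hle
    rcases hcard with h | h | h | h <;> omega

end GKfacts

/-- The normal form of a Suzuki 2-group with centre of order four. -/
theorem SD.exists_PD {T : Type u} [Group T] {K : Subgroup (MulAut T)} (h : SD T K)
    (hZ : Nat.card (Subgroup.center T) = 4) :
    ∃ g₁ g₂ g₃ g₄ z₁ z₂ : T, PD T g₁ g₂ g₃ g₄ z₁ z₂ := by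
  haveI := h.fin
  obtain ⟨k, hk, hk1⟩ := h.exists_k_ne_one
  have g : GK T K k := ⟨h, hZ, hk, hk1⟩
  obtain ⟨z, -, -, hz1, hz2, -, -⟩ := h.htwo
  have hzc := h.hci z hz2
  have hkzc := aut_center k hzc
  obtain ⟨x, y, hxy⟩ := h.hna
  have hx : x ∉ Subgroup.center T := fun hx => hxy (Subgroup.mem_center_iff.mp hx y).symm
  have hchoose : ∀ (R : Subgroup T), (∀ l ∈ K, ∀ r ∈ R, l r ∈ R) → ∀ w : T, w ∉ R →
      Subgroup.center T ≤ R → ∃ w' : T, w' ∉ R ∧ w' * w' = z := by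
    intro R hR w hw hcR
    have hw1 : w * w ≠ 1 := fun e => hw (hcR (h.hci w e))
    obtain ⟨l, hl, hlw⟩ := h.hex _ _ hw1 (h.hce _ (h.sq_central w)) hz1 hz2
    refine ⟨l w, fun hc => hw ?_, (map_mul l w w).symm.trans hlw⟩
    have := hR l⁻¹ (K.inv_mem hl) _ hc
    rwa [MulAut.inv_apply_self] at this
  obtain ⟨u, huc, hu⟩ := hchoose (Subgroup.center T) (fun l _ r hr => aut_center l hr) x hx le_rfl
  obtain ⟨hAk, hcenA, hA16, hT64⟩ := g.A_facts z hz1 hz2 u hu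
  have huA : u ∈ Subgroup.closure ({u, k u, z, k z} : Set T) :=
    Subgroup.subset_closure (by simp)
  have hkuA : k u ∈ Subgroup.closure ({u, k u, z, k z} : Set T) :=
    Subgroup.subset_closure (by simp)
  obtain ⟨A, hA⟩ : ∃ A, Subgroup.closure ({u, k u, z, k z} : Set T) = A := ⟨_, rfl⟩
  rw [hA] at hAk hcenA hA16 huA hkuA
  have hAtop : A ≠ ⊤ := by
    intro e
    have := Subgroup.card_top (G := T)
    rw [← e, hA16, hT64] at this
    omega
  obtain ⟨v₀, hv₀⟩ : ∃ v₀, v₀ ∉ A := by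
    by_contra hcon
    push Not at hcon
    exact hAtop ((Subgroup.eq_top_iff' A).mpr hcon)
  obtain ⟨v, hvA, hv⟩ := hchoose A (g.inv_all A hAk) v₀ hv₀ hcenA
  have hcm := h.cm_central
  have ha1 : cm u v ≠ 1 := by
    intro e
    apply hvA
    have h1 := sq_mul u v (hcm v u)
    rw [cm_symm u v, e, inv_one, mul_one, hu, hv, hz2] at h1
    have h2 := hcenA (h.hci _ h1)
    have e2 : v = u⁻¹ * (u * v) := by group
    rw [e2]; exact A.mul_mem (A.inv_mem huA) h2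
  have ha2 : cm u v ≠ z := by
    intro e
    apply hvA
    have h1 := sq_mul (k u) v (hcm v (k u))
    rw [cm_symm (k u) v, g.X u v, e, ← map_mul k u u, hu, hv] at h1
    have h3 : k z * z * (k (k z))⁻¹ = 1 := by
      have h4 : k (k z) = (z * k z)⁻¹ := eq_inv_of_mul_eq_one_right (g.Zk z hzc)
      rw [h4, inv_inv, ← mul_assoc, mul_assoc (k z) z z, hz2, mul_one, ← map_mul k z z, hz2,
        map_one]
    rw [h3] at h1
    have h2 := hcenA (h.hci _ h1)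
    have e2 : v = (k u)⁻¹ * (k u * v) := by group
    rw [e2]; exact A.mul_mem (A.inv_mem hkuA) h2
  rcases g.center_cases z hz1 hz2 _ (hcm u v) with e | e | e | e
  · exact absurd e ha1
  · exact absurd e ha2
  · exact ⟨u, k u, v, k v, z, k z, g.core z hz1 hz2 u v hu hv (by rw [hA]; exact hvA) e⟩
  · have hkk : k (k z) = z * k z := by
      have h1 : k (k z) = (z * k z)⁻¹ := eq_inv_of_mul_eq_one_right (g.Zk z hzc)
      rw [h1]; exact h.cinv _ (mul_mem hzc hkzc)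
    have g' := g.sq
    refine ⟨u, (k * k) u, v, (k * k) v, z, (k * k) z,
      g'.core z hz1 hz2 u v hu hv ?_ (e.trans hkk.symm)⟩
    intro hc
    apply hvA
    have hle : Subgroup.closure ({u, (k * k) u, z, (k * k) z} : Set T) ≤ A := by
      rw [Subgroup.closure_le]
      intro s hs
      rcases hs with h | h | h | h
      · rw [h]; exact huA
      · rw [h]; exact hAk _ hkuA
      · rw [h]; exact hcenA hzc
      · rw [h]; exact hcenA (aut_center k hkzc)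
    exact hle hc

/-- **Uniqueness**: two Suzuki 2-groups with centre of order four are isomorphic. -/
theorem SD.iso_of_center4 {T₁ : Type u} {T₂ : Type v} [Group T₁] [Group T₂]
    {K₁ : Subgroup (MulAut T₁)} {K₂ : Subgroup (MulAut T₂)} (h₁ : SD T₁ K₁) (h₂ : SD T₂ K₂)
    (hZ₁ : Nat.card (Subgroup.center T₁) = 4) (hZ₂ : Nat.card (Subgroup.center T₂) = 4) :
    Nonempty (T₁ ≃* T₂) := by
  obtain ⟨_, _, _, _, _, _, p₁⟩ := h₁.exists_PD hZ₁
  obtain ⟨_, _, _, _, _, _, p₂⟩ := h₂.exists_PD hZ₂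
  exact p₁.iso p₂

end Cfsg.Agent.Lib.Helper45.Hig
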