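import Mathlib
import Cfsg.Agent.Lib.Helper45.HigUniq

set_option autoImplicit false

namespace Cfsg.Agent.Lib.Helper45.G320

open Cfsg.Agent.Lib.Helper21.Suz2
open Cfsg.Agent.Lib.Helper45.Hig

universe u v

/-- If `K` normalises `H`, then `H ⊔ K` has at most `|H| |K|` elements. -/
theorem card_sup_le_mul {G : Type*} [Group G] [Finite G] (H K : Subgroup G)
    (hn : ∀ k ∈ K, ∀ h ∈ H, k * h * k⁻¹ ∈ H) :
    Nat.card ↥(H ⊔ K) ≤ Nat.card H * Nat.card K := by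
  let HK : Subgroup G :=
    { carrier := {x | ∃ h ∈ H, ∃ k ∈ K, x = h * k}
      one_mem' := ⟨1, H.one_mem, 1, K.one_mem, by simp⟩
      mul_mem' := by
        rintro x y ⟨h, hh, k, hk, rfl⟩ ⟨h', hh', k', hk', rfl⟩
        refine ⟨h * (k * h' * k⁻¹), H.mul_mem hh (hn k hk h' hh'), k * k', K.mul_mem hk hk', ?_⟩
        group
      inv_mem' := by
        rintro x ⟨h, hh, k, hk, rfl⟩
        refine ⟨k⁻¹ * h⁻¹ * k⁻¹⁻¹, hn k⁻¹ (K.inv_mem hk) h⁻¹ (H.inv_mem hh), k⁻¹, K.inv_mem hk, ?_⟩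
        group }
  have hle : H ⊔ K ≤ HK := by
    apply sup_le
    · intro h hh
      exact ⟨h, hh, 1, K.one_mem, by simp⟩
    · intro k hk
      exact ⟨1, H.one_mem, k, hk, by simp⟩
  have h1 := Subgroup.card_le_of_le hle
  let f : H × K → HK := fun p => ⟨p.1.1 * p.2.1, p.1.1, p.1.2, p.2.1, p.2.2, rfl⟩
  have hf : Function.Surjective f := by
    rintro ⟨x, h, hh, k, hk, rfl⟩
    exact ⟨(⟨h, hh⟩, ⟨k, hk⟩), rfl⟩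
  have h2 := Nat.card_le_card_of_surjective f hf
  rw [Nat.card_prod] at h2
  omega

/-- Generators and relations for the group of order 320. -/
structure GD (G : Type u) [Group G] (q x₀ x₁ x₂ x₃ c₁ c₂ : G) : Prop where
  hc₁ : c₁ ∈ Subgroup.center G
  hc₂ : c₂ ∈ Subgroup.center G
  hc₁2 : c₁ * c₁ = 1
  hc₂2 : c₂ * c₂ = 1
  s₀ : x₀ * x₀ = c₁ * c₂
  s₁ : x₁ * x₁ = c₁ * c₂
  s₂ : x₂ * x₂ = c₁ * c₂
  s₃ : x₃ * x₃ = c₁ * c₂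
  c₀₁ : cm x₀ x₁ = c₁
  c₁₂ : cm x₁ x₂ = c₁
  c₂₃ : cm x₂ x₃ = c₁
  c₀₂ : cm x₀ x₂ = c₂
  c₁₃ : cm x₁ x₃ = c₂
  c₀₃ : cm x₀ x₃ = c₂
  q5 : q ^ 5 = 1
  a₀ : q * x₀ * q⁻¹ = x₁
  a₁ : q * x₁ * q⁻¹ = x₂
  a₂ : q * x₂ * q⁻¹ = x₃
  a₃ : q * x₃ * q⁻¹ = (x₀ * x₁ * x₂ * x₃)⁻¹
  gen : Subgroup.closure ({q, x₀, x₁, x₂, x₃, c₁, c₂} : Set G) = ⊤
  card : Nat.card G = 320

/-- Two groups with the same presentation data are isomorphic. -/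
theorem GD.iso {G₁ : Type u} {G₂ : Type v} [Group G₁] [Group G₂] {q x₀ x₁ x₂ x₃ c₁ c₂ : G₁}
    {q' x₀' x₁' x₂' x₃' c₁' c₂' : G₂} (p : GD G₁ q x₀ x₁ x₂ x₃ c₁ c₂)
    (p' : GD G₂ q' x₀' x₁' x₂' x₃' c₁' c₂') : Nonempty (G₁ ≃* G₂) := by
  haveI : Finite G₁ := Nat.finite_of_card_ne_zero (by rw [p.card]; norm_num)
  haveI : Finite G₂ := Nat.finite_of_card_ne_zero (by rw [p'.card]; norm_num)
  have hc : ∀ (a : G₁) (b : G₂), a ∈ Subgroup.center G₁ → b ∈ Subgroup.center G₂ →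
      ((a, b) : G₁ × G₂) ∈ Subgroup.center (G₁ × G₂) := by
    intro a b ha hb
    rw [Subgroup.mem_center_iff]
    rintro ⟨x, y⟩
    exact Prod.ext (Subgroup.mem_center_iff.mp ha x) (Subgroup.mem_center_iff.mp hb y)
  obtain ⟨ζ₁, hζ₁⟩ : ∃ ζ₁ : G₁ × G₂, ζ₁ = (c₁, c₁') := ⟨_, rfl⟩
  obtain ⟨ζ₂, hζ₂⟩ : ∃ ζ₂ : G₁ × G₂, ζ₂ = (c₂, c₂') := ⟨_, rfl⟩
  obtain ⟨d₀, hd₀⟩ : ∃ d₀ : G₁ × G₂, d₀ = (x₀, x₀') := ⟨_, rfl⟩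
  obtain ⟨d₁, hd₁⟩ : ∃ d₁ : G₁ × G₂, d₁ = (x₁, x₁') := ⟨_, rfl⟩
  obtain ⟨d₂, hd₂⟩ : ∃ d₂ : G₁ × G₂, d₂ = (x₂, x₂') := ⟨_, rfl⟩
  obtain ⟨d₃, hd₃⟩ : ∃ d₃ : G₁ × G₂, d₃ = (x₃, x₃') := ⟨_, rfl⟩
  obtain ⟨r, hr⟩ : ∃ r : G₁ × G₂, r = (q, q') := ⟨_, rfl⟩
  have hζ₂c : ζ₂ ∈ Subgroup.center (G₁ × G₂) := by rw [hζ₂]; exact hc _ _ p.hc₂ p'.hc₂
  have hζ₁c : ζ₁ ∈ Subgroup.center (G₁ × G₂) := by rw [hζ₁]; exact hc _ _ p.hc₁ p'.hc₁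
  have hζ₁2 : ζ₁ * ζ₁ = 1 := by rw [hζ₁]; exact Prod.ext p.hc₁2 p'.hc₁2
  have hζ₂2 : ζ₂ * ζ₂ = 1 := by rw [hζ₂]; exact Prod.ext p.hc₂2 p'.hc₂2
  obtain ⟨N, hN⟩ : ∃ N, Subgroup.closure ({ζ₁, ζ₂} : Set (G₁ × G₂)) = N := ⟨_, rfl⟩
  have hN4 : Nat.card N ≤ 4 := by
    rw [← hN]; exact card_closure_pair ζ₁ ζ₂ hζ₂c hζ₁2 hζ₂2
  have hNc : N ≤ Subgroup.center (G₁ × G₂) := by
    rw [← hN, Subgroup.closure_le]
    rintro x (rfl | rfl)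
    · exact hζ₁c
    · exact hζ₂c
  have m₁ : ζ₁ ∈ N := by rw [← hN]; exact Subgroup.subset_closure (by simp)
  have m₂ : ζ₂ ∈ N := by rw [← hN]; exact Subgroup.subset_closure (by simp)
  have m₁₂ : ζ₁ * ζ₂ ∈ N := N.mul_mem m₁ m₂
  have s₀ : d₀ * d₀ = ζ₁ * ζ₂ := by rw [hd₀, hζ₁, hζ₂]; exact Prod.ext p.s₀ p'.s₀
  have s₁ : d₁ * d₁ = ζ₁ * ζ₂ := by rw [hd₁, hζ₁, hζ₂]; exact Prod.ext p.s₁ p'.s₁
  have s₂ : d₂ * d₂ = ζ₁ * ζ₂ := by rw [hd₂, hζ₁, hζ₂]; exact Prod.ext p.s₂ p'.s₂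
  have s₃ : d₃ * d₃ = ζ₁ * ζ₂ := by rw [hd₃, hζ₁, hζ₂]; exact Prod.ext p.s₃ p'.s₃
  have c₀₁ : cm d₀ d₁ = ζ₁ := by rw [hd₀, hd₁, hζ₁]; exact Prod.ext p.c₀₁ p'.c₀₁
  have c₁₂ : cm d₁ d₂ = ζ₁ := by rw [hd₁, hd₂, hζ₁]; exact Prod.ext p.c₁₂ p'.c₁₂
  have c₂₃ : cm d₂ d₃ = ζ₁ := by rw [hd₂, hd₃, hζ₁]; exact Prod.ext p.c₂₃ p'.c₂₃
  have c₀₂ : cm d₀ d₂ = ζ₂ := by rw [hd₀, hd₂, hζ₂]; exact Prod.ext p.c₀₂ p'.c₀₂
  have c₁₃ : cm d₁ d₃ = ζ₂ := by rw [hd₁, hd₃, hζ₂]; exact Prod.ext p.c₁₃ p'.c₁₃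
  have c₀₃ : cm d₀ d₃ = ζ₂ := by rw [hd₀, hd₃, hζ₂]; exact Prod.ext p.c₀₃ p'.c₀₃
  have sym : ∀ x y : G₁ × G₂, cm x y ∈ N → cm y x ∈ N := fun x y h => by
    rw [cm_symm x y]; exact N.inv_mem h
  have diag : ∀ x : G₁ × G₂, cm x x ∈ N := fun x => by rw [cm_self]; exact one_mem _
  have n₀₁ : cm d₀ d₁ ∈ N := by rw [c₀₁]; exact m₁
  have n₁₂ : cm d₁ d₂ ∈ N := by rw [c₁₂]; exact m₁
  have n₂₃ : cm d₂ d₃ ∈ N := by rw [c₂₃]; exact m₁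
  have n₀₂ : cm d₀ d₂ ∈ N := by rw [c₀₂]; exact m₂
  have n₁₃ : cm d₁ d₃ ∈ N := by rw [c₁₃]; exact m₂
  have n₀₃ : cm d₀ d₃ ∈ N := by rw [c₀₃]; exact m₂
  have hsq : ∀ d ∈ ({d₀, d₁, d₂, d₃} : Set (G₁ × G₂)), d * d ∈ N := by
    intro d hd
    rcases hd with h | h | h | h
    · rw [h, s₀]; exact m₁₂
    · rw [h, s₁]; exact m₁₂
    · rw [h, s₂]; exact m₁₂
    · rw [h, s₃]; exact m₁₂
  have hcm : ∀ d ∈ ({d₀, d₁, d₂, d₃} : Set (G₁ × G₂)),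
      ∀ d' ∈ ({d₀, d₁, d₂, d₃} : Set (G₁ × G₂)), cm d d' ∈ N := by
    intro d hd d' hd'
    rcases hd with h | h | h | h <;> rcases hd' with h' | h' | h' | h' <;> rw [h, h']
    all_goals first
      | exact diag _ | exact n₀₁ | exact n₁₂ | exact n₂₃ | exact n₀₂ | exact n₁₃ | exact n₀₃
      | exact sym _ _ n₀₁ | exact sym _ _ n₁₂ | exact sym _ _ n₂₃ | exact sym _ _ n₀₂
      | exact sym _ _ n₁₃ | exact sym _ _ n₀₃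
  obtain ⟨H, hNH, a₀, a₁, a₂, a₃, hH64⟩ := chain_bound N hNc hN4 d₀ d₁ d₂ d₃ hsq hcm
  obtain ⟨S, hS⟩ : ∃ S : Set (G₁ × G₂), S = {ζ₁, ζ₂, d₀, d₁, d₂, d₃} := ⟨_, rfl⟩
  obtain ⟨H₀, hH₀⟩ : ∃ H₀, Subgroup.closure S = H₀ := ⟨_, rfl⟩
  have hH₀H : H₀ ≤ H := by
    rw [← hH₀, Subgroup.closure_le, hS]
    rintro x (rfl | rfl | rfl | rfl | rfl | rfl)
    · exact hNH m₁
    · exact hNH m₂
    · exact a₀
    · exact a₁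
    · exact a₂
    · exact a₃
  have hH₀64 : Nat.card H₀ ≤ 64 := (Subgroup.card_le_of_le hH₀H).trans hH64
  have e₁ : ζ₁ ∈ H₀ := by rw [← hH₀]; exact Subgroup.subset_closure (by rw [hS]; simp)
  have e₂ : ζ₂ ∈ H₀ := by rw [← hH₀]; exact Subgroup.subset_closure (by rw [hS]; simp)
  have b₀ : d₀ ∈ H₀ := by rw [← hH₀]; exact Subgroup.subset_closure (by rw [hS]; simp)
  have b₁ : d₁ ∈ H₀ := by rw [← hH₀]; exact Subgroup.subset_closure (by rw [hS]; simp)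
  have b₂ : d₂ ∈ H₀ := by rw [← hH₀]; exact Subgroup.subset_closure (by rw [hS]; simp)
  have b₃ : d₃ ∈ H₀ := by rw [← hH₀]; exact Subgroup.subset_closure (by rw [hS]; simp)
  -- the action of `r`
  have r5 : r ^ 5 = 1 := by rw [hr]; exact Prod.ext p.q5 p'.q5
  have ra₀ : r * d₀ * r⁻¹ = d₁ := by rw [hr, hd₀, hd₁]; exact Prod.ext p.a₀ p'.a₀
  have ra₁ : r * d₁ * r⁻¹ = d₂ := by rw [hr, hd₁, hd₂]; exact Prod.ext p.a₁ p'.a₁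
  have ra₂ : r * d₂ * r⁻¹ = d₃ := by rw [hr, hd₂, hd₃]; exact Prod.ext p.a₂ p'.a₂
  have ra₃ : r * d₃ * r⁻¹ = (d₀ * d₁ * d₂ * d₃)⁻¹ := by
    rw [hr, hd₀, hd₁, hd₂, hd₃]; exact Prod.ext p.a₃ p'.a₃
  have rz : ∀ z ∈ Subgroup.center (G₁ × G₂), r * z * r⁻¹ = z := by
    intro z hz
    rw [Subgroup.mem_center_iff.mp hz r, mul_inv_cancel_right]
  have hrS : ∀ s ∈ S, (MulAut.conj r) s ∈ Subgroup.closure S := by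
    intro s hs
    rw [MulAut.conj_apply, hH₀]
    rw [hS] at hs
    rcases hs with h | h | h | h | h | h
    · rw [h, rz ζ₁ hζ₁c]; exact e₁
    · rw [h, rz ζ₂ hζ₂c]; exact e₂
    · rw [h, ra₀]; exact b₁
    · rw [h, ra₁]; exact b₂
    · rw [h, ra₂]; exact b₃
    · rw [h, ra₃]; exact H₀.inv_mem (H₀.mul_mem (H₀.mul_mem (H₀.mul_mem b₀ b₁) b₂) b₃)
  have hrH : ∀ h ∈ H₀, r * h * r⁻¹ ∈ H₀ := by
    intro h hh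
    have := closure_aut_inv (MulAut.conj r) S hrS h (by rw [hH₀]; exact hh)
    rw [MulAut.conj_apply, hH₀] at this
    exact this
  have hKn : ∀ k ∈ Subgroup.zpowers r, ∀ h ∈ H₀, k * h * k⁻¹ ∈ H₀ := by
    have hle : Subgroup.zpowers r ≤ Subgroup.normalizer (H₀ : Set (G₁ × G₂)) := by
      rw [Subgroup.zpowers_le, Subgroup.mem_normalizer_iff]
      intro h
      constructor
      · exact hrH h
      · intro hh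
        have h1 : ∀ n : ℕ, ∀ y ∈ H₀, r ^ n * y * (r ^ n)⁻¹ ∈ H₀ := by
          intro n
          induction n with
          | zero => intro y hy; simpa using hy
          | succ n ih =>
            intro y hy
            have e : r ^ (n + 1) * y * (r ^ (n + 1))⁻¹ = r ^ n * (r * y * r⁻¹) * (r ^ n)⁻¹ := by
              rw [pow_succ]; group
            rw [e]; exact ih _ (hrH y hy)
        have h2 := h1 4 _ hh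
        have e : r ^ 4 * (r * h * r⁻¹) * (r ^ 4)⁻¹ = r ^ 5 * h * (r ^ 5)⁻¹ := by group
        rw [e, r5] at h2
        simpa using h2
    intro k hk h hh
    exact (Subgroup.mem_normalizer_iff.mp (hle hk) h).mp hh
  have hK5 : Nat.card (Subgroup.zpowers r) ≤ 5 := by
    rw [Nat.card_zpowers]
    exact Nat.le_of_dvd (by norm_num) (orderOf_dvd_of_pow_eq_one r5)
  obtain ⟨D, hD⟩ : ∃ D, H₀ ⊔ Subgroup.zpowers r = D := ⟨_, rfl⟩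
  have hD320 : Nat.card D ≤ 320 := by
    rw [← hD]
    refine (card_sup_le_mul H₀ (Subgroup.zpowers r) hKn).trans ?_
    calc Nat.card H₀ * Nat.card (Subgroup.zpowers r) ≤ 64 * 5 := Nat.mul_le_mul hH₀64 hK5
      _ = 320 := by norm_num
  have hH₀D : H₀ ≤ D := by rw [← hD]; exact le_sup_left
  have hrD : r ∈ D := by
    rw [← hD]
    exact (le_sup_right : Subgroup.zpowers r ≤ H₀ ⊔ Subgroup.zpowers r) (Subgroup.mem_zpowers r)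
  have hs₁ : Function.Surjective ((MonoidHom.fst G₁ G₂).comp D.subtype) := by
    rw [← MonoidHom.range_eq_top, eq_top_iff, ← p.gen, Subgroup.closure_le]
    intro x hx
    rcases hx with h | h | h | h | h | h | h
    · exact ⟨⟨r, hrD⟩, by rw [h]; show r.1 = q; rw [hr]⟩
    · exact ⟨⟨d₀, hH₀D b₀⟩, by rw [h]; show d₀.1 = x₀; rw [hd₀]⟩
    · exact ⟨⟨d₁, hH₀D b₁⟩, by rw [h]; show d₁.1 = x₁; rw [hd₁]⟩
    · exact ⟨⟨d₂, hH₀D b₂⟩, by rw [h]; show d₂.1 = x₂; rw [hd₂]⟩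
    · exact ⟨⟨d₃, hH₀D b₃⟩, by rw [h]; show d₃.1 = x₃; rw [hd₃]⟩
    · exact ⟨⟨ζ₁, hH₀D e₁⟩, by rw [h]; show ζ₁.1 = c₁; rw [hζ₁]⟩
    · exact ⟨⟨ζ₂, hH₀D e₂⟩, by rw [h]; show ζ₂.1 = c₂; rw [hζ₂]⟩
  have hs₂ : Function.Surjective ((MonoidHom.snd G₁ G₂).comp D.subtype) := by
    rw [← MonoidHom.range_eq_top, eq_top_iff, ← p'.gen, Subgroup.closure_le]
    intro x hx
    rcases hx with h | h | h | h | h | h | h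
    · exact ⟨⟨r, hrD⟩, by rw [h]; show r.2 = q'; rw [hr]⟩
    · exact ⟨⟨d₀, hH₀D b₀⟩, by rw [h]; show d₀.2 = x₀'; rw [hd₀]⟩
    · exact ⟨⟨d₁, hH₀D b₁⟩, by rw [h]; show d₁.2 = x₁'; rw [hd₁]⟩
    · exact ⟨⟨d₂, hH₀D b₂⟩, by rw [h]; show d₂.2 = x₂'; rw [hd₂]⟩
    · exact ⟨⟨d₃, hH₀D b₃⟩, by rw [h]; show d₃.2 = x₃'; rw [hd₃]⟩
    · exact ⟨⟨ζ₁, hH₀D e₁⟩, by rw [h]; show ζ₁.2 = c₁'; rw [hζ₁]⟩
    · exact ⟨⟨ζ₂, hH₀D e₂⟩, by rw [h]; show ζ₂.2 = c₂'; rw [hζ₂]⟩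
  have hb₁ := hs₁.bijective_of_nat_card_le (by rw [p.card]; exact hD320)
  have hb₂ := hs₂.bijective_of_nat_card_le (by rw [p'.card]; exact hD320)
  exact ⟨(MulEquiv.ofBijective _ hb₁).symm.trans (MulEquiv.ofBijective _ hb₂)⟩

end Cfsg.Agent.Lib.Helper45.G320
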