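import Mathlib
import Cfsg.Agent.Lib.Helper45.HigUniq
import Cfsg.Agent.Lib.Helper73.DihedralIso

set_option autoImplicit false

namespace Cfsg.Agent.Lib.Helper45.Heis64

open Cfsg.Agent.Lib.Helper21.Suz2
open Cfsg.Agent.Lib.Helper45.Hig

universe u v

/-- Generators and relations for the Heisenberg group of order 64 over the field with four
elements. -/
structure HD (T : Type u) [Group T] (g₁ g₂ g₃ g₄ z₁ z₂ : T) : Prop where
  hz₁ : z₁ ∈ Subgroup.center T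
  hz₂ : z₂ ∈ Subgroup.center T
  hz₁2 : z₁ * z₁ = 1
  hz₂2 : z₂ * z₂ = 1
  s₁ : g₁ * g₁ = 1
  s₂ : g₂ * g₂ = 1
  s₃ : g₃ * g₃ = 1
  s₄ : g₄ * g₄ = 1
  c₁₂ : cm g₁ g₂ = 1
  c₃₄ : cm g₃ g₄ = 1
  c₁₃ : cm g₁ g₃ = z₁
  c₁₄ : cm g₁ g₄ = z₂
  c₂₃ : cm g₂ g₃ = z₂
  c₂₄ : cm g₂ g₄ = z₁ * z₂
  gen : Subgroup.closure ({g₁, g₂, g₃, g₄, z₁, z₂} : Set T) = ⊤
  card : Nat.card T = 64

/-- Two groups with the same presentation data are isomorphic. -/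
theorem HD.iso {T₁ : Type u} {T₂ : Type v} [Group T₁] [Group T₂] {g₁ g₂ g₃ g₄ z₁ z₂ : T₁}
    {g₁' g₂' g₃' g₄' z₁' z₂' : T₂} (p : HD T₁ g₁ g₂ g₃ g₄ z₁ z₂)
    (p' : HD T₂ g₁' g₂' g₃' g₄' z₁' z₂') : Nonempty (T₁ ≃* T₂) := by
  haveI : Finite T₁ := Nat.finite_of_card_ne_zero (by rw [p.card]; norm_num)
  haveI : Finite T₂ := Nat.finite_of_card_ne_zero (by rw [p'.card]; norm_num)
  have hc : ∀ (a : T₁) (b : T₂), a ∈ Subgroup.center T₁ → b ∈ Subgroup.center T₂ →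
      ((a, b) : T₁ × T₂) ∈ Subgroup.center (T₁ × T₂) := by
    intro a b ha hb
    rw [Subgroup.mem_center_iff]
    rintro ⟨x, y⟩
    exact Prod.ext (Subgroup.mem_center_iff.mp ha x) (Subgroup.mem_center_iff.mp hb y)
  obtain ⟨ζ₁, hζ₁⟩ : ∃ ζ₁ : T₁ × T₂, ζ₁ = (z₁, z₁') := ⟨_, rfl⟩
  obtain ⟨ζ₂, hζ₂⟩ : ∃ ζ₂ : T₁ × T₂, ζ₂ = (z₂, z₂') := ⟨_, rfl⟩
  obtain ⟨d₁, hd₁⟩ : ∃ d₁ : T₁ × T₂, d₁ = (g₁, g₁') := ⟨_, rfl⟩
  obtain ⟨d₂, hd₂⟩ : ∃ d₂ : T₁ × T₂, d₂ = (g₂, g₂') := ⟨_, rfl⟩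
  obtain ⟨d₃, hd₃⟩ : ∃ d₃ : T₁ × T₂, d₃ = (g₃, g₃') := ⟨_, rfl⟩
  obtain ⟨d₄, hd₄⟩ : ∃ d₄ : T₁ × T₂, d₄ = (g₄, g₄') := ⟨_, rfl⟩
  have hζ₂c : ζ₂ ∈ Subgroup.center (T₁ × T₂) := by rw [hζ₂]; exact hc _ _ p.hz₂ p'.hz₂
  have hζ₁c : ζ₁ ∈ Subgroup.center (T₁ × T₂) := by rw [hζ₁]; exact hc _ _ p.hz₁ p'.hz₁
  have hζ₁2 : ζ₁ * ζ₁ = 1 := by rw [hζ₁]; exact Prod.ext p.hz₁2 p'.hz₁2
  have hζ₂2 : ζ₂ * ζ₂ = 1 := by rw [hζ₂]; exact Prod.ext p.hz₂2 p'.hz₂2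
  obtain ⟨N, hN⟩ : ∃ N, Subgroup.closure ({ζ₁, ζ₂} : Set (T₁ × T₂)) = N := ⟨_, rfl⟩
  have hN4 : Nat.card N ≤ 4 := by
    rw [← hN]; exact card_closure_pair ζ₁ ζ₂ hζ₂c hζ₁2 hζ₂2
  have hNc : N ≤ Subgroup.center (T₁ × T₂) := by
    rw [← hN, Subgroup.closure_le]
    rintro x (rfl | rfl)
    · exact hζ₁c
    · exact hζ₂c
  have m₁ : ζ₁ ∈ N := by rw [← hN]; exact Subgroup.subset_closure (by simp)
  have m₂ : ζ₂ ∈ N := by rw [← hN]; exact Subgroup.subset_closure (by simp)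
  have s₁ : d₁ * d₁ = 1 := by rw [hd₁]; exact Prod.ext p.s₁ p'.s₁
  have s₂ : d₂ * d₂ = 1 := by rw [hd₂]; exact Prod.ext p.s₂ p'.s₂
  have s₃ : d₃ * d₃ = 1 := by rw [hd₃]; exact Prod.ext p.s₃ p'.s₃
  have s₄ : d₄ * d₄ = 1 := by rw [hd₄]; exact Prod.ext p.s₄ p'.s₄
  have c₁₂ : cm d₁ d₂ = 1 := by rw [hd₁, hd₂]; exact Prod.ext p.c₁₂ p'.c₁₂
  have c₃₄ : cm d₃ d₄ = 1 := by rw [hd₃, hd₄]; exact Prod.ext p.c₃₄ p'.c₃₄
  have c₁₃ : cm d₁ d₃ = ζ₁ := by rw [hd₁, hd₃, hζ₁]; exact Prod.ext p.c₁₃ p'.c₁₃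
  have c₁₄ : cm d₁ d₄ = ζ₂ := by rw [hd₁, hd₄, hζ₂]; exact Prod.ext p.c₁₄ p'.c₁₄
  have c₂₃ : cm d₂ d₃ = ζ₂ := by rw [hd₂, hd₃, hζ₂]; exact Prod.ext p.c₂₃ p'.c₂₃
  have c₂₄ : cm d₂ d₄ = ζ₁ * ζ₂ := by
    rw [hd₂, hd₄, hζ₁, hζ₂]; exact Prod.ext p.c₂₄ p'.c₂₄
  have sym : ∀ x y : T₁ × T₂, cm x y ∈ N → cm y x ∈ N := fun x y h => by
    rw [cm_symm x y]; exact N.inv_mem h
  have diag : ∀ x : T₁ × T₂, cm x x ∈ N := fun x => by rw [cm_self]; exact one_mem _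
  have n₁₂ : cm d₁ d₂ ∈ N := by rw [c₁₂]; exact one_mem _
  have n₃₄ : cm d₃ d₄ ∈ N := by rw [c₃₄]; exact one_mem _
  have n₁₃ : cm d₁ d₃ ∈ N := by rw [c₁₃]; exact m₁
  have n₁₄ : cm d₁ d₄ ∈ N := by rw [c₁₄]; exact m₂
  have n₂₃ : cm d₂ d₃ ∈ N := by rw [c₂₃]; exact m₂
  have n₂₄ : cm d₂ d₄ ∈ N := by rw [c₂₄]; exact N.mul_mem m₁ m₂
  have hsq : ∀ d ∈ ({d₁, d₂, d₃, d₄} : Set (T₁ × T₂)), d * d ∈ N := by
    intro d hd
    rcases hd with h | h | h | h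
    · rw [h, s₁]; exact one_mem _
    · rw [h, s₂]; exact one_mem _
    · rw [h, s₃]; exact one_mem _
    · rw [h, s₄]; exact one_mem _
  have hcm : ∀ d ∈ ({d₁, d₂, d₃, d₄} : Set (T₁ × T₂)),
      ∀ d' ∈ ({d₁, d₂, d₃, d₄} : Set (T₁ × T₂)), cm d d' ∈ N := by
    intro d hd d' hd'
    rcases hd with h | h | h | h <;> rcases hd' with h' | h' | h' | h' <;> rw [h, h']
    all_goals first
      | exact diag _ | exact n₁₂ | exact n₃₄ | exact n₁₃ | exact n₁₄ | exact n₂₃ | exact n₂₄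
      | exact sym _ _ n₁₂ | exact sym _ _ n₃₄ | exact sym _ _ n₁₃ | exact sym _ _ n₁₄
      | exact sym _ _ n₂₃ | exact sym _ _ n₂₄
  obtain ⟨H, hNH, a₁, a₂, a₃, a₄, hH64⟩ := chain_bound N hNc hN4 d₁ d₂ d₃ d₄ hsq hcm
  have b₁ : ζ₁ ∈ H := hNH m₁
  have b₂ : ζ₂ ∈ H := hNH m₂
  have hs₁ : Function.Surjective ((MonoidHom.fst T₁ T₂).comp H.subtype) := by
    rw [← MonoidHom.range_eq_top, eq_top_iff, ← p.gen, Subgroup.closure_le]
    intro x hx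
    rcases hx with h | h | h | h | h | h
    · exact ⟨⟨d₁, a₁⟩, by rw [h]; show d₁.1 = g₁; rw [hd₁]⟩
    · exact ⟨⟨d₂, a₂⟩, by rw [h]; show d₂.1 = g₂; rw [hd₂]⟩
    · exact ⟨⟨d₃, a₃⟩, by rw [h]; show d₃.1 = g₃; rw [hd₃]⟩
    · exact ⟨⟨d₄, a₄⟩, by rw [h]; show d₄.1 = g₄; rw [hd₄]⟩
    · exact ⟨⟨ζ₁, b₁⟩, by rw [h]; show ζ₁.1 = z₁; rw [hζ₁]⟩
    · exact ⟨⟨ζ₂, b₂⟩, by rw [h]; show ζ₂.1 = z₂; rw [hζ₂]⟩
  have hs₂ : Function.Surjective ((MonoidHom.snd T₁ T₂).comp H.subtype) := by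
    rw [← MonoidHom.range_eq_top, eq_top_iff, ← p'.gen, Subgroup.closure_le]
    intro x hx
    rcases hx with h | h | h | h | h | h
    · exact ⟨⟨d₁, a₁⟩, by rw [h]; show d₁.2 = g₁'; rw [hd₁]⟩
    · exact ⟨⟨d₂, a₂⟩, by rw [h]; show d₂.2 = g₂'; rw [hd₂]⟩
    · exact ⟨⟨d₃, a₃⟩, by rw [h]; show d₃.2 = g₃'; rw [hd₃]⟩
    · exact ⟨⟨d₄, a₄⟩, by rw [h]; show d₄.2 = g₄'; rw [hd₄]⟩
    · exact ⟨⟨ζ₁, b₁⟩, by rw [h]; show ζ₁.2 = z₁'; rw [hζ₁]⟩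
    · exact ⟨⟨ζ₂, b₂⟩, by rw [h]; show ζ₂.2 = z₂'; rw [hζ₂]⟩
  have hb₁ := hs₁.bijective_of_nat_card_le (by rw [p.card]; exact hH64)
  have hb₂ := hs₂.bijective_of_nat_card_le (by rw [p'.card]; exact hH64)
  exact ⟨(MulEquiv.ofBijective _ hb₁).symm.trans (MulEquiv.ofBijective _ hb₂)⟩

/-- Four distinct elements of a type with four elements exhaust it. -/
theorem four_exhaust {α : Type*} (hα : Nat.card α = 4) (a b c d : α) (hab : a ≠ b) (hac : a ≠ c)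
    (had : a ≠ d) (hbc : b ≠ c) (hbd : b ≠ d) (hcd : c ≠ d) (e : α) :
    e = a ∨ e = b ∨ e = c ∨ e = d := by
  classical
  haveI : Finite α := Nat.finite_of_card_ne_zero (by omega)
  letI := Fintype.ofFinite α
  have hs : ({a, b, c, d} : Finset α).card = 4 := by
    rw [Finset.card_insert_of_notMem, Finset.card_insert_of_notMem,
      Finset.card_insert_of_notMem, Finset.card_singleton]
    · simpa using hcd
    · simp [hbc, hbd]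
    · simp [hab, hac, had]
  have h1 := Finset.eq_univ_of_card _ (by rw [hs, ← Nat.card_eq_fintype_card, hα])
  have he : e ∈ ({a, b, c, d} : Finset α) := by rw [h1]; exact Finset.mem_univ e
  simpa using he

section Eight

variable {H : Type*} [Group H]

theorem sq_of_rel (u v ζ : H) (hζc : ∀ g : H, g * ζ = ζ * g) (hζ2 : ζ * ζ = 1)
    (huv : u * v = v * u * ζ) : (u * v) * (u * v) = (u * u) * (v * v) * ζ := by
  have hvu : v * u = u * v * ζ := by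
    calc v * u = v * u * (ζ * ζ) := by rw [hζ2, mul_one]
      _ = v * u * ζ * ζ := by simp only [mul_assoc]
      _ = u * v * ζ := by rw [← huv]
  calc u * v * (u * v) = u * (v * u) * v := by simp only [mul_assoc]
    _ = u * (u * v * ζ) * v := by rw [hvu]
    _ = (u * u) * v * (ζ * v) := by simp only [mul_assoc]
    _ = (u * u) * v * (v * ζ) := by rw [hζc v]
    _ = (u * u) * (v * v) * ζ := by simp only [mul_assoc]

theorem not_mem_zpowers_of_rel (u v ζ : H) (hζ1 : ζ ≠ 1) (huv : u * v = v * u * ζ) :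
    v ∉ Subgroup.zpowers u := by
  intro hmem
  obtain ⟨k, hk⟩ := Subgroup.mem_zpowers_iff.mp hmem
  have hcomm : u * v = v * u := by
    rw [← hk]
    exact ((Commute.refl u).zpow_right k).eq
  apply hζ1
  rw [hcomm] at huv
  exact mul_left_cancel (a := v * u) (by rw [mul_one]; exact huv.symm)

theorem d8_of [Finite H] (hH : Nat.card H = 8) (u v ζ : H) (hζc : ∀ g : H, g * ζ = ζ * g)
    (hζ2 : ζ * ζ = 1) (hζ1 : ζ ≠ 1) (huv : u * v = v * u * ζ) (hu : u * u = 1) (hv : v * v = 1) :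
    Nonempty (H ≃* DihedralGroup 4) := by
  haveI : Fact (Nat.Prime 2) := ⟨Nat.prime_two⟩
  have ha2 : (u * v) * (u * v) = ζ := by
    rw [sq_of_rel u v ζ hζc hζ2 huv, hu, hv, one_mul, one_mul]
  have ho : orderOf (u * v) = 2 ^ (1 + 1) := by
    apply orderOf_eq_prime_pow
    · rw [pow_one, pow_two, ha2]; exact hζ1
    · have e : (u * v) ^ 2 ^ (1 + 1) = ((u * v) * (u * v)) * ((u * v) * (u * v)) := by
        have e4 : (2 : ℕ) ^ (1 + 1) = 4 := by norm_num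
        rw [e4]
        simp only [pow_succ, pow_zero, one_mul, mul_assoc]
      rw [e, ha2, hζ2]
  have hui : u⁻¹ = u := inv_eq_of_mul_eq_one_left hu
  -- relation for the pair `(u * v, u)`
  have hrel : (u * v) * u = u * (u * v) * ζ := by
    have hvu : v * u = u * v * ζ := by
      calc v * u = v * u * (ζ * ζ) := by rw [hζ2, mul_one]
        _ = v * u * ζ * ζ := by simp only [mul_assoc]
        _ = u * v * ζ := by rw [← huv]
    calc u * v * u = u * (v * u) := by rw [mul_assoc]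
      _ = u * (u * v * ζ) := by rw [hvu]
      _ = u * (u * v) * ζ := by simp only [mul_assoc]
  apply Cfsg.Agent.Lib.Helper73.nonempty_mulEquiv_dihedralGroup 4 (u * v) u
  · rw [ho]; norm_num
  · rw [pow_two, hu]
  · rw [hui]
    symm
    apply inv_eq_of_mul_eq_one_right
    calc u * v * (u * (u * v) * u) = u * v * ((u * u) * v * u) := by simp only [mul_assoc]
      _ = u * (v * v) * u := by rw [hu, one_mul]; simp only [mul_assoc]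
      _ = 1 := by rw [hv, mul_one, hu]
  · exact not_mem_zpowers_of_rel (u * v) u ζ hζ1 hrel
  · rw [hH]

theorem q8_of [Finite H] (hH : Nat.card H = 8) (u v ζ : H) (hζc : ∀ g : H, g * ζ = ζ * g)
    (hζ2 : ζ * ζ = 1) (hζ1 : ζ ≠ 1) (huv : u * v = v * u * ζ) (hu : u * u = ζ) (hv : v * v = ζ) :
    Nonempty (H ≃* QuaternionGroup 2) := by
  haveI : Fact (Nat.Prime 2) := ⟨Nat.prime_two⟩
  have ho : orderOf u = 2 ^ (1 + 1) := by
    apply orderOf_eq_prime_pow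
    · rw [pow_one, pow_two, hu]; exact hζ1
    · have e : u ^ 2 ^ (1 + 1) = (u * u) * (u * u) := by
        have e4 : (2 : ℕ) ^ (1 + 1) = 4 := by norm_num
        rw [e4]
        simp only [pow_succ, pow_zero, one_mul, mul_assoc]
      rw [e, hu, hζ2]
  have hvu : v * u = u * v * ζ := by
    calc v * u = v * u * (ζ * ζ) := by rw [hζ2, mul_one]
      _ = v * u * ζ * ζ := by simp only [mul_assoc]
      _ = u * v * ζ := by rw [← huv]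
  apply Cfsg.Agent.Lib.Helper73.nonempty_mulEquiv_quaternionGroup 2 u v
  · rw [ho]; norm_num
  · rw [pow_two, pow_two, hu, hv]
  · apply eq_inv_of_mul_eq_one_left
    calc v * u * v⁻¹ * u = (u * v * ζ) * v⁻¹ * u := by rw [hvu]
      _ = u * (v * ζ) * v⁻¹ * u := by simp only [mul_assoc]
      _ = u * (ζ * v) * v⁻¹ * u := by rw [hζc v]
      _ = u * (ζ * u) := by group
      _ = u * (u * ζ) := by rw [hζc u]
      _ = (u * u) * ζ := by rw [mul_assoc]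
      _ = 1 := by rw [hu, hζ2]
  · exact not_mem_zpowers_of_rel u v ζ hζ1 huv
  · rw [hH]

/-- Normalising a pair of generators of a nonabelian group of order eight. -/
theorem pair_cases (u v ζ : H) (hζc : ∀ g : H, g * ζ = ζ * g) (hζ2 : ζ * ζ = 1)
    (huv : u * v = v * u * ζ) (hu : u * u = 1 ∨ u * u = ζ) (hv : v * v = 1 ∨ v * v = ζ) :
    (∃ u' v' : H, u' * v' = v' * u' * ζ ∧ u' * u' = 1 ∧ v' * v' = 1) ∨
      (u * u = ζ ∧ v * v = ζ) := by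
  have hsq := sq_of_rel u v ζ hζc hζ2 huv
  have hvu : v * u = u * v * ζ := by
    calc v * u = v * u * (ζ * ζ) := by rw [hζ2, mul_one]
      _ = v * u * ζ * ζ := by simp only [mul_assoc]
      _ = u * v * ζ := by rw [← huv]
  rcases hu with hu | hu <;> rcases hv with hv | hv
  · exact Or.inl ⟨u, v, huv, hu, hv⟩
  · refine Or.inl ⟨u, u * v, ?_, hu, ?_⟩
    · calc u * (u * v) = (u * u) * v * (ζ * ζ) := by rw [hζ2, mul_one, mul_assoc]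
        _ = u * (u * v * ζ) * ζ := by simp only [mul_assoc]
        _ = u * (v * u) * ζ := by rw [hvu]
        _ = u * v * u * ζ := by simp only [mul_assoc]
    · rw [hsq, hu, hv, one_mul, hζ2]
  · refine Or.inl ⟨u * v, v, ?_, ?_, hv⟩
    · calc u * v * v = u * (v * v) * (ζ * ζ) := by rw [hζ2, mul_one, mul_assoc]
        _ = u * v * (v * ζ) * ζ := by simp only [mul_assoc]
        _ = u * v * (ζ * v) * ζ := by rw [hζc v]
        _ = (u * v * ζ) * (v * ζ) := by simp only [mul_assoc]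
        _ = (v * u) * (v * ζ) := by rw [hvu]
        _ = v * (u * v) * ζ := by simp only [mul_assoc]
    · rw [hsq, hu, hv, mul_one, hζ2]
  · exact Or.inr ⟨hu, hv⟩

end Eight

end Cfsg.Agent.Lib.Helper45.Heis64
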