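import Mathlib
import Cfsg.Prelude.Def_LieRecognition
import Cfsg.Agent.Lib.Helper45.HermCenter
import Cfsg.Agent.Lib.Helper45.HermSigma
import Cfsg.Agent.Lib.Helper45.HermPlanes
import Cfsg.Agent.Lib.Helper45.U33L27

set_option autoImplicit false

namespace Cfsg.Agent.Lib.Helper45

open Matrix
open scoped commutatorElement

section SuzukiCoords

variable {F : Type*} [Field F] [Fintype F] {q : ℕ}

/-- The structure of a group with the coordinates of the Sylow 2-subgroup of `SU₃(q)`, `q` even. -/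
theorem suzuki_coords_structure (hF : Fintype.card F = q ^ 2) (hch : CharP F 2) (hq4 : 4 ≤ q)
    (hpow : ∃ m : ℕ, q = 2 ^ m) {T : Type*} [Group T]
    (c : T → F × F) (hinj : Function.Injective c)
    (hmul : ∀ x y, c (x * y) = ((c x).1 + (c y).1, (c x).2 + (c y).2 + (c x).1 ^ q * (c y).1))
    (hrange : ∀ a b : F, (∃ x, c x = (a, b)) ↔ b + b ^ q = a ^ (q + 1)) :
    Nat.card T = q ^ 3 ∧ Nat.card (Subgroup.center T) = q ∧ Cfsg.IsSuzukiTwoGroup T := by
  classical
  have h2 : ∀ x : F, x + x = 0 := fun x => CharTwo.add_self_eq_zero x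
  have h2F : (2 : F) = 0 := CharTwo.two_eq_zero
  have hsqinj : ∀ x y : F, x * x = y * y → x = y := by
    intro x y h
    have h0 : (x - y) * (x - y) = 0 := by linear_combination h + (y * y - x * y) * h2F
    have h1 := mul_self_eq_zero.mp h0
    exact sub_eq_zero.mp h1
  have hfin : Finite T := Finite.of_injective c hinj
  have hfst : ∀ x y, (c (x * y)).1 = (c x).1 + (c y).1 := fun x y => by rw [hmul]
  have hsnd : ∀ x y, (c (x * y)).2 = (c x).2 + (c y).2 + (c x).1 ^ q * (c y).1 :=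
    fun x y => by rw [hmul]
  have hq0 : q ≠ 0 := by omega
  have hc1a : (c 1).1 = 0 := by
    have h := hfst 1 1
    rw [mul_one, h2] at h
    exact h
  have hc1b : (c 1).2 = 0 := by
    have h := hsnd 1 1
    rw [mul_one, hc1a, h2, zero_pow hq0] at h
    rw [h]; ring
  have hcond : ∀ x, (c x).2 + (c x).2 ^ q = (c x).1 ^ (q + 1) := fun x => (hrange _ _).1 ⟨x, rfl⟩
  have hext : ∀ x y, (c x).1 = (c y).1 → (c x).2 = (c y).2 → x = y :=
    fun x y h1 h2 => hinj (Prod.ext h1 h2)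
  -- trace fibres
  have htr : ∀ a₀ : F, a₀ ^ q = a₀ → Nat.card {b : F // b + b ^ q = a₀} = q := by
    intro a₀ ha₀
    have h := card_trace_fiber hF (1 : F) a₀ one_ne_zero ha₀
    rw [Nat.card_eq_fintype_card, Fintype.card_subtype]
    refine Eq.trans ?_ h
    congr 1
    apply Finset.filter_congr
    intro b _
    rw [one_pow, mul_one, mul_one]
    constructor
    · intro hb
      linear_combination (-1 : F) * hb + (b ^ q + b) * h2F
    · intro hb
      linear_combination hb - a₀ * h2F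
  have hnorm : ∀ a : F, (a ^ (q + 1)) ^ q = a ^ (q + 1) := norm_fixed hF
  have hfib : ∀ a : F, Nat.card {x : T // (c x).1 = a} = q := by
    intro a
    refine Eq.trans ?_ (htr (a ^ (q + 1)) (hnorm a))
    apply Nat.card_congr
    refine Equiv.ofBijective
      (fun x => (⟨(c x.1).2, by have h := hcond x.1; rw [x.2] at h; exact h⟩ :
        {b : F // b + b ^ q = a ^ (q + 1)})) ⟨?_, ?_⟩
    · intro x y hxy
      have h := congrArg Subtype.val hxy
      exact Subtype.ext (hext _ _ (x.2.trans y.2.symm) h)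
    · rintro ⟨b, hb⟩
      obtain ⟨x, hx⟩ := (hrange a b).2 hb
      exact ⟨⟨x, by rw [hx]⟩, Subtype.ext (by show (c x).2 = b; rw [hx])⟩
  have hT : Nat.card T = q ^ 3 := by
    have h := card_eq_mul_of_fibers (fun x : T => (c x).1) q hfib
    rw [h, Nat.card_eq_fintype_card, hF]; ring
  have hsurj : ∀ a : F, ∃ x, (c x).1 = a := by
    intro a
    have h := hfib a
    have hne : Nonempty {x : T // (c x).1 = a} := by
      by_contra hne
      rw [not_nonempty_iff] at hne
      rw [Nat.card_of_isEmpty] at h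
      omega
    obtain ⟨x, hx⟩ := hne
    exact ⟨x, hx⟩
  have hnotfixed : ∃ a' : F, a' ^ q ≠ a' := by
    by_contra hall
    have hall' : ∀ b : F, b + b ^ q = 0 := by
      intro b
      have hb : b ^ q = b := by
        by_contra hb
        exact hall ⟨b, hb⟩
      rw [hb]; exact h2 b
    have h := htr 0 (zero_pow hq0)
    rw [Nat.card_congr (Equiv.subtypeUnivEquiv hall'), Nat.card_eq_fintype_card, hF] at h
    nlinarith
  -- the centre
  have hZ : ∀ x : T, x ∈ Subgroup.center T ↔ (c x).1 = 0 := by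
    intro x
    rw [Subgroup.mem_center_iff]
    constructor
    · intro hx
      have key : ∀ a' : F, a' ^ q * (c x).1 = (c x).1 ^ q * a' := by
        intro a'
        obtain ⟨y, hy⟩ := hsurj a'
        have h1 := hsnd y x
        have h2' := hsnd x y
        rw [hx y] at h1
        rw [h1, hy] at h2'
        linear_combination h2'
      have k1 := key 1
      obtain ⟨a', ha'⟩ := hnotfixed
      have k2 := key a'
      have e : (c x).1 ^ q = (c x).1 := by
        rw [one_pow, one_mul, mul_one] at k1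
        exact k1.symm
      have h0 : (a' ^ q - a') * (c x).1 = 0 := by
        rw [e] at k2
        linear_combination k2
      rcases mul_eq_zero.mp h0 with h | h
      · exact absurd (sub_eq_zero.mp h) ha'
      · exact h
    · intro hx y
      apply hext
      · rw [hfst, hfst, add_comm]
      · rw [hsnd, hsnd, hx, zero_pow hq0]; ring
  have hZcard : Nat.card (Subgroup.center T) = q := by
    refine Eq.trans ?_ (hfib 0)
    exact Nat.card_congr (Equiv.subtypeEquivRight (fun x => hZ x))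
  have hsq : ∀ x : T, (c (x * x)).1 = 0 := fun x => by rw [hfst, h2]
  have hsq2 : ∀ x : T, (c (x * x)).2 = (c x).1 ^ (q + 1) :=
    fun x => by rw [hsnd, h2, zero_add, pow_succ]
  have hone : ∀ x : T, (c x).1 = 0 → (c x).2 = 0 → x = 1 :=
    fun x h1 h2 => hext x 1 (h1.trans hc1a.symm) (h2.trans hc1b.symm)
  have hZsq : ∀ x : T, (c x).1 = 0 → x * x = 1 := by
    intro x hx
    apply hone
    · exact hsq x
    · rw [hsq2, hx, zero_pow (by omega)]
  have hinvol : ∀ x : T, x * x = 1 → (c x).1 = 0 := by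
    intro x hx
    have h5 := hsq2 x
    rw [hx, hc1b] at h5
    exact (pow_eq_zero_iff (by omega)).mp h5.symm
  have hfixed : ∀ x : T, (c x).1 = 0 → (c x).2 ^ q = (c x).2 := by
    intro x hx
    have h := hcond x
    rw [hx, zero_pow (by omega)] at h
    linear_combination h - (c x).2 * h2F
  -- Suzuki 2-group
  have hpg : IsPGroup 2 T := by
    obtain ⟨m, hm⟩ := hpow
    have hp : Fact (Nat.Prime 2) := ⟨Nat.prime_two⟩
    exact IsPGroup.of_card (n := m * 3) (by rw [hT, hm, ← pow_mul])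
  have hnonab : ∃ x y : T, x * y ≠ y * x := by
    by_contra hab
    have hall : ∀ x y : T, x * y = y * x := by
      intro x y
      by_contra hxy
      exact hab ⟨x, y, hxy⟩
    have htop : Subgroup.center T = ⊤ := by
      rw [Subgroup.eq_top_iff']
      intro x
      rw [Subgroup.mem_center_iff]
      intro g
      exact hall g x
    have h := hZcard
    rw [htop, Subgroup.card_top, hT] at h
    have hlt : q < q ^ 3 := by
      calc q = q ^ 1 := (pow_one q).symm
        _ < q ^ 3 := Nat.pow_lt_pow_right (by omega) (by norm_num)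
    omega
  have hinv2 : ∃ x y : T, x ≠ y ∧ x ≠ 1 ∧ x * x = 1 ∧ y ≠ 1 ∧ y * y = 1 := by
    have h := hfib 0
    let _ : Fintype {x : T // (c x).1 = 0} := Fintype.ofFinite _
    rw [Nat.card_eq_fintype_card] at h
    have h3 : 2 < Fintype.card {x : T // (c x).1 = 0} := by rw [h]; omega
    obtain ⟨u, v, w, huv, huw, hvw⟩ := Fintype.two_lt_card_iff.mp h3
    by_cases hu : u.1 = 1
    · have hv : v.1 ≠ 1 := fun hv => huv (Subtype.ext (hu.trans hv.symm))
      have hw : w.1 ≠ 1 := fun hw => huw (Subtype.ext (hu.trans hw.symm))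
      exact ⟨v.1, w.1, fun h => hvw (Subtype.ext h), hv, hZsq v.1 v.2, hw, hZsq w.1 w.2⟩
    · by_cases hv : v.1 = 1
      · have hw : w.1 ≠ 1 := fun hw => hvw (Subtype.ext (hv.trans hw.symm))
        exact ⟨u.1, w.1, fun h => huw (Subtype.ext h), hu, hZsq u.1 u.2, hw, hZsq w.1 w.2⟩
      · exact ⟨u.1, v.1, fun h => huv (Subtype.ext h), hu, hZsq u.1 u.2, hv, hZsq v.1 v.2⟩
  -- the torus automorphisms
  have hsc : ∀ (u : F) (t : T), ∃ t' : T, c t' = (u * (c t).1, u ^ (q + 1) * (c t).2) := by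
    intro u t
    rw [hrange]
    have h := hcond t
    have e1 : (u ^ (q + 1) * (c t).2) ^ q = u ^ (q + 1) * (c t).2 ^ q := by
      rw [mul_pow, hnorm]
    rw [e1, mul_pow, ← h]
    ring
  choose sc hscspec using hsc
  have hsc_mul : ∀ u x y, sc u (x * y) = sc u x * sc u y := by
    intro u x y
    apply hinj
    rw [hscspec, hmul, hmul, hscspec, hscspec]
    apply Prod.ext
    · show u * ((c x).1 + (c y).1) = u * (c x).1 + u * (c y).1
      ring
    · show u ^ (q + 1) * ((c x).2 + (c y).2 + (c x).1 ^ q * (c y).1) =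
        u ^ (q + 1) * (c x).2 + u ^ (q + 1) * (c y).2 + (u * (c x).1) ^ q * (u * (c y).1)
      ring
  have hsc_one : ∀ t, sc 1 t = t := by
    intro t
    apply hinj
    rw [hscspec, one_mul, one_pow, one_mul]
  have hsc_comp : ∀ u v t, sc (u * v) t = sc u (sc v t) := by
    intro u v t
    apply hinj
    rw [hscspec, hscspec, hscspec]
    apply Prod.ext
    · show u * v * (c t).1 = u * (v * (c t).1)
      ring
    · show (u * v) ^ (q + 1) * (c t).2 = u ^ (q + 1) * (v ^ (q + 1) * (c t).2)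
      ring
  let φ : Fˣ → MulAut T := fun u =>
    { toFun := sc (u : F)
      invFun := sc ((u⁻¹ : Fˣ) : F)
      left_inv := fun t => by rw [← hsc_comp, Units.inv_mul, hsc_one]
      right_inv := fun t => by rw [← hsc_comp, Units.mul_inv, hsc_one]
      map_mul' := hsc_mul (u : F) }
  have hφ : ∀ (u : Fˣ) (t : T), φ u t = sc (u : F) t := fun u t => rfl
  let Φ : Fˣ →* MulAut T :=
    { toFun := φ
      map_one' := by
        ext t
        show sc ((1 : Fˣ) : F) t = t
        rw [Units.val_one, hsc_one]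
      map_mul' := fun u v => by
        ext t
        show sc ((u * v : Fˣ) : F) t = sc (u : F) (sc (v : F) t)
        rw [Units.val_mul, hsc_comp] }
  have hΦ : ∀ (u : Fˣ) (t : T), Φ u t = sc (u : F) t := fun u t => rfl
  let K : Subgroup (MulAut T) := (Φ.comp (powMonoidHom (q + 1))).range
  have hKcyc : IsCyclic K :=
    isCyclic_of_surjective (Φ.comp (powMonoidHom (q + 1))).rangeRestrict
      (MonoidHom.rangeRestrict_surjective _)
  refine ⟨hT, hZcard, hfin, hpg, hnonab, hinv2, K, hKcyc, ?_⟩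
  intro x y hx1 hxx hy1 hyy
  have hxa := hinvol x hxx
  have hya := hinvol y hyy
  have hβ : (c x).2 ≠ 0 := fun h0 => hx1 (hone x hxa h0)
  have hβ' : (c y).2 ≠ 0 := fun h0 => hy1 (hone y hya h0)
  have hβq := hfixed x hxa
  have hβ'q := hfixed y hya
  obtain ⟨u, hu⟩ := FiniteField.isSquare_of_char_two (ringChar.eq F 2) ((c y).2 / (c x).2)
  have hu0 : u ≠ 0 := by
    rintro rfl
    rw [mul_zero] at hu
    exact div_ne_zero hβ' hβ hu
  have huq : u ^ q = u := by
    apply hsqinj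
    rw [← mul_pow, ← hu, div_pow, hβ'q, hβq]
  have huβ : u * u * (c x).2 = (c y).2 := by
    rw [← hu, div_mul_cancel₀ _ hβ]
  have hne : Nonempty {v : F // v ^ (q + 1) = u} := by
    by_contra hne
    rw [not_nonempty_iff] at hne
    have h := norm_fiber_card hF u hu0 huq
    rw [Nat.card_of_isEmpty] at h
    omega
  obtain ⟨v, hv⟩ := hne
  have hv0 : v ≠ 0 := by
    rintro rfl
    rw [zero_pow (by omega)] at hv
    exact hu0 hv.symm
  have hnormsq : ∀ w : F, w ^ q = w → w ^ (q + 1) = w * w := by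
    intro w hw
    rw [pow_succ, hw]
  have hK : ∀ w : Fˣ, ((Φ.comp (powMonoidHom (q + 1))) w) x = y ↔ ((w : F) ^ (q + 1)) = u := by
    intro w
    have hact : ((Φ.comp (powMonoidHom (q + 1))) w) x = sc ((w : F) ^ (q + 1)) x := by
      show sc (((w ^ (q + 1) : Fˣ)) : F) x = _
      rw [Units.val_pow_eq_pow_val]
    rw [hact]
    have hn2 : ((w : F) ^ (q + 1)) ^ (q + 1) = (w : F) ^ (q + 1) * (w : F) ^ (q + 1) :=
      hnormsq _ (hnorm _)
    constructor
    · intro h
      have h1 := congrArg (fun p => (c p).2) h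
      simp only [hscspec] at h1
      rw [hn2, ← huβ] at h1
      exact hsqinj _ _ (mul_right_cancel₀ hβ h1)
    · intro h
      apply hext
      · rw [hscspec]
        show (w : F) ^ (q + 1) * (c x).1 = (c y).1
        rw [hxa, hya, mul_zero]
      · rw [hscspec]
        show ((w : F) ^ (q + 1)) ^ (q + 1) * (c x).2 = (c y).2
        rw [hn2, h, huβ]
  refine ⟨⟨(Φ.comp (powMonoidHom (q + 1))) (Units.mk0 v hv0), ⟨Units.mk0 v hv0, rfl⟩⟩, ?_, ?_⟩
  · show ((Φ.comp (powMonoidHom (q + 1))) (Units.mk0 v hv0)) x = y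
    rw [hK]
    exact hv
  · rintro ⟨k, w, rfl⟩ hk
    have hk' : ((Φ.comp (powMonoidHom (q + 1))) w) x = y := hk
    rw [hK] at hk'
    apply Subtype.ext
    show Φ (w ^ (q + 1)) = Φ ((Units.mk0 v hv0) ^ (q + 1))
    congr 1
    apply Units.ext
    rw [Units.val_pow_eq_pow_val, Units.val_pow_eq_pow_val, hk']
    exact hv.symm

end SuzukiCoords

section UnipotentEven

variable {F : Type*} [Field F]

/-- The unipotent elements fixing the isotropic vector `(1, 1, 0)` (with `a'` standing for `a ^ q`). -/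
def mU3 (a a' b : F) : Matrix (Fin 3) (Fin 3) F := !![1 + b, b, a'; b, 1 + b, a'; a, a, 1]

theorem mU3_det [CharP F 2] (a a' b : F) : (mU3 a a' b).det = 1 := by
  rw [Matrix.det_fin_three]
  simp [mU3]
  grind

theorem mU3_gram_aux [CharP F 2] (a a' b b' : F) (h : b + b' = a * a') :
    (mU3 a a' b)ᵀ * mU3 a' a b' = 1 := by
  ext i j
  fin_cases i <;> fin_cases j <;> simp [mU3, Matrix.mul_apply, Fin.sum_univ_three] <;> grind

theorem mU3_mul [CharP F 2] (a a' b c c' d : F) :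
    mU3 a a' b * mU3 c c' d = mU3 (a + c) (a' + c') (b + d + a' * c) := by
  ext i j
  fin_cases i <;> fin_cases j <;> simp [mU3, Matrix.mul_apply, Fin.sum_univ_three] <;> grind

theorem mU3_zero : mU3 (0 : F) 0 0 = 1 := by
  ext i j
  fin_cases i <;> fin_cases j <;> simp [mU3]

theorem mU3_fst (a a' b : F) : mU3 a a' b 2 0 = a := by simp [mU3]

theorem mU3_snd (a a' b : F) : mU3 a a' b 0 1 = b := by simp [mU3]

variable [Fintype F] {q : ℕ}

theorem mU3_map (hF : Fintype.card F = q ^ 2) (a a' b : F) :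
    (mU3 a a' b).map (fun x => x ^ q) = mU3 (a ^ q) (a' ^ q) (b ^ q) := by
  ext i j
  fin_cases i <;> fin_cases j <;> simp [mU3, conj_add hF]

theorem mU3_gram [CharP F 2] (hF : Fintype.card F = q ^ 2) (a b : F)
    (h : b + b ^ q = a ^ (q + 1)) :
    (mU3 a (a ^ q) b)ᵀ * (mU3 a (a ^ q) b).map (fun x => x ^ q) = 1 := by
  rw [mU3_map hF, conj_conj hF]
  apply mU3_gram_aux
  rw [h, pow_succ, mul_comm]

/-- The unipotent subgroup of `SU₃(q)`, `q` even. -/
def unipU3 (hF : Fintype.card F = q ^ 2) (hch : CharP F 2) : Subgroup ↥(Cfsg.SU 3 F q) where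
  carrier := {g | ∃ a b : F, b + b ^ q = a ^ (q + 1) ∧
    (g.1.1 : Matrix (Fin 3) (Fin 3) F) = mU3 a (a ^ q) b}
  mul_mem' := by
    rintro g g' ⟨a, b, hab, hg⟩ ⟨a', b', hab', hg'⟩
    refine ⟨a + a', b + b' + a ^ q * a', ?_, ?_⟩
    · rw [conj_add hF, conj_add hF, mul_pow, conj_conj hF]
      have e : (a + a') ^ (q + 1) = a ^ (q + 1) + a ^ q * a' + a * a' ^ q + a' ^ (q + 1) := by
        rw [pow_succ, conj_add hF]; ring
      rw [e, ← hab, ← hab']
      ring
    · show (g.1.1 : Matrix (Fin 3) (Fin 3) F) * g'.1.1 = _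
      rw [hg, hg', mU3_mul, conj_add hF]
  one_mem' := by
    have hq0 : q ≠ 0 := by have := two_le_q hF; omega
    refine ⟨0, 0, by rw [zero_pow hq0, zero_pow (by omega)]; ring, ?_⟩
    rw [zero_pow hq0]
    exact mU3_zero.symm
  inv_mem' := by
    rintro g ⟨a, b, hab, hg⟩
    have h2F : (2 : F) = 0 := CharTwo.two_eq_zero
    have hab' : b ^ q + (b ^ q) ^ q = a ^ (q + 1) := by
      rw [conj_conj hF, ← hab]; ring
    let g' : ↥(Cfsg.SU 3 F q) := mkSU hF (mU3 a (a ^ q) (b ^ q)) (mU3_det _ _ _)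
      (mU3_gram hF a (b ^ q) hab')
    have hgg' : g * g' = 1 := by
      apply su_ext
      show (g.1.1 : Matrix (Fin 3) (Fin 3) F) * mU3 a (a ^ q) (b ^ q) = 1
      rw [hg, mU3_mul, ← mU3_zero]
      congr 1
      · exact CharTwo.add_self_eq_zero a
      · exact CharTwo.add_self_eq_zero _
      · have e : a ^ q * a = a ^ (q + 1) := by rw [pow_succ]
        rw [e, ← hab]
        linear_combination (b + b ^ q) * h2F
    rw [inv_eq_of_mul_eq_one_right hgg']
    exact ⟨a, b ^ q, hab', rfl⟩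

/-- Coordinates on the unipotent subgroup. -/
def unipCoord3 (hF : Fintype.card F = q ^ 2) (hch : CharP F 2) (g : ↥(unipU3 hF hch)) : F × F :=
  ((g.1.1.1 : Matrix (Fin 3) (Fin 3) F) 2 0, (g.1.1.1 : Matrix (Fin 3) (Fin 3) F) 0 1)

theorem unipCoord3_spec (hF : Fintype.card F = q ^ 2) (hch : CharP F 2) (g : ↥(unipU3 hF hch)) :
    (unipCoord3 hF hch g).2 + (unipCoord3 hF hch g).2 ^ q = (unipCoord3 hF hch g).1 ^ (q + 1) ∧
      (g.1.1.1 : Matrix (Fin 3) (Fin 3) F) =
        mU3 (unipCoord3 hF hch g).1 ((unipCoord3 hF hch g).1 ^ q) (unipCoord3 hF hch g).2 := by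
  obtain ⟨a, b, hab, hg⟩ := g.2
  have h1 : (unipCoord3 hF hch g).1 = a := by
    show (g.1.1.1 : Matrix (Fin 3) (Fin 3) F) 2 0 = a
    rw [hg, mU3_fst]
  have h2 : (unipCoord3 hF hch g).2 = b := by
    show (g.1.1.1 : Matrix (Fin 3) (Fin 3) F) 0 1 = b
    rw [hg, mU3_snd]
  rw [h1, h2]
  exact ⟨hab, hg⟩

theorem unipCoord3_injective (hF : Fintype.card F = q ^ 2) (hch : CharP F 2) :
    Function.Injective (unipCoord3 hF hch) := by
  intro g g' h
  apply Subtype.ext
  apply su_ext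
  rw [(unipCoord3_spec hF hch g).2, (unipCoord3_spec hF hch g').2, h]

theorem unipCoord3_mul (hF : Fintype.card F = q ^ 2) (hch : CharP F 2) (g g' : ↥(unipU3 hF hch)) :
    unipCoord3 hF hch (g * g') = ((unipCoord3 hF hch g).1 + (unipCoord3 hF hch g').1,
      (unipCoord3 hF hch g).2 + (unipCoord3 hF hch g').2 +
        (unipCoord3 hF hch g).1 ^ q * (unipCoord3 hF hch g').1) := by
  have hm : ((g * g').1.1.1 : Matrix (Fin 3) (Fin 3) F) =
      mU3 ((unipCoord3 hF hch g).1 + (unipCoord3 hF hch g').1)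
        ((unipCoord3 hF hch g).1 ^ q + (unipCoord3 hF hch g').1 ^ q)
        ((unipCoord3 hF hch g).2 + (unipCoord3 hF hch g').2 +
          (unipCoord3 hF hch g).1 ^ q * (unipCoord3 hF hch g').1) := by
    show (g.1.1.1 : Matrix (Fin 3) (Fin 3) F) * g'.1.1.1 = _
    rw [(unipCoord3_spec hF hch g).2, (unipCoord3_spec hF hch g').2, mU3_mul]
  apply Prod.ext
  · show ((g * g').1.1.1 : Matrix (Fin 3) (Fin 3) F) 2 0 = _
    rw [hm, mU3_fst]
  · show ((g * g').1.1.1 : Matrix (Fin 3) (Fin 3) F) 0 1 = _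
    rw [hm, mU3_snd]

theorem unipCoord3_range (hF : Fintype.card F = q ^ 2) (hch : CharP F 2) (a b : F) :
    (∃ g, unipCoord3 hF hch g = (a, b)) ↔ b + b ^ q = a ^ (q + 1) := by
  constructor
  · rintro ⟨g, hg⟩
    have h := (unipCoord3_spec hF hch g).1
    rw [hg] at h
    exact h
  · intro hab
    refine ⟨⟨mkSU hF (mU3 a (a ^ q) b) (mU3_det _ _ _) (mU3_gram hF a b hab),
      ⟨a, b, hab, rfl⟩⟩, ?_⟩
    apply Prod.ext
    · show mU3 a (a ^ q) b 2 0 = a
      exact mU3_fst _ _ _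
    · show mU3 a (a ^ q) b 0 1 = b
      exact mU3_snd _ _ _

/-- The Sylow 2-subgroups of `PSU₃(2ⁿ)`, `n ≥ 2`, are Suzuki 2-groups. -/
theorem psu3_even_sylow_structure {n : ℕ} (hn : 2 ≤ n) (hF : Fintype.card F = (2 ^ n) ^ 2)
    (S : Sylow 2 (Cfsg.PSU 3 F (2 ^ n))) :
    Nat.card S = (2 ^ n) ^ 3 ∧
      Nat.card (Subgroup.center ↥(S : Subgroup (Cfsg.PSU 3 F (2 ^ n)))) = 2 ^ n ∧
      Cfsg.IsSuzukiTwoGroup ↥(S : Subgroup (Cfsg.PSU 3 F (2 ^ n))) := by
  classical
  have hp : Fact (Nat.Prime 2) := ⟨Nat.prime_two⟩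
  have hq4 : 4 ≤ 2 ^ n := by
    calc 4 = 2 ^ 2 := by norm_num
      _ ≤ 2 ^ n := Nat.pow_le_pow_right (by norm_num) hn
  have hch : CharP F 2 := by
    obtain ⟨p, k, hpp, hchar, hq⟩ := q_prime_pow hF
    have hdvd : p ∣ 2 ^ n := by
      have hk : k ≠ 0 := by
        rintro rfl
        rw [pow_zero] at hq
        omega
      rw [hq]
      exact dvd_pow_self p hk
    have hp2 : p = 2 := (Nat.prime_dvd_prime_iff_eq hpp Nat.prime_two).mp
      (hpp.dvd_of_dvd_pow hdvd)
    rw [hp2] at hchar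
    exact hchar
  -- orders
  have hSUcard := card_SU hF 3 (by norm_num)
  have hfinSU : Finite ↥(Cfsg.SU 3 F (2 ^ n)) := inferInstance
  have hfinP : Finite (Cfsg.PSU 3 F (2 ^ n)) := inferInstance
  have hPdvd : Nat.card (Cfsg.PSU 3 F (2 ^ n)) ∣ Nat.card ↥(Cfsg.SU 3 F (2 ^ n)) :=
    Dvd.intro _ (Subgroup.card_eq_card_quotient_mul_card_subgroup
      (Subgroup.center ↥(Cfsg.SU 3 F (2 ^ n)))).symm
  have hSUdvd : Nat.card ↥(Cfsg.SU 3 F (2 ^ n)) ∣
      (2 ^ n) ^ 3 * ((2 ^ n + 1) * ((2 ^ n) ^ 2 - 1) * ((2 ^ n) ^ 3 + 1)) := by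
    refine Dvd.intro_left (2 ^ n + 1) ?_
    rw [hSUcard]
    simp [Finset.prod_range_succ]
  have hodd : Nat.Coprime 2 ((2 ^ n + 1) * ((2 ^ n) ^ 2 - 1) * ((2 ^ n) ^ 3 + 1)) := by
    rw [Nat.coprime_two_left]
    have he : Even (2 ^ n) := (Nat.even_pow.mpr ⟨even_two, by omega⟩)
    have h1 : Odd (2 ^ n + 1) := he.add_one
    have h2 : Odd ((2 ^ n) ^ 2 - 1) := by
      have he2 : Even ((2 ^ n) ^ 2) := Nat.even_pow.mpr ⟨he, by norm_num⟩
      have hpos : 1 ≤ (2 ^ n) ^ 2 := Nat.one_le_pow _ _ (by omega)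
      obtain ⟨r, hr⟩ := he2
      exact ⟨r - 1, by omega⟩
    have h3 : Odd ((2 ^ n) ^ 3 + 1) := (Nat.even_pow.mpr ⟨he, by norm_num⟩).add_one
    exact (h1.mul h2).mul h3
  -- the unipotent subgroup
  have hU := suzuki_coords_structure hF hch hq4 ⟨n, rfl⟩ (unipCoord3 hF hch)
    (unipCoord3_injective hF hch) (unipCoord3_mul hF hch) (unipCoord3_range hF hch)
  have hUcard : Nat.card ↥(unipU3 hF hch) = (2 ^ n) ^ 3 := hU.1
  let π : ↥(Cfsg.SU 3 F (2 ^ n)) →* Cfsg.PSU 3 F (2 ^ n) :=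
    QuotientGroup.mk' (Subgroup.center (↥(Cfsg.SU 3 F (2 ^ n))))
  let f : ↥(unipU3 hF hch) →* Cfsg.PSU 3 F (2 ^ n) := π.comp (unipU3 hF hch).subtype
  have hcen : Nat.card (Subgroup.center (Cfsg.SU 3 F (2 ^ n))) ∣ 3 := by
    rw [card_center_SU hF 3 (by norm_num)]
    exact Nat.gcd_dvd_left _ _
  have hdisj : unipU3 hF hch ⊓ Subgroup.center (↥(Cfsg.SU 3 F (2 ^ n))) = ⊥ := by
    apply Subgroup.inf_eq_bot_of_coprime
    rw [hUcard]
    have h3 : Nat.Coprime ((2 ^ n) ^ 3) 3 := by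
      apply Nat.Coprime.pow_left
      apply Nat.Coprime.pow_left
      norm_num
    exact Nat.Coprime.coprime_dvd_right hcen h3
  have hfinj : Function.Injective f := by
    rw [injective_iff_map_eq_one]
    intro g hg
    have h1 : (g : ↥(Cfsg.SU 3 F (2 ^ n))) ∈ Subgroup.center (↥(Cfsg.SU 3 F (2 ^ n))) :=
      (QuotientGroup.eq_one_iff _).mp hg
    have h2 : (g : ↥(Cfsg.SU 3 F (2 ^ n))) ∈
        unipU3 hF hch ⊓ Subgroup.center (↥(Cfsg.SU 3 F (2 ^ n))) := ⟨g.2, h1⟩
    rw [hdisj, Subgroup.mem_bot] at h2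
    exact Subtype.ext h2
  have hS0 : Nat.card ↥f.range = (2 ^ n) ^ 3 := by
    rw [← hUcard]
    exact (Nat.card_congr (MonoidHom.ofInjective hfinj).toEquiv).symm
  have hS0p : IsPGroup 2 ↥f.range :=
    IsPGroup.of_card (n := n * 3) (by rw [hS0, ← pow_mul])
  obtain ⟨Q, hQ⟩ := hS0p.exists_le_sylow
  obtain ⟨m, hm⟩ := IsPGroup.exists_card_eq Q.isPGroup'
  have hQle : Nat.card ↥(Q : Subgroup (Cfsg.PSU 3 F (2 ^ n))) ≤ (2 ^ n) ^ 3 := by
    have hQdvd : Nat.card ↥(Q : Subgroup (Cfsg.PSU 3 F (2 ^ n))) ∣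
        (2 ^ n) ^ 3 * ((2 ^ n + 1) * ((2 ^ n) ^ 2 - 1) * ((2 ^ n) ^ 3 + 1)) :=
      ((Subgroup.card_subgroup_dvd_card _).trans hPdvd).trans hSUdvd
    rw [hm] at hQdvd ⊢
    have hcop : Nat.Coprime (2 ^ m) ((2 ^ n + 1) * ((2 ^ n) ^ 2 - 1) * ((2 ^ n) ^ 3 + 1)) :=
      Nat.Coprime.pow_left m hodd
    exact Nat.le_of_dvd (by positivity) (hcop.dvd_of_dvd_mul_right hQdvd)
  have hQeq : f.range = (Q : Subgroup (Cfsg.PSU 3 F (2 ^ n))) :=
    Subgroup.eq_of_le_of_card_ge hQ (by rw [hS0]; exact hQle)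
  let ψ : ↥(S : Subgroup (Cfsg.PSU 3 F (2 ^ n))) ≃* ↥(unipU3 hF hch) :=
    ((Sylow.equiv S Q).trans (MulEquiv.subgroupCongr hQeq.symm)).trans
      (MonoidHom.ofInjective hfinj).symm
  have key := suzuki_coords_structure hF hch hq4 ⟨n, rfl⟩
    (T := ↥(S : Subgroup (Cfsg.PSU 3 F (2 ^ n))))
    (fun x => unipCoord3 hF hch (ψ x))
    ((unipCoord3_injective hF hch).comp ψ.injective)
    (fun x y => by
      show unipCoord3 hF hch (ψ (x * y)) = _
      rw [map_mul, unipCoord3_mul])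
    (fun a b => by
      rw [← unipCoord3_range hF hch a b]
      constructor
      · rintro ⟨x, hx⟩
        exact ⟨ψ x, hx⟩
      · rintro ⟨g, hg⟩
        exact ⟨ψ.symm g, by
          show unipCoord3 hF hch (ψ (ψ.symm g)) = _
          rw [ψ.apply_symm_apply, hg]⟩)
  exact key

end UnipotentEven

end Cfsg.Agent.Lib.Helper45
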