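-- helper45: package LemGen of S4359 (for helper49): in a shunt situation the interval subgroups
-- are generated by the shifts of a nonidentity element of `Qv P g t 0 1`.
import Mathlib
import Cfsg.Agent.Lib.Helper49.Shunt.ShDefs

set_option autoImplicit false

namespace Cfsg.Agent.Lib.Helper45.Shunt

open Cfsg.Agent.Lib.Helper49.Shunt

universe u

theorem lemGen : Cfsg.Agent.Lib.Helper49.Shunt.LemGen.{u} := by
  intro G _ _ P g p t hS x hx hx1 a ℓ
  induction ℓ with
  | zero =>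
    intro _
    rw [Qv_zero hS a]
    symm
    rw [Subgroup.closure_eq_bot_iff]
    intro y hy
    obtain ⟨i, h1, h2, _⟩ := hy
    exfalso
    push_cast at h2
    omega
  | succ ℓ ih =>
    intro hℓ
    have ih' := ih (by omega)
    obtain ⟨C, hC⟩ : ∃ C : Subgroup G, C = Subgroup.closure
        {y | ∃ i : ℤ, a ≤ i ∧ i < a + ((ℓ + 1 : ℕ) : ℤ) ∧ y = xs g x i} := ⟨_, rfl⟩
    rw [← hC]
    have hCle : C ≤ Qv P g t a (ℓ + 1) := by
      rw [hC, Subgroup.closure_le]
      rintro y ⟨i, h1, h2, rfl⟩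
      exact xs_mem_of_le hx h1 h2
    have hQle : Qv P g t a ℓ ≤ C := by
      rw [ih', hC]
      apply Subgroup.closure_mono
      rintro y ⟨i, h1, h2, rfl⟩
      exact ⟨i, h1, by push_cast; omega, rfl⟩
    have hxC : xs g x (a + ℓ) ∈ C := by
      rw [hC]
      apply Subgroup.subset_closure
      exact ⟨a + ℓ, by omega, by push_cast; omega, rfl⟩
    have hxn : xs g x (a + ℓ) ∉ Qv P g t a ℓ := by
      intro hmem
      have h1 : xs g x (a + ℓ) ∈ Qv P g t a ℓ ⊓ Qv P g t (a + ℓ) 1 :=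
        Subgroup.mem_inf.mpr ⟨hmem, xs_mem hx _⟩
      rw [Qv_disj hS a (by omega), Subgroup.mem_bot] at h1
      exact xs_ne_one hx1 _ h1
    have hc1 : Nat.card (Qv P g t a ℓ) = p ^ ℓ := hS.card a ℓ (by omega)
    have hc2 : Nat.card (Qv P g t a (ℓ + 1)) = p ^ (ℓ + 1) := hS.card a (ℓ + 1) hℓ
    have hd1 : p ^ ℓ ∣ Nat.card C := by
      rw [← hc1]
      exact Subgroup.card_dvd_of_le hQle
    have hd2 : Nat.card C ∣ p ^ (ℓ + 1) := by
      rw [← hc2]
      exact Subgroup.card_dvd_of_le hCle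
    have hne : Nat.card C ≠ p ^ ℓ := by
      intro hc
      have heq : Qv P g t a ℓ = C := Subgroup.eq_of_le_of_card_ge hQle (by rw [hc, hc1])
      apply hxn
      rw [heq]
      exact hxC
    have hcard : Nat.card C = p ^ (ℓ + 1) := by
      obtain ⟨k, hk, hkc⟩ := (Nat.dvd_prime_pow hS.hp).mp hd2
      rw [hkc] at hd1 hne ⊢
      have h1 : ℓ ≤ k := (Nat.pow_dvd_pow_iff_le_right hS.hp.one_lt).mp hd1
      have h2 : k ≠ ℓ := fun h => hne (by rw [h])
      have h3 : k = ℓ + 1 := by omega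
      rw [h3]
    exact (Subgroup.eq_of_le_of_card_ge hCle (by rw [hcard, hc2])).symm

end Cfsg.Agent.Lib.Helper45.Shunt
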