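import Mathlib
import Cfsg.Agent.Lib.Helper45.HermBasic
import Cfsg.Agent.Lib.Helper45.HermCount
import Cfsg.Agent.Lib.Helper45.HermPlanes

set_option autoImplicit false

namespace Cfsg.Agent.Lib.Helper45

section NoTS

/-- The sign character of `ZMod 2`. -/
def chi2 (x : ZMod 2) : ℤ := if x = 0 then 1 else -1

theorem chi2_add (x y : ZMod 2) : chi2 (x + y) = chi2 x * chi2 y := by
  revert x y; decide

theorem chi2_zero : chi2 0 = 1 := rfl

theorem chi2_ne (x : ZMod 2) (hx : x ≠ 0) : chi2 x = -1 := by simp [chi2, hx]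

theorem chi2_ge (x : ZMod 2) : -1 ≤ chi2 x := by
  unfold chi2; split_ifs <;> norm_num

/-- Orthogonality for a nonzero additive character to `ZMod 2`. -/
theorem chi2_sum_eq_zero {A : Type*} [AddCommGroup A] [Fintype A] (l : A →+ ZMod 2) (a₁ : A)
    (h : l a₁ ≠ 0) : ∑ a : A, chi2 (l a) = 0 := by
  have e : ∑ a : A, chi2 (l (a + a₁)) = ∑ a : A, chi2 (l a) :=
    Fintype.sum_equiv (Equiv.addRight a₁) (fun a => chi2 (l (a + a₁))) (fun a => chi2 (l a))
      (fun _ => rfl)
  have e2 : ∑ a : A, chi2 (l (a + a₁)) = - ∑ a : A, chi2 (l a) := by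
    rw [← Finset.sum_neg_distrib]
    apply Finset.sum_congr rfl
    intro a _
    rw [map_add, chi2_add, chi2_ne _ h]; ring
  linarith

theorem sum_indicator_subgroup {F : Type*} [AddCommGroup F] [Fintype F] (P : AddSubgroup F)
    [Fintype P] [DecidablePred (· ∈ P)] (g : F → ℤ) :
    ∑ c : F, (if c ∈ P then g c else 0) = ∑ c : P, g c := by
  rw [← Finset.sum_filter]
  exact Finset.sum_subtype (Finset.univ.filter (· ∈ P)) (fun x => by simp) g

variable {F : Type*} [Field F] [Fintype F] {q : ℕ}

/-- The `𝔽₂`-quadratic form `f ∘ N` (norm to the subfield followed by a functional not vanishing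
on the subfield) has no totally singular subgroup of order `≥ q`. -/
theorem no_large_totally_singular (hF : Fintype.card F = q ^ 2) [CharP F 2]
    (W : AddSubgroup F) (hW : q ≤ Nat.card W) (f : F →+ ZMod 2)
    (hfW : ∀ w ∈ W, f (w ^ (q + 1)) = 0) (c₁ : F) (hc₁ : c₁ ^ q = c₁) (hfc : f c₁ ≠ 0) :
    False := by
  classical
  have hq2 := two_le_q hF
  haveI : Fintype W := Fintype.ofFinite W
  have hWcard : Nat.card W = Fintype.card W := Nat.card_eq_fintype_card
  have h2 : ∀ x : F, x + x = 0 := fun x => CharTwo.add_self_eq_zero x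
  have hN : ∀ v w : F, (v + w) ^ (q + 1) =
      v ^ (q + 1) + w ^ (q + 1) + (v ^ q * w + v * w ^ q) := by
    intro v w
    rw [pow_succ, conj_add hF, pow_succ, pow_succ]; ring
  have hβaddl : ∀ v v' w : F, (v + v') ^ q * w + (v + v') * w ^ q =
      (v ^ q * w + v * w ^ q) + (v' ^ q * w + v' * w ^ q) := by
    intro v v' w; rw [conj_add hF]; ring
  have hβaddr : ∀ v w w' : F, v ^ q * (w + w') + v * (w + w') ^ q =
      (v ^ q * w + v * w ^ q) + (v ^ q * w' + v * w' ^ q) := by
    intro v w w'; rw [conj_add hF]; ring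
  have hq0 : q ≠ 0 := by omega
  -- additive maps
  let βl : F → (F →+ ZMod 2) := fun w =>
    { toFun := fun v => f (v ^ q * w + v * w ^ q)
      map_zero' := by simp [zero_pow hq0]
      map_add' := fun v v' => by rw [hβaddl, map_add] }
  let βr : F → (F →+ ZMod 2) := fun v =>
    { toFun := fun w => f (v ^ q * w + v * w ^ q)
      map_zero' := by simp [zero_pow hq0]
      map_add' := fun w w' => by rw [hβaddr, map_add] }
  have hβl : ∀ v w, βl w v = f (v ^ q * w + v * w ^ q) := fun v w => rfl
  have hβr : ∀ v w, βr v w = f (v ^ q * w + v * w ^ q) := fun v w => rfl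
  have hQadd : ∀ v w : F, f ((v + w) ^ (q + 1)) =
      f (v ^ (q + 1)) + f (w ^ (q + 1)) + βr v w := by
    intro v w; rw [hN, map_add, map_add, hβr]
  -- the fixed field as an additive subgroup
  let Fq : AddSubgroup F :=
    { carrier := {c | c ^ q = c}
      zero_mem' := conj_zero hF
      add_mem' := fun {a b} ha hb => by
        show (a + b) ^ q = a + b
        rw [conj_add hF, ha, hb]
      neg_mem' := fun {a} ha => by
        show (-a) ^ q = -a
        rw [conj_neg hF, ha] }
  haveI : Fintype Fq := Fintype.ofFinite Fq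
  have hFqmem : ∀ c : F, c ∈ Fq ↔ c ^ q = c := fun c => Iff.rfl
  -- Step A
  have hE : ∑ c : Fq, chi2 (f c) = 0 :=
    chi2_sum_eq_zero (f.comp Fq.subtype) ⟨c₁, hc₁⟩ hfc
  have hm : ∀ c : F, ((Finset.univ.filter (fun v : F => v ^ (q + 1) = c)).card : ℤ) * chi2 (f c) =
      (q + 1 : ℤ) * (if c ∈ Fq then chi2 (f c) else 0) - (q : ℤ) * (if c = 0 then 1 else 0) := by
    intro c
    by_cases hc0 : c = 0
    · subst hc0
      have : (Finset.univ.filter (fun v : F => v ^ (q + 1) = 0)) = {0} := by
        ext v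
        simp only [Finset.mem_filter, Finset.mem_univ, true_and, Finset.mem_singleton]
        constructor
        · intro h; exact eq_zero_of_pow_eq_zero h
        · rintro rfl; exact zero_pow (by omega)
      rw [this, if_pos (Fq.zero_mem), if_pos rfl, map_zero, chi2_zero]
      simp
    · by_cases hcq : c ^ q = c
      · have h1 := norm_fiber_card hF c hc0 hcq
        rw [Nat.card_eq_fintype_card, Fintype.card_subtype] at h1
        rw [h1, if_pos ((hFqmem c).mpr hcq), if_neg hc0]
        push_cast; ring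
      · have : (Finset.univ.filter (fun v : F => v ^ (q + 1) = c)) = ∅ := by
          ext v
          simp only [Finset.mem_filter, Finset.mem_univ, true_and, Finset.notMem_empty, iff_false]
          intro h
          apply hcq
          rw [← h]; exact norm_fixed hF v
        rw [this, if_neg (fun h => hcq ((hFqmem c).mp h)), if_neg hc0]
        simp
  have hS : ∑ v : F, chi2 (f (v ^ (q + 1))) = -(q : ℤ) := by
    have e1 : ∑ v : F, chi2 (f (v ^ (q + 1))) =
        ∑ c : F, ((Finset.univ.filter (fun v : F => v ^ (q + 1) = c)).card : ℤ) * chi2 (f c) := by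
      rw [← Finset.sum_fiberwise (Finset.univ) (fun v : F => v ^ (q + 1))
        (fun v => chi2 (f (v ^ (q + 1))))]
      apply Finset.sum_congr rfl
      intro c _
      rw [Finset.sum_congr rfl (fun v hv => by rw [(Finset.mem_filter.mp hv).2]),
        Finset.sum_const, nsmul_eq_mul]
    rw [e1, Finset.sum_congr rfl (fun c _ => hm c), Finset.sum_sub_distrib, ← Finset.mul_sum,
      ← Finset.mul_sum, sum_indicator_subgroup Fq (fun c => chi2 (f c)), hE]
    simp
  -- Step B
  let Wperp : Finset F := Finset.univ.filter (fun v : F => ∀ w ∈ W, βr v w = 0)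
  have hI : ∀ v : F, ∑ w : W, chi2 (βr v w) = if v ∈ Wperp then (Fintype.card W : ℤ) else 0 := by
    intro v
    by_cases hv : v ∈ Wperp
    · rw [if_pos hv]
      have hv' := (Finset.mem_filter.mp hv).2
      rw [Finset.sum_congr rfl (fun w _ => by rw [hv' w w.2, chi2_zero])]
      simp
    · rw [if_neg hv]
      have hv' : ∃ w ∈ W, βr v w ≠ 0 := by
        by_contra hcon
        apply hv
        rw [Finset.mem_filter]
        refine ⟨Finset.mem_univ _, fun w hw => ?_⟩
        by_contra h
        exact hcon ⟨w, hw, h⟩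
      obtain ⟨w, hw, hne⟩ := hv'
      exact chi2_sum_eq_zero ((βr v).comp W.subtype) ⟨w, hw⟩ hne
  have hT1a : ∑ w : W, ∑ v : F, chi2 (f ((v + (w : F)) ^ (q + 1))) =
      (Fintype.card W : ℤ) * -(q : ℤ) := by
    have hw : ∀ w : W, ∑ v : F, chi2 (f ((v + (w : F)) ^ (q + 1))) = -(q : ℤ) := fun w =>
      (Fintype.sum_equiv (Equiv.addRight (w : F))
        (fun v => chi2 (f ((v + (w : F)) ^ (q + 1)))) (fun v => chi2 (f (v ^ (q + 1))))
        (fun _ => rfl)).trans hS
    rw [Finset.sum_congr rfl (fun w _ => hw w)]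
    simp
  have hT1b : ∑ w : W, ∑ v : F, chi2 (f ((v + (w : F)) ^ (q + 1))) =
      (Fintype.card W : ℤ) * ∑ v ∈ Wperp, chi2 (f (v ^ (q + 1))) := by
    rw [Finset.sum_comm]
    have : ∀ v : F, ∑ w : W, chi2 (f ((v + (w : F)) ^ (q + 1))) =
        chi2 (f (v ^ (q + 1))) * (if v ∈ Wperp then (Fintype.card W : ℤ) else 0) := by
      intro v
      rw [← hI v, Finset.mul_sum]
      apply Finset.sum_congr rfl
      intro w _
      rw [hQadd, hfW w w.2, add_zero, chi2_add]
    rw [Finset.sum_congr rfl (fun v _ => this v), Finset.mul_sum,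
      ← Finset.sum_subset (Finset.subset_univ Wperp) (fun v _ hv => by rw [if_neg hv, mul_zero])]
    apply Finset.sum_congr rfl
    intro v hv
    rw [if_pos hv]; ring
  have hWpos : (0 : ℤ) < Fintype.card W := by
    rw [← hWcard]
    have : 0 < Nat.card W := by omega
    exact_mod_cast this
  have hS' : ∑ v ∈ Wperp, chi2 (f (v ^ (q + 1))) = -(q : ℤ) := by
    have := hT1a.symm.trans hT1b
    exact (mul_left_cancel₀ hWpos.ne' this).symm
  -- Step C
  have hT2 : (Fintype.card W : ℤ) * (Wperp.card : ℤ) = (q : ℤ) ^ 2 := by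
    have e1 : ∑ v : F, ∑ w : W, chi2 (βr v w) = (Fintype.card W : ℤ) * (Wperp.card : ℤ) := by
      rw [Finset.sum_congr rfl (fun v _ => hI v), ← Finset.sum_filter]
      simp [Wperp, mul_comm]
    have e2 : ∑ v : F, ∑ w : W, chi2 (βr v w) = (q : ℤ) ^ 2 := by
      rw [Finset.sum_comm, Finset.sum_eq_single (0 : W)]
      · have : ∀ v : F, chi2 (βr v ((0 : W) : F)) = 1 := by
          intro v
          rw [AddSubgroup.coe_zero, map_zero, chi2_zero]
        rw [Finset.sum_congr rfl (fun v _ => this v)]
        simp [hF]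
      · intro w _ hw0
        have hw0' : (w : F) ≠ 0 := fun h => hw0 (Subtype.ext h)
        have hfib := card_trace_fiber hF (w : F) c₁ hw0' hc₁
        have hne : (Finset.univ.filter
            (fun t : F => c₁ + t ^ q * (w : F) + t * (w : F) ^ q = 0)).Nonempty := by
          rw [← Finset.card_pos, hfib]; omega
        obtain ⟨t, ht⟩ := hne
        have ht' := (Finset.mem_filter.mp ht).2
        have hval : t ^ q * (w : F) + t * (w : F) ^ q = c₁ := by
          have : t ^ q * (w : F) + t * (w : F) ^ q = -c₁ := by linear_combination ht'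
          rw [this]
          exact neg_eq_of_add_eq_zero_left (h2 c₁)
        have hne' : βl (w : F) t ≠ 0 := by rw [hβl, hval]; exact hfc
        exact chi2_sum_eq_zero (βl (w : F)) t hne'
      · intro h; exact absurd (Finset.mem_univ _) h
    rw [← e1, e2]
  -- Step D
  have hD : 2 * (Fintype.card W : ℤ) ≤ ∑ v ∈ Wperp, chi2 (f (v ^ (q + 1))) + (Wperp.card : ℤ) := by
    have hsub : Finset.univ.filter (fun v : F => v ∈ W) ⊆ Wperp := by
      intro v hv
      have hvW := (Finset.mem_filter.mp hv).2
      rw [Finset.mem_filter]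
      refine ⟨Finset.mem_univ _, fun w hw => ?_⟩
      have h1 := hQadd v w
      rw [hfW v hvW, hfW w hw, hfW (v + w) (W.add_mem hvW hw)] at h1
      simpa using h1.symm
    have hcardW : (Finset.univ.filter (fun v : F => v ∈ W)).card = Fintype.card W := by
      rw [Fintype.card_subtype]
    have e1 : ∑ v ∈ Wperp, chi2 (f (v ^ (q + 1))) + (Wperp.card : ℤ) =
        ∑ v ∈ Wperp, (chi2 (f (v ^ (q + 1))) + 1) := by
      rw [Finset.sum_add_distrib]; simp
    have e2 : ∑ v ∈ Finset.univ.filter (fun v : F => v ∈ W), (chi2 (f (v ^ (q + 1))) + 1) =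
        2 * (Fintype.card W : ℤ) := by
      rw [Finset.sum_congr rfl (fun v hv => by
        rw [hfW v (Finset.mem_filter.mp hv).2, chi2_zero]), Finset.sum_const, hcardW]
      simp; ring
    rw [e1, ← e2]
    apply Finset.sum_le_sum_of_subset_of_nonneg hsub
    intro v _ _
    have := chi2_ge (f (v ^ (q + 1)))
    linarith
  rw [hS'] at hD
  have hWq : (q : ℤ) ≤ Fintype.card W := by
    rw [← hWcard]; exact_mod_cast hW
  have hq' : (2 : ℤ) ≤ q := by exact_mod_cast hq2
  have hP0 : (0 : ℤ) ≤ Wperp.card := by positivity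
  nlinarith

end NoTS

end Cfsg.Agent.Lib.Helper45
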