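import Mathlib
import Cfsg.Agent.Lib.Helper45.SU3EvenSylow
import Cfsg.Agent.Lib.Helper45.SuzNoTS

set_option autoImplicit false

namespace Cfsg.Agent.Lib.Helper45

section SuzAut

variable {F : Type*} [Field F] [Fintype F] {q : ℕ}

/-- An automorphism with inner square of a group with the coordinates of the Sylow 2-subgroup of
`SU₃(q)`, `q` even, fixes the centre pointwise. -/
theorem suzuki_aut_center (hF : Fintype.card F = q ^ 2) (hch : CharP F 2) (hq4 : 4 ≤ q)
    (hpow : ∃ m : ℕ, q = 2 ^ m) {T : Type*} [Group T]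
    (c : T → F × F) (hinj : Function.Injective c)
    (hmul : ∀ x y, c (x * y) = ((c x).1 + (c y).1, (c x).2 + (c y).2 + (c x).1 ^ q * (c y).1))
    (hrange : ∀ a b : F, (∃ x, c x = (a, b)) ↔ b + b ^ q = a ^ (q + 1))
    (φ : T ≃* T) (hφ : ∀ x, ∃ s, φ (φ x) = s * x * s⁻¹) :
    ∀ z ∈ Subgroup.center T, φ z = z := by
  classical
  have h2 : ∀ x : F, x + x = 0 := fun x => CharTwo.add_self_eq_zero x
  have h2F : (2 : F) = 0 := CharTwo.two_eq_zero
  have hfin : Finite T := Finite.of_injective c hinj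
  have hfst : ∀ x y, (c (x * y)).1 = (c x).1 + (c y).1 := fun x y => by rw [hmul]
  have hsnd : ∀ x y, (c (x * y)).2 = (c x).2 + (c y).2 + (c x).1 ^ q * (c y).1 :=
    fun x y => by rw [hmul]
  have hq0 : q ≠ 0 := by omega
  have hq2 : 2 ≤ q := by omega
  have hc1a : (c 1).1 = 0 := by
    have h := hfst 1 1
    rw [mul_one, h2] at h
    exact h
  have hc1b : (c 1).2 = 0 := by
    have h := hsnd 1 1
    rw [mul_one, hc1a, h2, zero_pow hq0] at h
    rw [h]; ring
  have hcond : ∀ x, (c x).2 + (c x).2 ^ q = (c x).1 ^ (q + 1) := fun x => (hrange _ _).1 ⟨x, rfl⟩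
  have hext : ∀ x y, (c x).1 = (c y).1 → (c x).2 = (c y).2 → x = y :=
    fun x y h1 h2 => hinj (Prod.ext h1 h2)
  obtain ⟨hT, hZcard, -⟩ := suzuki_coords_structure hF hch hq4 hpow c hinj hmul hrange
  -- the homomorphism `a`
  let aH : T →* Multiplicative F :=
    { toFun := fun x => Multiplicative.ofAdd (c x).1
      map_one' := by rw [hc1a]; rfl
      map_mul' := fun x y => by rw [hfst]; rfl }
  have haH : ∀ x, aH x = Multiplicative.ofAdd (c x).1 := fun x => rfl
  have hker : ∀ x, x ∈ aH.ker ↔ (c x).1 = 0 := by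
    intro x
    rw [MonoidHom.mem_ker, haH]
    constructor
    · intro h
      exact congrArg Multiplicative.toAdd h
    · intro h
      rw [h]; rfl
  have hKle : aH.ker ≤ Subgroup.center T := by
    intro x hx
    rw [hker] at hx
    rw [Subgroup.mem_center_iff]
    intro y
    apply hext
    · rw [hfst, hfst, add_comm]
    · rw [hsnd, hsnd, hx, zero_pow hq0]; ring
  have hcardMF : Nat.card (Multiplicative F) = q ^ 2 := by
    rw [← hF, ← Nat.card_eq_fintype_card]
    exact Nat.card_congr Multiplicative.toAdd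
  have hKcard : q ≤ Nat.card aH.ker := by
    have h1 := Subgroup.card_mul_index aH.ker
    rw [Subgroup.index_ker, hT] at h1
    have h2' : Nat.card aH.range ≤ q ^ 2 := by
      rw [← hcardMF]
      exact Subgroup.card_le_card_group _
    by_contra hlt
    have hlt' : Nat.card aH.ker < q := by omega
    have : Nat.card aH.ker * Nat.card aH.range < q * q ^ 2 :=
      Nat.mul_lt_mul_of_lt_of_le hlt' h2' (by positivity)
    have e : q * q ^ 2 = q ^ 3 := by ring
    omega
  have hKeq : aH.ker = Subgroup.center T :=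
    Subgroup.eq_of_le_of_card_ge hKle (by rw [hZcard]; exact hKcard)
  have hKcard' : Nat.card aH.ker = q := by rw [hKeq, hZcard]
  have hZ : ∀ x : T, x ∈ Subgroup.center T ↔ (c x).1 = 0 := by
    intro x
    rw [← hKeq]
    exact hker x
  have hsq : ∀ x : T, (c (x * x)).1 = 0 := fun x => by rw [hfst, h2]
  have hsq2 : ∀ x : T, (c (x * x)).2 = (c x).1 ^ (q + 1) :=
    fun x => by rw [hsnd, h2, zero_add, pow_succ]
  have hone : ∀ x : T, (c x).1 = 0 → (c x).2 = 0 → x = 1 :=
    fun x h1 h2 => hext x 1 (h1.trans hc1a.symm) (h2.trans hc1b.symm)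
  have hZsq : ∀ x : T, (c x).1 = 0 → x * x = 1 := by
    intro x hx
    apply hone
    · exact hsq x
    · rw [hsq2, hx, zero_pow (by omega)]
  have hinvol : ∀ x : T, x * x = 1 → (c x).1 = 0 := by
    intro x hx
    have h5 := hsq2 x
    rw [hx, hc1b] at h5
    exact (pow_eq_zero_iff (by omega)).mp h5.symm
  have hφZ : ∀ x : T, (c x).1 = 0 → (c (φ x)).1 = 0 := by
    intro x hx
    apply hinvol
    rw [← map_mul, hZsq x hx, map_one]
  have hinva : ∀ x : T, (c x).1 + (c x⁻¹).1 = 0 := by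
    intro x
    rw [← hfst, mul_inv_cancel, hc1a]
  have haφφ : ∀ x : T, (c (φ (φ x))).1 = (c x).1 := by
    intro x
    obtain ⟨s, hs⟩ := hφ x
    rw [hs, hfst, hfst]
    linear_combination hinva s
  -- the homomorphism `δ`
  let δH : T →* Multiplicative F :=
    { toFun := fun x => Multiplicative.ofAdd ((c (φ x)).1 + (c x).1)
      map_one' := by rw [map_one, hc1a, add_zero]; rfl
      map_mul' := fun x y => by
        rw [map_mul, hfst, hfst, ← ofAdd_add]
        congr 1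
        ring }
  have hδH : ∀ x, δH x = Multiplicative.ofAdd ((c (φ x)).1 + (c x).1) := fun x => rfl
  have hM : ∀ x, x ∈ δH.ker ↔ (c (φ x)).1 = (c x).1 := by
    intro x
    rw [MonoidHom.mem_ker, hδH]
    constructor
    · intro h
      have h' : (c (φ x)).1 + (c x).1 = 0 := congrArg Multiplicative.toAdd h
      linear_combination h' - (c x).1 * h2F
    · intro h
      rw [h, h2]; rfl
  have hKM : aH.ker ≤ δH.ker := by
    intro x hx
    rw [hker] at hx
    rw [hM, hx, hφZ x hx]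
  let aM : ↥δH.ker →* Multiplicative F := aH.comp δH.ker.subtype
  have haM : ∀ x : ↥δH.ker, aM x = Multiplicative.ofAdd (c (x : T)).1 := fun x => rfl
  have haMker : aM.ker = aH.ker.subgroupOf δH.ker := by
    ext x
    rw [MonoidHom.mem_ker, Subgroup.mem_subgroupOf, MonoidHom.mem_ker]
    rfl
  have hMcard : Nat.card ↥δH.ker = q * Nat.card aM.range := by
    have h1 := Subgroup.card_mul_index aM.ker
    rw [Subgroup.index_ker, haMker,
      Nat.card_congr (Subgroup.subgroupOfEquivOfLe hKM).toEquiv, hKcard'] at h1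
    exact h1.symm
  have hrange_le : δH.range ≤ aM.range := by
    rintro _ ⟨x, rfl⟩
    have hy : φ x * x ∈ δH.ker := by
      rw [hM, map_mul, hfst, hfst, haφφ]; ring
    refine ⟨⟨φ x * x, hy⟩, ?_⟩
    rw [haM, hδH, hfst]
  have hTcard : q ^ 3 = Nat.card ↥δH.ker * Nat.card δH.range := by
    have h1 := Subgroup.card_mul_index δH.ker
    rw [Subgroup.index_ker, hT] at h1
    exact h1.symm
  have hrange_card : q ≤ Nat.card aM.range := by
    have h1 : Nat.card δH.range ≤ Nat.card aM.range := Subgroup.card_le_of_le hrange_le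
    rw [hMcard] at hTcard
    by_contra hlt
    have hlt' : Nat.card aM.range < q := by omega
    have h3 : q * Nat.card aM.range * Nat.card δH.range < q * q * q := by
      have hq' : 0 < q := by omega
      have h4 : q * Nat.card aM.range < q * q := Nat.mul_lt_mul_of_pos_left hlt' hq'
      exact Nat.mul_lt_mul_of_lt_of_le h4 (by omega) hq'
    have e : q * q * q = q ^ 3 := by ring
    omega
  -- the additive subgroup `W = a(M)`
  let W : AddSubgroup F :=
    { carrier := {w | ∃ x : T, (c (φ x)).1 = (c x).1 ∧ (c x).1 = w}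
      zero_mem' := ⟨1, by rw [map_one], hc1a⟩
      add_mem' := by
        rintro _ _ ⟨x, hx, rfl⟩ ⟨y, hy, rfl⟩
        exact ⟨x * y, by rw [map_mul, hfst, hfst, hx, hy], hfst x y⟩
      neg_mem' := by
        rintro _ ⟨x, hx, rfl⟩
        exact ⟨x, hx, (CharTwo.neg_eq _).symm⟩ }
  have hWmem : ∀ w : F, w ∈ W ↔ ∃ x : T, (c (φ x)).1 = (c x).1 ∧ (c x).1 = w := fun w => Iff.rfl
  have hWcard : q ≤ Nat.card W := by
    refine le_trans hrange_card (le_of_eq ?_)
    apply Nat.card_congr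
    refine (Equiv.subtypeEquiv Multiplicative.ofAdd ?_).symm
    intro w
    rw [hWmem]
    constructor
    · rintro ⟨x, hx, rfl⟩
      exact ⟨⟨x, (hM x).2 hx⟩, rfl⟩
    · rintro ⟨x, hx⟩
      refine ⟨x.1, (hM x.1).1 x.2, ?_⟩
      rw [haM] at hx
      exact Multiplicative.ofAdd.injective hx
  -- the subgroup `B₀` of values of `b` on fixed central elements
  let B₀ : AddSubgroup F :=
    { carrier := {b | ∃ z : T, (c z).1 = 0 ∧ φ z = z ∧ (c z).2 = b}
      zero_mem' := ⟨1, hc1a, map_one φ, hc1b⟩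
      add_mem' := by
        rintro _ _ ⟨z, hz, hφz, rfl⟩ ⟨z', hz', hφz', rfl⟩
        exact ⟨z * z', by rw [hfst, hz, hz', add_zero], by rw [map_mul, hφz, hφz'],
          by rw [hsnd, hz, zero_pow hq0, zero_mul, add_zero]⟩
      neg_mem' := by
        rintro _ ⟨z, hz, hφz, rfl⟩
        exact ⟨z, hz, hφz, (CharTwo.neg_eq _).symm⟩ }
  have hBmem : ∀ b : F, b ∈ B₀ ↔ ∃ z : T, (c z).1 = 0 ∧ φ z = z ∧ (c z).2 = b := fun b => Iff.rfl
  have hNW : ∀ w ∈ W, w ^ (q + 1) ∈ B₀ := by
    rintro _ ⟨x, hx, rfl⟩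
    refine ⟨x * x, hsq x, ?_, hsq2 x⟩
    have hz : (c (φ x * x⁻¹)).1 = 0 := by
      rw [hfst, hx]; exact hinva x
    have hzc := Subgroup.mem_center_iff.mp ((hZ _).2 hz)
    have hzz := hZsq _ hz
    have hφx : φ x = φ x * x⁻¹ * x := by group
    obtain ⟨z, hzdef⟩ : ∃ z, φ x * x⁻¹ = z := ⟨_, rfl⟩
    rw [hzdef] at hzc hzz hφx
    rw [map_mul, hφx]
    calc z * x * (z * x) = z * (x * z) * x := by group
      _ = z * (z * x) * x := by rw [hzc x]
      _ = (z * z) * (x * x) := by group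
      _ = x * x := by rw [hzz, one_mul]
  intro z₀ hz₀
  by_contra hne
  have hz₀a : (c z₀).1 = 0 := (hZ z₀).1 hz₀
  have hc₁ : (c z₀).2 ^ q = (c z₀).2 := by
    have h := hcond z₀
    rw [hz₀a, zero_pow (by omega)] at h
    linear_combination h - (c z₀).2 * h2F
  have hc₁B : (c z₀).2 ∉ B₀ := by
    rintro ⟨z, hz, hφz, hb⟩
    have : z = z₀ := hext z z₀ (hz.trans hz₀a.symm) hb
    rw [this] at hφz
    exact hne hφz
  -- separate by a functional
  letI : Algebra (ZMod 2) F := ZMod.algebra F 2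
  obtain ⟨f, hf1, hf2⟩ := Submodule.exists_dual_map_eq_bot_of_notMem
    (p := AddSubgroup.toZModSubmodule 2 B₀) (x := (c z₀).2) hc₁B inferInstance
  have hfB : ∀ b ∈ B₀, f b = 0 := by
    intro b hb
    have : f b ∈ (AddSubgroup.toZModSubmodule 2 B₀).map f := Submodule.mem_map_of_mem hb
    rw [hf2] at this
    exact this
  exact no_large_totally_singular hF W hWcard f.toAddMonoidHom
    (fun w hw => hfB _ (hNW w hw)) (c z₀).2 hc₁ hf1

/-- The Sylow 2-subgroups of `SU₃(2ⁿ)`, `n ≥ 2`: an automorphism with inner square fixes the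
centre pointwise. -/
theorem su3_even_sylow_aut_center {n : ℕ} (hn : 2 ≤ n) (hF : Fintype.card F = (2 ^ n) ^ 2)
    (P : Sylow 2 ↥(Cfsg.SU 3 F (2 ^ n))) {T : Type*} [Group T]
    (e : T ≃* ↥(P : Subgroup ↥(Cfsg.SU 3 F (2 ^ n))))
    (φ : T ≃* T) (hφ : ∀ x, ∃ s, φ (φ x) = s * x * s⁻¹) :
    ∀ z ∈ Subgroup.center T, φ z = z := by
  classical
  have hp : Fact (Nat.Prime 2) := ⟨Nat.prime_two⟩
  have hq4 : 4 ≤ 2 ^ n := by
    calc 4 = 2 ^ 2 := by norm_num
      _ ≤ 2 ^ n := Nat.pow_le_pow_right (by norm_num) hn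
  have hch : CharP F 2 := by
    obtain ⟨p, k, hpp, hchar, hq⟩ := q_prime_pow hF
    have hdvd : p ∣ 2 ^ n := by
      have hk : k ≠ 0 := by
        rintro rfl
        rw [pow_zero] at hq
        omega
      rw [hq]
      exact dvd_pow_self p hk
    have hp2 : p = 2 := (Nat.prime_dvd_prime_iff_eq hpp Nat.prime_two).mp
      (hpp.dvd_of_dvd_pow hdvd)
    rw [hp2] at hchar
    exact hchar
  have hSUcard := card_SU hF 3 (by norm_num)
  have hfinSU : Finite ↥(Cfsg.SU 3 F (2 ^ n)) := inferInstance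
  have hSUdvd : Nat.card ↥(Cfsg.SU 3 F (2 ^ n)) ∣
      (2 ^ n) ^ 3 * ((2 ^ n + 1) * ((2 ^ n) ^ 2 - 1) * ((2 ^ n) ^ 3 + 1)) := by
    refine Dvd.intro_left (2 ^ n + 1) ?_
    rw [hSUcard]
    simp [Finset.prod_range_succ]
  have hodd : Nat.Coprime 2 ((2 ^ n + 1) * ((2 ^ n) ^ 2 - 1) * ((2 ^ n) ^ 3 + 1)) := by
    rw [Nat.coprime_two_left]
    have he : Even (2 ^ n) := (Nat.even_pow.mpr ⟨even_two, by omega⟩)
    have h1 : Odd (2 ^ n + 1) := he.add_one
    have h2 : Odd ((2 ^ n) ^ 2 - 1) := by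
      have he2 : Even ((2 ^ n) ^ 2) := Nat.even_pow.mpr ⟨he, by norm_num⟩
      have hpos : 1 ≤ (2 ^ n) ^ 2 := Nat.one_le_pow _ _ (by omega)
      obtain ⟨r, hr⟩ := he2
      exact ⟨r - 1, by omega⟩
    have h3 : Odd ((2 ^ n) ^ 3 + 1) := (Nat.even_pow.mpr ⟨he, by norm_num⟩).add_one
    exact (h1.mul h2).mul h3
  have hU := suzuki_coords_structure hF hch hq4 ⟨n, rfl⟩ (unipCoord3 hF hch)
    (unipCoord3_injective hF hch) (unipCoord3_mul hF hch) (unipCoord3_range hF hch)
  have hUcard : Nat.card ↥(unipU3 hF hch) = (2 ^ n) ^ 3 := hU.1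
  have hS0p : IsPGroup 2 ↥(unipU3 hF hch) :=
    IsPGroup.of_card (n := n * 3) (by rw [hUcard, ← pow_mul])
  obtain ⟨Q, hQ⟩ := hS0p.exists_le_sylow
  obtain ⟨m, hm⟩ := IsPGroup.exists_card_eq Q.isPGroup'
  have hQle : Nat.card ↥(Q : Subgroup ↥(Cfsg.SU 3 F (2 ^ n))) ≤ (2 ^ n) ^ 3 := by
    have hQdvd : Nat.card ↥(Q : Subgroup ↥(Cfsg.SU 3 F (2 ^ n))) ∣
        (2 ^ n) ^ 3 * ((2 ^ n + 1) * ((2 ^ n) ^ 2 - 1) * ((2 ^ n) ^ 3 + 1)) :=
      (Subgroup.card_subgroup_dvd_card _).trans hSUdvd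
    rw [hm] at hQdvd ⊢
    have hcop : Nat.Coprime (2 ^ m) ((2 ^ n + 1) * ((2 ^ n) ^ 2 - 1) * ((2 ^ n) ^ 3 + 1)) :=
      Nat.Coprime.pow_left m hodd
    exact Nat.le_of_dvd (by positivity) (hcop.dvd_of_dvd_mul_right hQdvd)
  have hQeq : unipU3 hF hch = (Q : Subgroup ↥(Cfsg.SU 3 F (2 ^ n))) :=
    Subgroup.eq_of_le_of_card_ge hQ (by rw [hUcard]; exact hQle)
  let ψ : T ≃* ↥(unipU3 hF hch) :=
    (e.trans (Sylow.equiv P Q)).trans (MulEquiv.subgroupCongr hQeq.symm)
  exact suzuki_aut_center hF hch hq4 ⟨n, rfl⟩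
    (fun x => unipCoord3 hF hch (ψ x))
    ((unipCoord3_injective hF hch).comp ψ.injective)
    (fun x y => by
      show unipCoord3 hF hch (ψ (x * y)) = _
      rw [map_mul, unipCoord3_mul])
    (fun a b => by
      rw [← unipCoord3_range hF hch a b]
      constructor
      · rintro ⟨x, hx⟩
        exact ⟨ψ x, hx⟩
      · rintro ⟨g, hg⟩
        exact ⟨ψ.symm g, by
          show unipCoord3 hF hch (ψ (ψ.symm g)) = _
          rw [ψ.apply_symm_apply, hg]⟩)
    φ hφ

/-- An index-two overgroup of a Sylow 2-subgroup of `SU₃(2ⁿ)` contains its centre in its own. -/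
theorem su3_even_sylow_index_two {R : Type*} [Group R] {n : ℕ} (hn : 2 ≤ n)
    (hF : Fintype.card F = (2 ^ n) ^ 2)
    (P : Sylow 2 ↥(Cfsg.SU 3 F (2 ^ n))) (S' : Subgroup R)
    (e : ↥S' ≃* ↥(P : Subgroup ↥(Cfsg.SU 3 F (2 ^ n))))
    (hidx : S'.index = 2) :
    (Subgroup.center ↥S').map S'.subtype ≤ Subgroup.center R := by
  haveI : S'.Normal := Subgroup.normal_of_index_eq_two hidx
  rintro _ ⟨z, hz, rfl⟩
  rw [Subgroup.mem_center_iff]
  intro r
  by_cases hr : r ∈ S'
  · have h := Subgroup.mem_center_iff.mp hz ⟨r, hr⟩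
    exact congrArg Subtype.val h
  · have key := su3_even_sylow_aut_center hn hF P e (MulAut.conjNormal r)
      (fun x => ⟨⟨r * r, Subgroup.mul_self_mem_of_index_two hidx r⟩, by
        apply Subtype.ext
        rw [MulAut.conjNormal_apply, MulAut.conjNormal_apply]
        show r * (r * (x : R) * r⁻¹) * r⁻¹ = r * r * (x : R) * (r * r)⁻¹
        group⟩) z hz
    have h := congrArg Subtype.val key
    rw [MulAut.conjNormal_apply] at h
    show r * (z : R) = (z : R) * r
    calc r * (z : R) = r * (z : R) * r⁻¹ * r := by group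
      _ = (z : R) * r := by rw [h]

end SuzAut

end Cfsg.Agent.Lib.Helper45
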